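import Cfsg.Agent.Lib.S8ThreeLocal.AMainChecks
import Cfsg.Agent.Lib.A8ThreeLocal.Main
import Cfsg.Agent.S0111

/-!
The first case gives the symmetric group of degree eight.
-/

set_option autoImplicit false
set_option maxRecDepth 8000
set_option synthInstance.maxSize 1024

namespace CfsgLib.S8ThreeLocal

open Equiv Equiv.Perm CfsgLib.A8ThreeLocal

universe u

/-- Half of a subgroup meeting the complement of a subgroup of index two. -/
theorem card_index_two {G : Type u} [Group G] {K M : Subgroup G} (hM : M.index = 2) {x : G} (hx : x ∈ K)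
    (hxM : x ∉ M) : 2 * Nat.card (M.subgroupOf K) = Nat.card K := by
  haveI : M.Normal := Subgroup.normal_of_index_eq_two hM
  have h2 : M.relIndex K = 2 := by
    rcases (Nat.dvd_prime Nat.prime_two).1 (hM ▸ Subgroup.relIndex_dvd_index_of_normal M K) with h | h
    · exact absurd (Subgroup.relIndex_eq_one.1 h hx) hxM
    · exact h
  have := (M.subgroupOf K).card_mul_index
  rw [show (M.subgroupOf K).index = 2 from h2] at this
  omega

namespace Data

variable {G : Type u} [Group G] [Finite G] {L : Data G}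

theorem AHom.cent_V (A : L.AHom) {g : G} (ha : Commute g L.a) (hb : Commute g L.b) : g ∈ A.φ.range := by
  obtain ⟨m, -, x, hx, rfl⟩ := L.decomp ha hb
  exact mul_mem ⟨_, A.agree m⟩ (A.X_le x hx)

theorem AHom.φ_vals (A : L.AHom) : A.φ dA = L.a ∧ A.φ dB = L.b ∧ A.φ (swap 4 5) = L.j ∧
    A.φ (swap 0 1) = L.t := by
  obtain ⟨h1, h2, h3, h4, -, -⟩ := e35_vals
  exact ⟨h1 ▸ A.agree aN, h2 ▸ A.agree bN, h3 ▸ A.agree jN, h4 ▸ A.agree tN⟩

/-- The classes of the involutions of the subgroup. -/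
theorem AHom.class_of (A : L.AHom) {x : Perm (Fin 8)} (hAT : L.AT (A.φ x)) :
    ∃ h : Perm (Fin 8), h * dA * h⁻¹ = x := by
  obtain ⟨g, hg⟩ := hAT
  have hx : x * x = 1 := A.inj (by
    rw [map_mul, map_one, ← hg, show g * L.a * g⁻¹ * (g * L.a * g⁻¹) = g * (L.a * L.a) * g⁻¹ by group, L.a_sq]
    group)
  have h1 : x ≠ 1 := by
    rintro rfl
    rw [map_one] at hg
    exact L.a_ne_one (conj_eq_one_iff.1 hg)
  obtain ⟨r, hr, h, rfl⟩ := conj_reps x hx h1
  have hATr : L.AT (A.φ r) := by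
    have := (show L.AT (A.φ (h * r * h⁻¹)) from ⟨g, hg⟩).conj (A.φ h)⁻¹
    rwa [map_mul, map_mul, map_inv, show (A.φ h)⁻¹ * (A.φ h * A.φ r * (A.φ h)⁻¹) * (A.φ h)⁻¹⁻¹ = A.φ r by group]
      at this
  obtain ⟨hr2, hr'⟩ := hP_spec.2.2.2.1 r hr
  have hno : ∀ r ∈ ([swap 0 3 * swap 1 6 * swap 2 7, hP] : List (Perm (Fin 8))), ¬ L.AT (A.φ r) := by
    intro r hr ⟨q, hq⟩
    refine L.sep_a ?_ L.card36 ?_ q hq
    · rw [← map_pow, show (zN * uN) ^ 3 = 1 by decide +kernel, map_one]
    · rw [← A.agree]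
      exact Commute.map (reps_zu r hr).1 A.φ
  rcases hr' with rfl | rfl | rfl | rfl
  · exact ⟨h, rfl⟩
  · exact absurd hATr (by rw [A.φ_vals.2.2.1]; simpa using not_AT_j (L := L) 1)
  · exact absurd hATr (hno _ (by simp))
  · exact absurd hATr (hno _ (by simp))

/-- The involutions of the class of `j` in the subgroup are odd. -/
theorem AHom.j_odd (A : L.AHom) {x : Perm (Fin 8)} (hs : sign x = 1) (g : G) :
    g * L.j * g⁻¹ ≠ A.φ x := by
  intro e
  have hx : x * x = 1 := A.inj (by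
    rw [map_mul, map_one, ← e, show g * L.j * g⁻¹ * (g * L.j * g⁻¹) = g * (L.j * L.j) * g⁻¹ by group, L.j_sq]
    group)
  have h1 : x ≠ 1 := by
    rintro rfl
    rw [map_one] at e
    exact L.j_ne_one (conj_eq_one_iff.1 e)
  obtain ⟨r, hr, h, rfl⟩ := conj_reps x hx h1
  rw [map_mul, map_mul, map_inv] at e
  have hsr : sign r = 1 := by
    rw [map_mul, map_mul, map_inv, mul_comm (sign h) (sign r), mul_inv_cancel_right] at hs
    exact hs
  have e' : (A.φ h)⁻¹ * g * L.j * ((A.φ h)⁻¹ * g)⁻¹ = A.φ r := by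
    rw [show (A.φ h)⁻¹ * g * L.j * ((A.φ h)⁻¹ * g)⁻¹ = (A.φ h)⁻¹ * (g * L.j * g⁻¹) * A.φ h by group, e]
    group
  rcases (hP_spec.2.2.2.1 r hr).2 with rfl | rfl | rfl | rfl
  · rw [A.φ_vals.1] at e'
    exact L.a_ne_j _ e'
  · rw [hP_spec.2.2.2.2.1] at hsr
    exact absurd hsr (by decide)
  · exact absurd hsr (by decide +kernel)
  · obtain ⟨h1, h2⟩ := reps_zu hP (by simp)
    refine L.sep_j (x := A.φ hP) (v := L.z) ?_ ?_ ?_ _ e'
    · rw [← A.agree]; exact Commute.map h1 A.φ
    · exact Commute.map (by rw [commute_iff_eq]; decide +kernel : Commute zN (zN * uN)) L.ι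
    · intro hc
      exact h2 (A.inj (by rw [map_mul, map_mul, A.agree]; exact hc.eq.symm))

/-- A Sylow two-subgroup of the subgroup is one of the group. -/
theorem AHom.sylow_max (A : L.AHom) (P₀ : Sylow 2 (Perm (Fin 8))) (hK : K32 ≤ P₀) {P : Subgroup G}
    (hP : IsPGroup 2 P) (hle : (P₀ : Subgroup (Perm (Fin 8))).map A.φ ≤ P) :
    (P₀ : Subgroup (Perm (Fin 8))).map A.φ = P := by
  classical
  set T := (P₀ : Subgroup (Perm (Fin 8))).map A.φ with hT
  by_contra hne
  obtain ⟨g, hgP, hgT, hgn⟩ := exists_norm_step hP hle hne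
  have hrange : g ∈ A.φ.range → False := by
    intro hg
    obtain ⟨h, rfl⟩ := hg
    have hp : IsPGroup 2 (P.comap A.φ) := hP.comap_of_injective A.φ A.inj
    have heq := P₀.3 hp (Subgroup.map_le_iff_le_comap.1 hle)
    exact hgT ⟨h, heq ▸ hgP, rfl⟩
  apply hrange
  obtain ⟨haV, hbV, -⟩ := K32_spec
  obtain ⟨φa, φb, -, -⟩ := A.φ_vals
  have hab : L.a * L.b = A.φ (dA * dB) := by rw [map_mul, φa, φb]
  obtain ⟨x, hx, ex⟩ := hgn _ ⟨dA, hK haV, rfl⟩
  obtain ⟨y, hy, ey⟩ := hgn _ ⟨dB, hK hbV, rfl⟩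
  rw [φa] at ex
  rw [φb] at ey
  have exy : A.φ (x * y) = g * (L.a * L.b) * g⁻¹ := by rw [map_mul, ex, ey]; group
  have hxyc : x * y = y * x := A.inj (by
    have hc : Commute L.a L.b := Commute.map (by rw [commute_iff_eq]; decide +kernel : Commute aN bN) L.ι
    rw [map_mul, map_mul, ex, ey, show g * L.a * g⁻¹ * (g * L.b * g⁻¹) = g * (L.a * L.b) * g⁻¹ by group, hc.eq]
    group)
  obtain ⟨h, hhx, hh⟩ := four_class (A.class_of (x := x) ⟨g, ex.symm⟩)
    (A.class_of (x := y) (by rw [ey]; exact AT.conj (conj_a_V (Or.inl rfl)) g))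
    (A.class_of (x := x * y) (by rw [exy]; exact AT.conj (conj_a_V (Or.inr rfl)) g)) hxyc
  rcases hh with hhy | hhy
  · -- the first shape
    have hc : ∀ {v : Perm (Fin 8)} {w : G} {z : Perm (Fin 8)}, A.φ v = w → h * v * h⁻¹ = z →
        A.φ z = g * w * g⁻¹ → Commute ((A.φ h)⁻¹ * g) w := by
      intro v w z hv hz hw
      refine mul_inv_eq_iff_eq_mul.1 ?_
      rw [show (A.φ h)⁻¹ * g * w * ((A.φ h)⁻¹ * g)⁻¹ = (A.φ h)⁻¹ * (g * w * g⁻¹) * A.φ h by group, ← hw, ← hz,
        map_mul, map_mul, map_inv, hv]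
      group
    have hin := A.cent_V (hc φa hhx ex) (hc φb hhy ey)
    have hgr := mul_mem (show A.φ h ∈ A.φ.range from ⟨h, rfl⟩) hin
    rwa [mul_inv_cancel_left] at hgr
  · -- the second shape
    exfalso
    have hKmap : ∀ k ∈ K32, ∃ k' : Perm (Fin 8), A.φ k' = g * A.φ k * g⁻¹ := fun k hk => by
      obtain ⟨k', -, e⟩ := hgn _ ⟨k, hK hk, rfl⟩
      exact ⟨k', e⟩
    choose f hf using hKmap
    have hcomm : ∀ k (hk : k ∈ K32), ∀ {v z : Perm (Fin 8)} {w : G}, A.φ v = w → k * v = v * k →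
        A.φ z = g * w * g⁻¹ → f k hk * z = z * f k hk := by
      intro k hk v z w hv hc hz
      refine A.inj ?_
      rw [map_mul, map_mul, hf, hz, ← hv,
        show g * A.φ k * g⁻¹ * (g * A.φ v * g⁻¹) = g * (A.φ k * A.φ v) * g⁻¹ by group,
        show g * A.φ v * g⁻¹ * (g * A.φ k * g⁻¹) = g * (A.φ v * A.φ k) * g⁻¹ by group, ← map_mul, ← map_mul, hc]
    let F : K32 → {q : Perm (Fin 8) // q * dA = dA * q ∧ q * dY = dY * q} := fun k =>
      ⟨h⁻¹ * f k.1 k.2 * h, by
        obtain ⟨hkA, hkB, -⟩ := mem_K32.1 k.2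
        constructor
        · calc h⁻¹ * f k.1 k.2 * h * dA = h⁻¹ * (f k.1 k.2 * x) * h := by rw [← hhx]; group
            _ = h⁻¹ * (x * f k.1 k.2) * h := by rw [hcomm k.1 k.2 φa hkA ex]
            _ = _ := by rw [← hhx]; group
        · calc h⁻¹ * f k.1 k.2 * h * dY = h⁻¹ * (f k.1 k.2 * y) * h := by rw [← hhy]; group
            _ = h⁻¹ * (y * f k.1 k.2) * h := by rw [hcomm k.1 k.2 φb hkB ey]
            _ = _ := by rw [← hhy]; group⟩
    have hF : Function.Injective F := by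
      intro k k' e
      have e1 : f k.1 k.2 = f k'.1 k'.2 := mul_left_cancel (mul_right_cancel (congrArg Subtype.val e))
      have e2 := congrArg A.φ e1
      rw [hf, hf] at e2
      exact Subtype.ext (A.inj (mul_left_cancel (mul_right_cancel e2)))
    have := (Nat.card_le_card_of_injective F hF).trans cent_dY_le
    rw [K32_card] at this
    omega

/-- The subgroup of index two, as an instance of the characterisation of the alternating group. -/
theorem AHom.loc_half (A : L.AHom) {G₀ : Subgroup G} (h2 : G₀.index = 2)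
    (heven : ∀ x : Perm (Fin 8), A.φ x ∈ G₀ ↔ sign x = 1) : Nonempty (Loc G₀) := by
  classical
  have hj : L.j ∉ G₀ := by
    rw [← A.φ_vals.2.2.1, heven, hP_spec.2.2.2.2.1]
    decide
  have hιmem : ∀ m : N35, L.ι m ∈ G₀ ↔ sign (e35 m) = 1 := fun m => by rw [← A.agree, heven]
  let ι₀ : M35 →* G₀ := (L.ι.comp M35.subtype).codRestrict G₀ fun m => (hιmem _).2 (e35_M35 m)
  have hι₀ : ∀ m : M35, ((ι₀ m : G₀) : G) = L.ι m.1 := fun _ => rfl
  have zM1 : (zM : N35) = zN := rfl
  have uM1 : (uM : N35) = uN := rfl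
  have hval : ∀ i l : Fin 3, ((ι₀ (zM ^ i.val * uM ^ l.val) : G₀) : G) = L.ι (zN ^ i.val * uN ^ l.val) := by
    intro i l
    rw [hι₀, Subgroup.coe_mul, SubmonoidClass.coe_pow, SubmonoidClass.coe_pow, zM1, uM1]
  have hDG : L.D ≤ G₀ := by
    intro d hd
    obtain ⟨i, l, rfl⟩ := (L.memD d).1 hd
    rw [← hval]
    exact SetLike.coe_mem _
  set D₀ := L.D.subgroupOf G₀ with hD₀
  have hmemD₀ : ∀ g : G₀, g ∈ D₀ ↔ ∃ i j : Fin 3, g = ι₀ (zM ^ i.val * uM ^ j.val) := by
    intro g
    rw [hD₀, Subgroup.mem_subgroupOf, L.memD]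
    exact exists_congr fun i => exists_congr fun l => ⟨fun e => Subtype.ext (e.trans (hval i l).symm),
      fun e => (congrArg Subtype.val e).trans (hval i l)⟩
  have hHP : A.φ hP ∈ G₀ := (heven _).2 hP_spec.1
  have hHP2 : A.φ hP * A.φ hP = 1 := by rw [← map_mul, hP_spec.2.1, map_one]
  have hHPi : (A.φ hP)⁻¹ = A.φ hP := inv_eq_of_mul_eq_one_right hHP2
  have hHPz : A.φ hP * L.z * A.φ hP = L.u := by
    rw [show L.z = A.φ (e35 zN) from (A.agree zN).symm, ← map_mul, ← map_mul, hP_spec.2.2.1, A.agree]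
  have hHPu : A.φ hP * L.u * A.φ hP = L.z := by
    rw [← hHPz, show A.φ hP * (A.φ hP * L.z * A.φ hP) * A.φ hP = A.φ hP * A.φ hP * L.z * (A.φ hP * A.φ hP) by group,
      hHP2, one_mul, mul_one]
  have c360 : Nat.card (Subgroup.centralizer ({L.z} : Set G)) = 360 := by
    refine le_antisymm ?_ L.card_z
    let f : Subgroup.centralizer ({L.z} : Set G) → Fin 3 × Perm (Fin 5) := fun g =>
      ((L.mem_cz (Subgroup.mem_centralizer_singleton_iff.1 g.2)).choose.1 0,
        (L.mem_cz (Subgroup.mem_centralizer_singleton_iff.1 g.2)).choose.2)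
    have hf : Function.Injective f := by
      intro g g' e
      obtain ⟨e1, h1⟩ := (L.mem_cz (Subgroup.mem_centralizer_singleton_iff.1 g.2)).choose_spec
      obtain ⟨e2, h2'⟩ := (L.mem_cz (Subgroup.mem_centralizer_singleton_iff.1 g'.2)).choose_spec
      simp only [f, Prod.mk.injEq] at e
      refine Subtype.ext (e1.symm.trans ((congrArg L.ι (Prod.ext (three_det _ _ ?_ e.1) e.2)).trans e2))
      rcases h1 with u | u | u <;> rcases h2' with v | v | v <;> rw [u, v] <;> decide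
    have := Nat.card_le_card_of_injective f hf
    rwa [Nat.card_prod, Nat.card_fin, Nat.card_perm, Nat.card_fin, show Nat.factorial 5 = 120 from rfl] at this
  have hcover : ∀ g : G, g ∈ G₀ → g * L.z * g⁻¹ = L.z ∨ g * L.z * g⁻¹ = L.z⁻¹ →
      ∃ m : M35, L.ι m.1 = g := by
    intro g hg h
    obtain ⟨m, rfl⟩ := L.cover g h
    exact ⟨⟨m, e35_mem_M35 ((hιmem m).1 hg)⟩, rfl⟩
  have hcd : Subgroup.centralizer (D₀ : Set G₀) = D₀ := by
    ext g
    rw [Subgroup.mem_centralizer_iff]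
    constructor
    · intro h
      have hz := congrArg Subtype.val (h ⟨L.z, hDG L.z_mem⟩ (Subgroup.mem_subgroupOf.2 L.z_mem))
      have hu := congrArg Subtype.val (h ⟨L.u, hDG L.u_mem⟩ (Subgroup.mem_subgroupOf.2 L.u_mem))
      obtain ⟨i, l, e, he⟩ := L.mem_cd (g := (g : G)) hz.symm hu.symm
      rw [hD₀, Subgroup.mem_subgroupOf, L.memD]
      refine ⟨i, l, ?_⟩
      rcases Fin.exists_fin_two.1 ⟨e, rfl⟩ with he' | he'
      · rw [he, he', Fin.val_zero, pow_zero, mul_one]
      · exfalso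
        refine hj ?_
        have hmem : L.ι (zN ^ i.val * uN ^ l.val) ∈ G₀ := hDG ((L.memD _).2 ⟨i, l, rfl⟩)
        have := mul_mem (inv_mem hmem) g.2
        rwa [he, he', Fin.val_one, pow_one, map_mul _ _ jN, inv_mul_cancel_left] at this
    · intro hg d hd
      obtain ⟨i, l, e⟩ := (hmemD₀ d).1 hd
      obtain ⟨i', l', e'⟩ := (hmemD₀ g).1 hg
      rw [e, e', ← map_mul, ← map_mul]
      refine congrArg ι₀ ?_
      have : Commute zM uM := Subtype.ext (by decide +kernel : zN * uN = uN * zN)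
      exact (((Commute.refl zM).pow_pow i.val i'.val).mul_right (this.pow_pow i.val l'.val)).mul_left
        ((this.symm.pow_pow l.val i'.val).mul_right ((Commute.refl uM).pow_pow l.val l'.val)) |>.eq
  have c18 : Nat.card (Subgroup.centralizer ({ι₀ zM * ι₀ uM} : Set G₀)) = 18 ∧
      Nat.card (Subgroup.centralizer ({ι₀ zM} : Set G₀)) = 180 := by
    have key : ∀ x : G₀, Commute L.j (x : G) →
        2 * Nat.card (Subgroup.centralizer ({x} : Set G₀)) = Nat.card (Subgroup.centralizer ({(x : G)} : Set G)) := by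
      intro x hx
      rw [← card_index_two h2 (Subgroup.mem_centralizer_singleton_iff.2 hx.eq) hj]
      congr 1
      refine Nat.card_congr ⟨fun g => ⟨⟨g.1.1, Subgroup.mem_centralizer_singleton_iff.2
        (congrArg Subtype.val (Subgroup.mem_centralizer_singleton_iff.1 g.2))⟩, Subgroup.mem_subgroupOf.2 g.1.2⟩,
        fun g => ⟨⟨g.1.1, Subgroup.mem_subgroupOf.1 g.2⟩, Subgroup.mem_centralizer_singleton_iff.2
          (Subtype.ext (Subgroup.mem_centralizer_singleton_iff.1 g.1.2))⟩, fun g => rfl, fun g => rfl⟩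
    constructor
    · have h := key (ι₀ zM * ι₀ uM) (by
        rw [Subgroup.coe_mul, hι₀, hι₀, zM1, uM1, ← map_mul]
        exact Commute.map (by rw [commute_iff_eq]; decide +kernel : Commute jN (zN * uN)) L.ι)
      rw [Subgroup.coe_mul, hι₀, hι₀, zM1, uM1, ← map_mul L.ι, L.card36] at h
      omega
    · have h := key (ι₀ zM) (by
        rw [hι₀, zM1]
        exact Commute.map (by rw [commute_iff_eq]; decide +kernel : Commute jN zN) L.ι)
      rw [hι₀, zM1, c360] at h
      omega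
  have hND : Nat.card (Subgroup.normalizer (D₀ : Set G₀)) = 72 := by
    let S := {m : M35 // m.1.2 * c034 * m.1.2⁻¹ = c034 ∨ m.1.2 * c034 * m.1.2⁻¹ = c034⁻¹}
    have hS : Nat.card S = 36 := by
      rw [← norm_c034_card36]
      exact Nat.card_congr ⟨fun m => ⟨m.1.1, m.2, mem_M35.1 m.1.2⟩, fun x => ⟨⟨x.1, mem_M35.2 x.2.2⟩, x.2.1⟩,
        fun m => rfl, fun x => rfl⟩
    have hιN : ∀ m : S, ∀ d ∈ L.D, L.ι m.1.1 * d * (L.ι m.1.1)⁻¹ ∈ L.D := by
      intro m d hd
      obtain ⟨i, l, rfl⟩ := (L.memD d).1 hd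
      obtain ⟨i', hi'⟩ := zu_norm m.1.1.1 i
      obtain ⟨l', hl'⟩ : ∃ l' : Fin 3, m.1.1.2 * c034 ^ l.val * m.1.1.2⁻¹ = c034 ^ l'.val := by
        rw [← conj_pow]
        rcases m.2 with e | e <;> rw [e]
        exacts [(u_norm l).1, (u_norm l).2]
      rw [← map_inv, ← map_mul, ← map_mul, L.memD]
      refine ⟨i', l', L.ι_eq ?_⟩
      simp only [zN, uN, Prod.pow_mk, one_pow, Prod.mk_mul_mk, mul_one, one_mul, Prod.ext_iff, Prod.fst_mul,
        Prod.snd_mul, Prod.fst_inv, Prod.snd_inv]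
      exact ⟨hi', hl'⟩
    have hPN : ∀ d ∈ L.D, A.φ hP * d * (A.φ hP)⁻¹ ∈ L.D := by
      intro d hd
      obtain ⟨i, l, rfl⟩ := (L.memD d).1 hd
      rw [map_mul, map_pow, map_pow, show A.φ hP * (L.z ^ i.val * L.u ^ l.val) * (A.φ hP)⁻¹ =
        (A.φ hP * L.z * (A.φ hP)⁻¹) ^ i.val * (A.φ hP * L.u * (A.φ hP)⁻¹) ^ l.val by rw [conj_pow, conj_pow]; group,
        hHPi, hHPz, hHPu]
      exact mul_mem (pow_mem L.u_mem _) (pow_mem L.z_mem _)
    let F : Fin 2 × S → Subgroup.normalizer (D₀ : Set G₀) := fun x =>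
      ⟨⟨A.φ hP, hHP⟩ ^ x.1.val * ι₀ x.2.1, mul_mem (pow_mem (Loc.normalises_of fun d hd =>
        Subgroup.mem_subgroupOf.2 (hPN _ (Subgroup.mem_subgroupOf.1 hd))) _) (Loc.normalises_of fun d hd =>
        Subgroup.mem_subgroupOf.2 (hιN x.2 _ (Subgroup.mem_subgroupOf.1 hd)))⟩
    have hFb : Function.Bijective F := by
      constructor
      · intro x y e
        have e' : (A.φ hP) ^ x.1.val * L.ι x.2.1.1 = (A.φ hP) ^ y.1.val * L.ι y.2.1.1 :=
          congrArg (fun v : Subgroup.normalizer (D₀ : Set G₀) => ((v : G₀) : G)) e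
        have hne : ∀ m n : N35, A.φ hP * L.ι m ≠ L.ι n := by
          intro m n h
          have h' : A.φ hP = L.ι (n * m⁻¹) := by rw [map_mul, map_inv, ← h, mul_inv_cancel_right]
          rw [← A.agree] at h'
          have := congrArg (fun q : Perm (Fin 8) => q 0) (A.inj h')
          revert this
          generalize n * m⁻¹ = v
          rw [show v = (v.1, 1) * (1, v.2) by rw [Prod.mk_mul_mk, mul_one, one_mul], map_mul]
          intro this
          simp only [Equiv.Perm.mul_apply] at this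
          have h5 : ∀ q : Perm (Fin 5), e35 (1, q) 0 = 0 := by decide +kernel
          have h3 : ∀ p : Perm (Fin 3), hP 0 ≠ e35 (p, 1) 0 := by decide +kernel
          rw [h5] at this
          exact h3 _ this
        obtain ⟨xi, xm⟩ := x
        obtain ⟨yi, ym⟩ := y
        have hij : xi = yi := by
          rcases Fin.exists_fin_two.1 ⟨xi, rfl⟩ with h | h <;> rcases Fin.exists_fin_two.1 ⟨yi, rfl⟩ with h' | h' <;>
            subst h h'
          · rfl
          · exact absurd (by simpa using e'.symm) (hne ym.1.1 xm.1.1)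
          · exact absurd (by simpa using e') (hne xm.1.1 ym.1.1)
          · rfl
        subst hij
        exact Prod.ext rfl (Subtype.ext (Subtype.ext (L.inj (mul_left_cancel e'))))
      · rintro ⟨⟨g, hg⟩, hgN⟩
        have hconj : ∀ d ∈ L.D, g * d * g⁻¹ ∈ L.D := fun d hd => Subgroup.mem_subgroupOf.1
          ((Subgroup.mem_normalizer_iff.1 hgN ⟨d, hDG hd⟩).1 (Subgroup.mem_subgroupOf.2 hd))
        obtain ⟨i, l, hil⟩ := (L.memD _).1 (hconj L.z L.z_mem)
        obtain ⟨d1, d2, d3, d4⟩ := d_cases i l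
        have hcard : Nat.card (Subgroup.centralizer ({L.ι (zN ^ i.val * uN ^ l.val)} : Set G)) = 360 := by
          rw [← hil, card_cent_conj, c360]
        have h36 : i ≠ 0 → l ≠ 0 → False := by
          intro hi hl
          have e36 := L.card36
          rcases d4 hi hl with e | e | e | e <;> rw [e] at hcard <;>
            (try rw [map_mul L.ι (tN * _), map_mul L.ι tN, map_inv L.ι tN, card_cent_conj] at hcard) <;>
            (try rw [map_inv, card_cent_inv] at hcard) <;> omega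
        obtain ⟨n, hn, hnz⟩ : ∃ n : Fin 2, ∃ hn : (A.φ hP) ^ n.val ∈ G₀,
            ((A.φ hP) ^ n.val)⁻¹ * g * L.z * (((A.φ hP) ^ n.val)⁻¹ * g)⁻¹ = L.z ∨
            ((A.φ hP) ^ n.val)⁻¹ * g * L.z * (((A.φ hP) ^ n.val)⁻¹ * g)⁻¹ = L.z⁻¹ := by
          by_cases hl : l = 0
          · refine ⟨0, by simp, ?_⟩
            simp only [Fin.val_zero, pow_zero, inv_one, one_mul]
            by_cases hi : i = 0
            · exfalso
              rw [d1 hi hl, map_one] at hil
              exact L.z_ne_one (conj_eq_one_iff.1 hil)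
            · rcases d2 hi hl with e | e <;> rw [hil, e]
              exacts [Or.inl rfl, Or.inr (map_inv _ _)]
          · by_cases hi : i = 0
            · refine ⟨1, by simpa using hHP, ?_⟩
              simp only [Fin.val_one, pow_one]
              rw [show (A.φ hP)⁻¹ * g * L.z * ((A.φ hP)⁻¹ * g)⁻¹ = (A.φ hP)⁻¹ * (g * L.z * g⁻¹) * A.φ hP by group,
                hil, hHPi]
              rcases d3 hi hl with e | e <;> rw [e]
              · exact Or.inl hHPu
              · right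
                rw [map_inv, show L.z⁻¹ = (A.φ hP * L.u * A.φ hP)⁻¹ by rw [hHPu], mul_inv_rev, mul_inv_rev, hHPi,
                  mul_assoc]
            · exact (h36 hi hl).elim
        obtain ⟨m, hm⟩ := hcover _ (mul_mem (inv_mem hn) hg) hnz
        have hmD : L.ι m.1 * L.u * (L.ι m.1)⁻¹ ∈ L.D := by
          have h1 := hconj L.u L.u_mem
          have hback : ∀ d ∈ L.D, ((A.φ hP) ^ n.val)⁻¹ * d * ((A.φ hP) ^ n.val) ∈ L.D := by
            intro d hd
            fin_cases n
            · simpa using hd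
            · have := hPN d hd
              simpa [hHPi] using this
          rw [hm, show ((A.φ hP) ^ n.val)⁻¹ * g * L.u * (((A.φ hP) ^ n.val)⁻¹ * g)⁻¹ =
            ((A.φ hP) ^ n.val)⁻¹ * (g * L.u * g⁻¹) * (A.φ hP) ^ n.val by group]
          exact hback _ h1
        obtain ⟨i', l', hil'⟩ := (L.memD _).1 hmD
        have hmS := c034_pow_cases m.1.2 i' l' (L.inj (by
          rw [← hil', ← map_inv, ← map_mul, ← map_mul]
          exact L.ι_eq (Prod.ext (by simp [uN]) rfl)))
        refine ⟨(n, ⟨m, hmS⟩), Subtype.ext (Subtype.ext ?_)⟩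
        show (A.φ hP) ^ n.val * L.ι m.1 = g
        rw [hm, mul_inv_cancel_left]
    rw [← Nat.card_eq_of_bijective F hFb, Nat.card_prod, Nat.card_fin, hS]
  refine ⟨{
    ι := ι₀
    inj := fun m n e => Subtype.ext (L.inj (congrArg Subtype.val e))
    cover := fun g hg => ?_
    D := D₀
    memD := hmemD₀
    cardD := by rw [hD₀, Nat.card_congr (Subgroup.subgroupOfEquivOfLe hDG).toEquiv, L.cardD]
    notdvd := fun h => L.notdvd (h.trans (Subgroup.card_subgroup_dvd_card G₀))
    cd := hcd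
    cardND := hND
    conjU := ⟨⟨A.φ hP, hHP⟩, Subtype.ext (by
      show A.φ hP * L.ι (zM : N35) * (A.φ hP)⁻¹ = L.ι (uM : N35)
      rw [zM1, uM1, hHPi]; exact hHPz)⟩
    card18 := c18.1
    card180 := c18.2 }⟩
  obtain ⟨m, hm⟩ := hcover g g.2 (hg.imp (congrArg Subtype.val) (congrArg Subtype.val))
  exact ⟨m, Subtype.ext hm⟩

theorem AHom.nonempty_equiv (A : L.AHom) : Nonempty (G ≃* Perm (Fin 8)) := by
  classical
  haveI := Fact.mk Nat.prime_two
  obtain ⟨P₀, hK⟩ := (IsPGroup.of_card (p := 2) (n := 5) (by rw [K32_card]; norm_num) :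
    IsPGroup 2 K32).exists_le_sylow
  obtain ⟨P, hP⟩ := (P₀.2.map A.φ).exists_le_sylow
  have hPeq := A.sylow_max P₀ hK P.isPGroup' hP
  obtain ⟨-, -, φj, φt⟩ := A.φ_vals
  obtain ⟨-, -, h01⟩ := K32_spec
  obtain ⟨-, -, -, -, hs45, hs01, -, hconj⟩ := hP_spec
  set Q := ((P₀ : Subgroup (Perm (Fin 8))) ⊓ alternatingGroup (Fin 8)).map A.φ with hQ
  have htQ : L.t ∉ Q := by
    rintro ⟨v, hv, e⟩
    rw [← φt] at e
    have := Equiv.Perm.mem_alternatingGroup.1 hv.2
    rw [A.inj e, hs01] at this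
    exact absurd this (by decide)
  have hQle : Q ≤ P := (Subgroup.map_mono inf_le_left).trans hPeq.le
  have hQi : Q.relIndex (P : Subgroup G) = 2 := by
    rw [← hPeq, hQ, Subgroup.relIndex_map_map_of_injective _ _ A.inj, inf_comm, Subgroup.inf_relIndex_right]
    rcases (Nat.dvd_prime Nat.prime_two).1 ((alternatingGroup.index_eq_two (α := Fin 8)) ▸
      Subgroup.relIndex_dvd_index_of_normal (alternatingGroup (Fin 8)) (P₀ : Subgroup (Perm (Fin 8)))) with h | h
    · have := Equiv.Perm.mem_alternatingGroup.1 (Subgroup.relIndex_eq_one.1 h (hK h01))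
      rw [hs01] at this
      exact absurd this (by decide)
    · exact h
  have htP : L.t ∈ (P : Subgroup G) := hPeq.le ⟨swap 0 1, hK h01, φt⟩
  have htj : ∃ c : G, c * L.t * c⁻¹ = L.j :=
    ⟨A.φ (swap 0 4 * swap 1 5), by rw [← φt, ← φj, ← map_inv, ← map_mul, ← map_mul, hconj]⟩
  obtain ⟨c, hc⟩ := htj
  rcases Cfsg.Agent.S0111.result P Q hQle hQi L.t
    (orderOf_eq_prime (by rw [pow_two]; exact L.sq_one zN_spec.2.2.2.2.2.2.2.1)
      (L.ne_one zN_spec.2.2.2.2.2.2.2.2.1)) htP htQ with ⟨M, hMn, hM2, htM⟩ | ⟨g, hg⟩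
  swap
  · exfalso
    obtain ⟨v, hv, e⟩ := hg
    refine A.j_odd (Equiv.Perm.mem_alternatingGroup.1 hv.2) (g * c⁻¹) ?_
    rw [e, ← hc]; group
  haveI := hMn
  have hjM : L.j ∉ M := fun h => htM (by
    have := hMn.conj_mem _ h c⁻¹
    rwa [← hc, show c⁻¹ * (c * L.t * c⁻¹) * c⁻¹⁻¹ = L.t by group] at this)
  have heven : ∀ x : Perm (Fin 8), A.φ x ∈ M ↔ sign x = 1 := by
    have hA8 : alternatingGroup (Fin 8) ≤ M.comap A.φ := by
      rw [← Equiv.Perm.closure_three_cycles_eq_alternating, Subgroup.closure_le]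
      intro x hx
      rw [SetLike.mem_coe, Subgroup.mem_comap]
      have h3 : x ^ 3 = 1 := by rw [← hx.orderOf]; exact pow_orderOf_eq_one x
      rw [show x = (x ^ 2) ^ 2 by rw [← pow_mul, pow_succ, h3, one_mul], map_pow]
      exact Subgroup.sq_mem_of_index_two hM2 _
    intro x
    constructor
    · intro hx
      rcases Int.units_eq_one_or (sign x) with h | h
      · exact h
      · exfalso
        have he : x * swap 4 5 ∈ alternatingGroup (Fin 8) := by
          rw [Equiv.Perm.mem_alternatingGroup, map_mul, h, hs45]; rfl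
        have := mul_mem (inv_mem hx) (Subgroup.mem_comap.1 (hA8 he))
        rw [map_mul, inv_mul_cancel_left, φj] at this
        exact hjM this
    · intro hx
      exact hA8 (Equiv.Perm.mem_alternatingGroup.2 hx)
  obtain ⟨L₀⟩ := A.loc_half hM2 heven
  obtain ⟨eq⟩ := CfsgLib.A8ThreeLocal.Loc.nonempty_equiv L₀
  have hcard : Nat.card G = Nat.card (Perm (Fin 8)) := by
    rw [← M.card_mul_index, hM2, Nat.card_congr eq.toEquiv, nat_card_alternatingGroup, Nat.card_perm, Nat.card_fin]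
    decide
  exact ⟨(MulEquiv.ofBijective A.φ ((Nat.bijective_iff_injective_and_card _).2 ⟨A.inj, hcard.symm⟩)).symm⟩

/-- The first case gives the symmetric group of degree eight. -/
theorem caseA_equiv (hA : L.σ * L.t * L.σ = L.k) : Nonempty (G ≃* Perm (Fin 8)) := by
  rcases L.options_A hA with h | ⟨x, hx, hw⟩
  · exact absurd h L.not_small
  · obtain ⟨A⟩ := exists_AHom hA hx hw
    exact A.nonempty_equiv

end Data

end CfsgLib.S8ThreeLocal
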