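import Cfsg.Agent.Lib.S8ThreeLocal.BCentA
import Cfsg.Agent.Lib.A8ThreeLocal.Main
import Cfsg.Agent.Lib.Components

/-!
The second case: the group is the extension of two alternating groups of degree five by a four-group.
-/

set_option autoImplicit false
set_option maxRecDepth 8000
set_option synthInstance.maxSize 1024

namespace CfsgLib.S8ThreeLocal

open Equiv Equiv.Perm CfsgLib.A8ThreeLocal
open scoped commutatorElement

universe u

/-- The four classes of involutions of the product. -/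
def reps55 : List M55 :=
  [e55 1 a5 (by decide +kernel), e55 a5 1 (by decide +kernel), e55 a5 a5 rfl, e55 (swap 1 2) (swap 1 2) rfl]

theorem invol_M55 (m : M55) (hm : m * m = 1) (h1 : m ≠ 1) : ∃ r ∈ reps55, ∃ h : M55, h * r * h⁻¹ = m := by
  obtain ⟨⟨p, q⟩, hs⟩ := m
  have hsg : sign p = sign q := mem_M55.1 hs
  have hpp := congrArg Subtype.val hm
  have hp2 : p * p = 1 := congrArg Prod.fst hpp
  have hq2 : q * q = 1 := congrArg Prod.snd hpp
  rcases Int.units_eq_one_or (sign q) with hq | hq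
  · by_cases hp1 : p = 1
    · have hq1 : q ≠ 1 := fun e => h1 (Subtype.ext (Prod.ext hp1 e))
      obtain ⟨k, hk, ek⟩ := (invol_five q hq2 hq1).1 hq
      exact ⟨e55 1 a5 (by decide +kernel), by simp [reps55], e55 1 k (by rw [map_one, hk]), Subtype.ext (Prod.ext
        (show 1 * 1 * 1⁻¹ = p by rw [hp1]; group) ek)⟩
    obtain ⟨h, hh, eh⟩ := (invol_five p hp2 hp1).1 (hsg.trans hq)
    by_cases hq1 : q = 1
    · exact ⟨e55 a5 1 (by decide +kernel), by simp [reps55], e55 h 1 (by rw [map_one, hh]), Subtype.ext (Prod.ext eh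
        (show 1 * 1 * 1⁻¹ = q by rw [hq1]; group))⟩
    obtain ⟨k, hk, ek⟩ := (invol_five q hq2 hq1).1 hq
    exact ⟨e55 a5 a5 rfl, by simp [reps55], e55 h k (hh.trans hk.symm), Subtype.ext (Prod.ext eh ek)⟩
  · have hp1 : p ≠ 1 := by rintro rfl; rw [map_one, hq] at hsg; exact absurd hsg (by decide)
    have hq1 : q ≠ 1 := by rintro rfl; rw [map_one] at hq; exact absurd hq (by decide)
    obtain ⟨h, hh, eh⟩ := (invol_five p hp2 hp1).2 (hsg.trans hq)
    obtain ⟨k, hk, ek⟩ := (invol_five q hq2 hq1).2 hq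
    exact ⟨e55 (swap 1 2) (swap 1 2) rfl, by simp [reps55], e55 h k (hh.trans hk.symm),
      Subtype.ext (Prod.ext eh ek)⟩

/-- The preimage of the centraliser of `a`. -/
def CA55 : Subgroup M55 :=
  ((⊤ : Subgroup (Perm (Fin 5))).prod (Subgroup.centralizer ({a5} : Set (Perm (Fin 5))))).subgroupOf M55

theorem CA55_card : Nat.card CA55 = 480 := by
  have e : CA55 ≃ {x : Perm (Fin 5) × {q : Perm (Fin 5) // q * a5 = a5 * q} // sign x.1 = sign x.2.1} :=
    { toFun := fun m => ⟨(m.1.1.1, ⟨m.1.1.2, Subgroup.mem_centralizer_singleton_iff.1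
        (Subgroup.mem_subgroupOf.1 m.2).2⟩), mem_M55.1 m.1.2⟩
      invFun := fun x => ⟨e55 x.1.1 x.1.2.1 x.2, Subgroup.mem_subgroupOf.2 ⟨Subgroup.mem_top _,
        Subgroup.mem_centralizer_singleton_iff.2 x.1.2.2⟩⟩
      left_inv := fun m => rfl
      right_inv := fun x => rfl }
  rw [Nat.card_congr e, Nat.card_eq_fintype_card]
  decide +kernel

theorem swap_checks : b5 * swap 1 2 * b5⁻¹ = (swap 3 4 : Perm (Fin 5)) ∧ a5 * swap 1 2 = (swap 3 4 : Perm (Fin 5)) := by
  decide +kernel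

/-- The product of the two alternating groups. -/
def N55 : Subgroup M55 := ((alternatingGroup (Fin 5)).prod (alternatingGroup (Fin 5))).subgroupOf M55

theorem mem_N55 {m : M55} : m ∈ N55 ↔ sign m.1.1 = 1 ∧ sign m.1.2 = 1 := by
  rw [N55, Subgroup.mem_subgroupOf, Subgroup.mem_prod, Equiv.Perm.mem_alternatingGroup,
    Equiv.Perm.mem_alternatingGroup]

theorem N55_le : (alternatingGroup (Fin 5)).prod (alternatingGroup (Fin 5)) ≤ M55 := by
  rintro ⟨p, q⟩ ⟨hp, hq⟩
  rw [mem_M55, Equiv.Perm.mem_alternatingGroup.1 hp, Equiv.Perm.mem_alternatingGroup.1 hq]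

theorem N55_card : Nat.card N55 = 3600 := by
  rw [N55, Nat.card_congr (Subgroup.subgroupOfEquivOfLe N55_le).toEquiv,
    Nat.card_congr (Subgroup.prodEquiv _ _).toEquiv, Nat.card_prod, nat_card_alternatingGroup, Nat.card_fin]
  rfl

theorem M55_card : Nat.card M55 = 7200 := by
  have h := (M55 : Subgroup _).card_mul_index
  have hs : Function.Surjective sgn55 := by
    intro e
    refine ⟨((if e = 1 then 1 else swap 1 2), 1), ?_⟩
    rcases Int.units_eq_one_or e with rfl | rfl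
    · simp
    · show sign (if (-1 : ℤˣ) = 1 then (1 : Perm (Fin 5)) else swap 1 2) * sign (1 : Perm (Fin 5)) = -1
      rw [if_neg (by decide), map_one, mul_one, sign_swap (by decide)]
  rw [Subgroup.index_ker, MonoidHom.range_eq_top.2 hs, Subgroup.card_top, Nat.card_prod, Nat.card_perm, Nat.card_fin,
    show Nat.card ℤˣ = 2 by rw [Nat.card_eq_fintype_card]; rfl, show Nat.factorial 5 = 120 from rfl] at h
  omega

theorem quasisimple_A5 : Cfsg.IsQuasisimple (alternatingGroup (Fin 5)) := by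
  haveI := alternatingGroup.isSimpleGroup (α := Fin 5) (by simp)
  have hnc : ¬ IsMulCommutative (alternatingGroup (Fin 5)) := fun h => by
    have hc := congrArg Subtype.val (h.is_comm.comm (⟨a5, Equiv.Perm.mem_alternatingGroup.2 even_gens.2.1⟩ :
      alternatingGroup (Fin 5)) ⟨c034, Equiv.Perm.mem_alternatingGroup.2 even_gens.1⟩)
    exact absurd hc (by decide +kernel : a5 * c034 ≠ c034 * a5)
  have hz : Subgroup.center (alternatingGroup (Fin 5)) = ⊥ := by
    rcases IsSimpleGroup.eq_bot_or_eq_top_of_normal (Subgroup.center (alternatingGroup (Fin 5))) inferInstance with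
      h | h
    · exact h
    · exact absurd ⟨⟨fun a b => (Subgroup.mem_center_iff.mp (h.ge (Subgroup.mem_top a)) b).symm⟩⟩ hnc
  refine ⟨⟨?_⟩, ?_⟩
  · rcases IsSimpleGroup.eq_bot_or_eq_top_of_normal (commutator (alternatingGroup (Fin 5))) inferInstance with h | h
    · exfalso
      refine hnc ⟨⟨fun a b => ?_⟩⟩
      have h1 : ⁅a, b⁆ ∈ commutator (alternatingGroup (Fin 5)) :=
        Subgroup.commutator_mem_commutator (Subgroup.mem_top a) (Subgroup.mem_top b)
      rw [h, Subgroup.mem_bot] at h1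
      exact commutatorElement_eq_one_iff_mul_comm.mp h1
    · exact h
  · exact ((QuotientGroup.quotientMulEquivOfEq hz).trans QuotientGroup.quotientBot).isSimpleGroup

namespace Data

variable {G : Type u} [Group G] {L : Data G}

/-- The class of `ta`. -/
def MT (L : Data G) (x : G) : Prop := ∃ g : G, g * (L.t * L.a) * g⁻¹ = x

theorem MT.conj {x : G} (h : L.MT x) (g : G) : L.MT (g * x * g⁻¹) := by
  obtain ⟨n, rfl⟩ := h
  exact ⟨g * n, by group⟩

theorem MT_m : L.MT (L.t * L.a) := ⟨1, by group⟩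

theorem BCase.m_sq (B : L.BCase) : L.t * L.a * (L.t * L.a) = 1 := by
  rw [← B.φ_vals.2.2.2.1, ← map_mul, show e55 a5 a5 rfl * e55 a5 a5 rfl = 1 from
    Subtype.ext (Prod.ext (show a5 * a5 = 1 by decide +kernel) (show a5 * a5 = 1 by decide +kernel)), map_one]

/-- The involutions of the image. -/
theorem BCase.invol_range (B : L.BCase) {x : G} (hx : x ∈ B.φ.range) (h2 : x * x = 1) (h1 : x ≠ 1) :
    ∃ h ∈ B.φ.range, ∃ y : G, (y = L.a ∨ y = L.t ∨ y = L.t * L.a ∨ y = L.j) ∧ h * y * h⁻¹ = x := by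
  obtain ⟨m, rfl⟩ := hx
  obtain ⟨r, hr, h, rfl⟩ := invol_M55 m (B.inj (by rw [map_mul, h2, map_one]))
    (fun e => h1 (by rw [e, map_one]))
  obtain ⟨φa, -, φt, φm, φj, -, -⟩ := B.φ_vals
  refine ⟨B.φ h, ⟨h, rfl⟩, B.φ r, ?_, by rw [map_mul, map_mul, map_inv]⟩
  simp only [reps55, List.mem_cons, List.not_mem_nil, or_false] at hr
  rcases hr with rfl | rfl | rfl | rfl
  exacts [Or.inl φa, Or.inr (Or.inl φt), Or.inr (Or.inr (Or.inl φm)), Or.inr (Or.inr (Or.inr φj))]

/-- The involutions of the subgroup. -/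
theorem BCase.invol_H (B : L.BCase) {x : G} (hx : x ∈ B.H) (h2 : x * x = 1) (h1 : x ≠ 1) :
    ∃ h ∈ B.φ.range, ∃ y : G, (y = L.a ∨ y = L.t ∨ y = L.t * L.a ∨ y = L.j ∨ y = L.σ ∨ y = L.σ * L.j) ∧
      h * y * h⁻¹ = x := by
  rcases hx with hx | hx
  · obtain ⟨h, hh, y, hy, e⟩ := B.invol_range hx h2 h1
    exact ⟨h, hh, y, by rcases hy with u | u | u | u <;> simp [u], e⟩
  obtain ⟨⟨⟨p, q⟩, hs⟩, hm⟩ := hx
  have hsg : sign p = sign q := mem_M55.1 hs
  have hx' : x = B.φ ⟨(p, q), hs⟩ * L.σ := by rw [hm, mul_assoc, L.σ_sq, mul_one]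
  have hqp : q = p⁻¹ := by
    have h : (⟨(p, q), hs⟩ : M55) * sw55 ⟨(p, q), hs⟩ = 1 := B.inj (by
      rw [map_mul, ← B.swap_φ, map_one, ← h2, hx']; group)
    exact eq_inv_of_mul_eq_one_right (congrArg (fun z : M55 => z.1.1) h)
  subst hqp
  have hσφ : ∀ n : M55, L.σ * B.φ n = B.φ (sw55 n) * L.σ := fun n => by
    rw [← B.swap_φ, mul_assoc (L.σ * B.φ n), L.σ_sq, mul_one]
  rcases Int.units_eq_one_or (sign p) with hp | hp
  · refine ⟨B.φ (e55 p 1 (hp.trans (map_one _).symm)), ⟨_, rfl⟩, L.σ, by simp, ?_⟩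
    rw [hx', ← map_inv, mul_assoc, hσφ, ← mul_assoc, ← map_mul]
    refine congrArg (fun z => B.φ z * L.σ) (Subtype.ext (Prod.ext ?_ ?_))
    · show p * 1⁻¹ = p
      group
    · show 1 * p⁻¹ = p⁻¹
      group
  · refine ⟨B.φ (e55 (p * swap 1 2) 1 ((par_even _ hp).trans (map_one _).symm)), ⟨_, rfl⟩, L.σ * L.j, by simp, ?_⟩
    obtain ⟨-, -, -, -, φj, -, -⟩ := B.φ_vals
    rw [hx', ← φj, ← map_inv, ← mul_assoc, mul_assoc _ L.σ, hσφ, ← mul_assoc, mul_assoc _ L.σ, hσφ, ← mul_assoc,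
      ← map_mul, ← map_mul]
    refine congrArg (fun z => B.φ z * L.σ) (Subtype.ext (Prod.ext ?_ ?_))
    · show p * swap 1 2 * swap 1 2 * 1⁻¹ = p
      rw [mul_assoc p, swap_mul_self]; group
    · show 1 * swap 1 2 * (p * swap 1 2)⁻¹ = p⁻¹
      group

variable [Finite G]

theorem BCase.cent_a_conj (B : L.BCase) {g : G} {h : G} (hh : h ∈ B.φ.range) (e : g * L.a * g⁻¹ = h * L.a * h⁻¹) :
    g ∈ B.φ.range := by
  have hc : Commute (h⁻¹ * g) L.a := by
    refine mul_inv_eq_iff_eq_mul.1 ?_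
    rw [show h⁻¹ * g * L.a * (h⁻¹ * g)⁻¹ = h⁻¹ * (g * L.a * g⁻¹) * h by group, e]
    group
  have := mul_mem hh (B.cent_a hc)
  rwa [mul_inv_cancel_left] at this

theorem BCase.m_not_AT (B : L.BCase) : ¬ L.AT (L.t * L.a) := by
  rintro ⟨g, hg⟩
  classical
  obtain ⟨φa, -, -, φm, -, -, -⟩ := B.φ_vals
  set C0 := B.H ⊓ Subgroup.centralizer ({L.t * L.a} : Set G) with hC0
  have hle : C0.map (MulAut.conj g⁻¹).toMonoidHom ≤ CA55.map B.φ := by
    rintro _ ⟨x, hx, rfl⟩
    have hxm : Commute x (L.t * L.a) := Subgroup.mem_centralizer_singleton_iff.1 hx.2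
    simp only [MulEquiv.coe_toMonoidHom, MulAut.conj_apply, inv_inv]
    have hc : Commute (g⁻¹ * x * g) L.a := by
      have := hxm.map (MulAut.conj g⁻¹).toMonoidHom
      simp only [MulEquiv.coe_toMonoidHom, MulAut.conj_apply, inv_inv] at this
      rwa [show g⁻¹ * (L.t * L.a) * g = L.a by rw [← hg]; group] at this
    obtain ⟨m, hm⟩ := B.cent_a hc
    refine ⟨m, Subgroup.mem_subgroupOf.2 ⟨Subgroup.mem_top _, Subgroup.mem_centralizer_singleton_iff.2 ?_⟩, hm⟩
    have h : m * e55 1 a5 (by decide +kernel) = e55 1 a5 (by decide +kernel) * m :=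
      B.inj (by rw [map_mul, map_mul, hm, φa]; exact hc.eq)
    exact congrArg (fun z : M55 => z.1.2) h
  have h64 : Nat.card C0 = 64 := by
    have hσm : Commute L.σ (L.t * L.a) :=
      mul_inv_eq_iff_eq_mul.1 (by rw [L.σ_inv, (caseB_maps B.hB).2.2])
    have hcm : ∀ m : M55, m ∈ D55 → Commute (B.φ m) (L.t * L.a) := fun m hm => by
      rw [← φm]
      exact Commute.map (Subtype.ext (Prod.ext (mem_D55.1 hm).1 (mem_D55.1 hm).2)) B.φ
    have hmemD : ∀ m : M55, Commute (B.φ m) (L.t * L.a) → m ∈ D55 := fun m hm => by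
      have h : m * e55 a5 a5 rfl = e55 a5 a5 rfl * m := B.inj (by rw [map_mul B.φ, map_mul B.φ, φm]; exact hm.eq)
      exact mem_D55.2 ⟨congrArg (fun z : M55 => z.1.1) h, congrArg (fun z : M55 => z.1.2) h⟩
    have hnot : ∀ m : M55, B.φ m ≠ L.σ := by
      intro m hm
      have h := (caseB_maps B.hB).1
      obtain ⟨-, -, φt, -, -, -, -⟩ := B.φ_vals
      rw [← L.σ_conj, ← hm, ← φa, ← φt, ← map_inv, ← map_mul, ← map_mul] at h
      have h1 := congrArg (fun z : M55 => z.1.1) (B.inj h)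
      change m.1.1 * 1 * m.1.1⁻¹ = a5 at h1
      rw [mul_one, mul_inv_cancel] at h1
      exact absurd h1 (by decide +kernel)
    let F : Fin 2 × D55 → C0 := fun x => ⟨B.φ x.2.1 * L.σ ^ x.1.val,
      mul_mem (B.range_le ⟨_, rfl⟩) (pow_mem B.σ_mem _), Subgroup.mem_centralizer_singleton_iff.2
        ((hcm _ x.2.2).mul_left (hσm.pow_left _)).eq⟩
    have hF : Function.Bijective F := by
      constructor
      · rintro ⟨i, m⟩ ⟨l, n⟩ e
        have e' : B.φ m.1 * L.σ ^ i.val = B.φ n.1 * L.σ ^ l.val := congrArg Subtype.val e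
        fin_cases i <;> fin_cases l <;> simp only [pow_zero, pow_one, mul_one] at e'
        · exact Prod.ext rfl (Subtype.ext (B.inj e'))
        · exact absurd (by rw [map_mul, map_inv, e', inv_mul_cancel_left]) (hnot (n.1⁻¹ * m.1))
        · exact absurd (by rw [map_mul, map_inv, ← e', inv_mul_cancel_left]) (hnot (m.1⁻¹ * n.1))
        · exact Prod.ext rfl (Subtype.ext (B.inj (mul_right_cancel e')))
      · rintro ⟨x, hxH, hxC⟩
        have hxm : Commute x (L.t * L.a) := Subgroup.mem_centralizer_singleton_iff.1 hxC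
        rcases hxH with ⟨m, hm⟩ | ⟨m, hm⟩
        · exact ⟨(0, ⟨m, hmemD m (hm ▸ hxm)⟩), Subtype.ext (by
            show B.φ m * L.σ ^ 0 = x
            rw [pow_zero, mul_one, hm])⟩
        · exact ⟨(1, ⟨m, hmemD m (by rw [hm]; exact hxm.mul_left hσm)⟩), Subtype.ext (by
            show B.φ m * L.σ ^ 1 = x
            rw [pow_one, hm, mul_assoc, L.σ_sq, mul_one])⟩
    rw [← Nat.card_eq_of_bijective F hF, Nat.card_prod, Nat.card_fin, D55_card]
  have := Subgroup.card_dvd_of_le hle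
  rw [Subgroup.card_map_of_injective (MulAut.conj g⁻¹).injective, h64, Subgroup.card_map_of_injective B.inj,
    CA55_card] at this
  norm_num at this

/-- Control of fusion of the class of `a`. -/
theorem BCase.ctrlA (B : L.BCase) {g : G} (hg : g * L.a * g⁻¹ ∈ B.H) : g ∈ B.H := by
  have hAT : L.AT (g * L.a * g⁻¹) := AT_a.conj g
  obtain ⟨h, hh, y, hy, e⟩ := B.invol_H hg (by
    rw [show g * L.a * g⁻¹ * (g * L.a * g⁻¹) = g * (L.a * L.a) * g⁻¹ by group, L.a_sq]; group)
    (fun h => L.a_ne_one (conj_eq_one_iff.1 h))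
  have hyAT : L.AT y := by
    have := hAT.conj h⁻¹
    rwa [← e, show h⁻¹ * (h * y * h⁻¹) * h⁻¹⁻¹ = y by group] at this
  rcases hy with rfl | rfl | rfl | rfl | rfl | rfl
  · exact B.range_le (B.cent_a_conj hh e.symm)
  · have hσ : (L.σ * g) * L.a * (L.σ * g)⁻¹ = (L.σ * h * L.σ) * L.a * (L.σ * h * L.σ)⁻¹ := by
      rw [show L.σ * g * L.a * (L.σ * g)⁻¹ = L.σ * (g * L.a * g⁻¹) * L.σ⁻¹ by group, ← e, ← B.hB, mul_inv_rev,
        mul_inv_rev, L.σ_inv]
      calc L.σ * (h * L.t * h⁻¹) * L.σ = L.σ * h * (L.σ * L.σ) * L.t * (L.σ * L.σ) * (h⁻¹ * L.σ) := by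
            rw [L.σ_sq, mul_one, mul_one]; group
        _ = _ := by group
    have := B.range_le (B.cent_a_conj (B.σ_conj_mem hh) hσ)
    have h2 := mul_mem B.σ_mem this
    rwa [← mul_assoc, L.σ_sq, one_mul] at h2
  · exact absurd hyAT B.m_not_AT
  · exact absurd hyAT (by simpa using not_AT_j (L := L) 1)
  · exact absurd hyAT (not_AT_σ (L := L)).1
  · exact absurd hyAT (not_AT_σ (L := L)).2

/-- Centralisers of elements of the class of `a` in the subgroup. -/
theorem BCase.cent_AT (B : L.BCase) {y c : G} (hy : y ∈ B.H) (hat : L.AT y) (hc : Commute c y) : c ∈ B.H := by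
  obtain ⟨n, rfl⟩ := hat
  have hn := B.ctrlA hy
  have hcn : c * n ∈ B.H := B.ctrlA (by
    rw [show c * n * L.a * (c * n)⁻¹ = c * (n * L.a * n⁻¹) * c⁻¹ by group, hc.eq, mul_inv_cancel_right]
    exact hy)
  simpa using mul_mem hcn (inv_mem hn)

theorem BCase.cent_m (B : L.BCase) {g : G} (hg : Commute g (L.t * L.a)) : g ∈ B.H := by
  classical
  obtain ⟨φa, φb, φt, φm, -, -, -⟩ := B.φ_vals
  have hta : Commute L.t L.a := Commute.map (by rw [commute_iff_eq]; decide +kernel : Commute tN aN) L.ι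
  have cab : Commute L.a L.b := Commute.map (by rw [commute_iff_eq]; decide +kernel : Commute aN bN) L.ι
  have ctb : Commute L.t L.b := Commute.map (by rw [commute_iff_eq]; decide +kernel : Commute tN bN) L.ι
  have hm1 : L.t * L.a ≠ 1 := by
    rw [← map_mul]; exact L.ne_one (by decide +kernel)
  have ham : L.a ≠ L.t * L.a := by
    rw [← map_mul]; exact fun e => absurd (L.inj e) (by decide +kernel)
  have tH : L.t ∈ B.H := B.range_le (B.ι_mem tN)
  have aH : L.a ∈ B.H := B.range_le (B.ι_mem aN)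
  have bH : L.b ∈ B.H := B.range_le (B.ι_mem bN)
  have hatm : L.a * (L.t * L.a) = L.t := by
    rw [hta.eq, ← mul_assoc, L.a_sq, one_mul]
  obtain ⟨O, hOm, hOodd, hOn, hOR⟩ := zstar_reduce (m := L.t * L.a) (a := L.a) B.m_sq hm1 L.a_sq
    ((hta.symm.mul_right (Commute.refl _))) L.a_ne_one ham (by
    intro g hg hc
    set w := g * L.a * g⁻¹ with hw
    have hATw : L.AT w := AT_a.conj g
    have hwm : Commute w (L.t * L.a) := by
      rw [hw]
      have hag : Commute L.a (L.t * L.a) := hta.symm.mul_right (Commute.refl _)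
      exact (hg.mul_left hag).mul_left hg.inv_left
    have hw2 : w * w = 1 := by
      rw [hw, show g * L.a * g⁻¹ * (g * L.a * g⁻¹) = g * (L.a * L.a) * g⁻¹ by group, L.a_sq]; group
    have hwH : w ∈ B.H := by
      rcases hc with e | e
      · exact B.cent_AT aH AT_a (show Commute w L.a from e)
      · refine B.ctrlA ?_
        rw [e, mul_assoc L.a w, hwm.eq, ← mul_assoc, mul_inv_cancel_right, hatm]
        exact tH
    have hw1 : w ≠ 1 := fun h => L.a_ne_one (conj_eq_one_iff.1 h)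
    have hwt : L.AT (w * (L.t * L.a)) := by
      have : w * (L.t * L.a) = g * L.t * g⁻¹ := by
        rw [hw, show g * L.t * g⁻¹ = g * (L.a * (L.t * L.a)) * g⁻¹ by rw [hatm],
          show g * (L.a * (L.t * L.a)) * g⁻¹ = g * L.a * g⁻¹ * (g * (L.t * L.a) * g⁻¹) by group, hg.eq,
          mul_inv_cancel_right]
      rw [this]
      exact AT.conj (show L.AT L.t by rw [← (caseB_maps B.hB).1]; exact AT_a.sigma) g
    obtain ⟨h, ⟨n, rfl⟩, y, hy, e⟩ := B.invol_H hwH hw2 hw1
    have hyAT : L.AT y := by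
      have := hATw.conj (B.φ n)⁻¹
      rwa [← e, show (B.φ n)⁻¹ * (B.φ n * y * (B.φ n)⁻¹) * (B.φ n)⁻¹⁻¹ = y by group] at this
    have conclude : ∀ p q : Perm (Fin 5), ∀ hs : sign p = sign q, w = B.φ (e55 p q hs) →
        (p = 1 ∨ q = 1) → w = L.a ∨ w = L.a * (L.t * L.a) := by
      intro p q hs hpq h1
      set z := B.φ (e55 p q hs * e55 a5 a5 rfl) with hz
      have hzAT : L.AT z := by rw [hz, map_mul, φm, ← hpq]; exact hwt
      have hzm : z * z = 1 := by
        obtain ⟨k, hk⟩ := hzAT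
        rw [← hk, show k * L.a * k⁻¹ * (k * L.a * k⁻¹) = k * (L.a * L.a) * k⁻¹ by group, L.a_sq]; group
      have hz1 : z ≠ 1 := fun h => by
        obtain ⟨k, hk⟩ := hzAT
        rw [h] at hk
        exact L.a_ne_one (conj_eq_one_iff.1 hk)
      obtain ⟨k, ⟨k', rfl⟩, y', hy', e'⟩ := B.invol_range ⟨_, hz.symm⟩ hzm hz1
      have hy'AT : L.AT y' := by
        have := hzAT.conj (B.φ k')⁻¹
        rwa [← e', show (B.φ k')⁻¹ * (B.φ k' * y' * (B.φ k')⁻¹) * (B.φ k')⁻¹⁻¹ = y' by group] at this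
      have key : ∀ p' q' : Perm (Fin 5), ∀ hs' : sign p' = sign q', y' = B.φ (e55 p' q' hs') →
          k'.1.1 * p' * k'.1.1⁻¹ = p * a5 ∧ k'.1.2 * q' * k'.1.2⁻¹ = q * a5 := by
        intro p' q' hs' hy''
        rw [hy'', ← map_inv, ← map_mul, ← map_mul, hz] at e'
        have h := B.inj e'
        exact ⟨congrArg (fun z : M55 => z.1.1) h, congrArg (fun z : M55 => z.1.2) h⟩
      rcases h1 with hp | hq
      · subst hp
        left
        rcases hy' with h | h | h | h
        · rw [← φa] at h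
          have := (key _ _ _ h).1
          rw [mul_one, mul_inv_cancel, one_mul] at this
          exact absurd this.symm (by decide +kernel)
        · rw [← φt] at h
          have := (key _ _ _ h).2
          rw [mul_one, mul_inv_cancel] at this
          have hq : q = a5 := by
            rw [eq_comm, mul_eq_one_iff_eq_inv] at this
            rw [this]; decide +kernel
          rw [hpq, ← φa]
          exact congrArg B.φ (Subtype.ext (Prod.ext rfl hq))
        · exact absurd (h ▸ hy'AT) B.m_not_AT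
        · exact absurd (h ▸ hy'AT) (by simpa using not_AT_j (L := L) 1)
      · subst hq
        right
        rcases hy' with h | h | h | h
        · rw [← φa] at h
          have := (key _ _ _ h).1
          rw [mul_one, mul_inv_cancel] at this
          have hp : p = a5 := by
            rw [eq_comm, mul_eq_one_iff_eq_inv] at this
            rw [this]; decide +kernel
          rw [hpq, hatm, ← φt]
          exact congrArg B.φ (Subtype.ext (Prod.ext hp rfl))
        · rw [← φt] at h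
          have := (key _ _ _ h).2
          rw [mul_one, mul_inv_cancel, one_mul] at this
          exact absurd this.symm (by decide +kernel)
        · exact absurd (h ▸ hy'AT) B.m_not_AT
        · exact absurd (h ▸ hy'AT) (by simpa using not_AT_j (L := L) 1)
    rcases hy with rfl | rfl | rfl | rfl | rfl | rfl
    · rw [← φa, ← map_inv, ← map_mul, ← map_mul] at e
      exact conclude _ _ (mem_M55.1 (n * e55 1 a5 (by decide +kernel) * n⁻¹).2) e.symm
        (Or.inl (show n.1.1 * 1 * n.1.1⁻¹ = 1 by rw [mul_one, mul_inv_cancel]))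
    · rw [← φt, ← map_inv, ← map_mul, ← map_mul] at e
      exact conclude _ _ (mem_M55.1 (n * e55 a5 1 (by decide +kernel) * n⁻¹).2) e.symm
        (Or.inr (show n.1.2 * 1 * n.1.2⁻¹ = 1 by rw [mul_one, mul_inv_cancel]))
    · exact absurd hyAT B.m_not_AT
    · exact absurd hyAT (by simpa using not_AT_j (L := L) 1)
    · exact absurd hyAT (not_AT_σ (L := L)).1
    · exact absurd hyAT (not_AT_σ (L := L)).2)
  have hOH : O ≤ B.H := by
    have cbm : Commute L.b (L.t * L.a) := ctb.symm.mul_right cab.symm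
    have cam : Commute L.a (L.t * L.a) := hta.symm.mul_right (Commute.refl _)
    refine klein_le L.a_sq L.b_sq cab L.a_ne_one (L.ne_one (by decide +kernel))
      (fun e => absurd (L.inj e) (by decide +kernel)) hOodd (fun o ho => hOn L.a cam o ho)
      (fun o ho => hOn L.b cbm o ho) (fun o _ hc => B.cent_AT aH AT_a hc)
      (fun o _ hc => B.cent_AT bH (conj_a_V (Or.inl rfl)) hc)
      (fun o _ hc => B.cent_AT (mul_mem aH bH) (conj_a_V (Or.inr rfl)) hc)
  obtain ⟨o, ho, e⟩ := hOR g hg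
  refine B.ctrlA ?_
  have : g * L.a * g⁻¹ * L.a⁻¹ ∈ B.H := by
    rcases e with e | e <;> rw [e]
    exacts [hOH ho, mul_mem (mul_mem tH aH) (hOH ho)]
  simpa using mul_mem this aH

theorem BCase.cent_m_pow (B : L.BCase) {g : G} (hg : Commute g (L.t * L.a)) : g ^ 8 = 1 := by
  obtain ⟨-, -, -, φm, -, -, -⟩ := B.φ_vals
  have key : ∀ n : M55, Commute (B.φ n) (L.t * L.a) → B.φ n ^ 4 = 1 := by
    intro n hn
    have h : n * e55 a5 a5 rfl = e55 a5 a5 rfl * n := B.inj (by rw [map_mul B.φ, map_mul B.φ, φm]; exact hn.eq)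
    have h4 : n ^ 4 = 1 := Subtype.ext (by
      rw [SubmonoidClass.coe_pow]
      exact Prod.ext (cent_a_pow _ (congrArg (fun z : M55 => z.1.1) h))
        (cent_a_pow _ (congrArg (fun z : M55 => z.1.2) h)))
    rw [← map_pow, h4, map_one]
  rcases B.cent_m hg with ⟨n, rfl⟩ | ⟨n, hn⟩
  · rw [show (8 : ℕ) = 4 * 2 from rfl, pow_mul, key n hg, one_pow]
  · have hσm : Commute L.σ (L.t * L.a) := mul_inv_eq_iff_eq_mul.1 (by rw [L.σ_inv, (caseB_maps B.hB).2.2])
    have hgg : g * g = B.φ (n * sw55 n) := by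
      rw [map_mul, ← B.swap_φ, hn, show g * L.σ * (L.σ * (g * L.σ) * L.σ) = g * (L.σ * L.σ) * g * (L.σ * L.σ) by group,
        L.σ_sq, mul_one, mul_one]
    rw [show (8 : ℕ) = 2 * 4 from rfl, pow_mul, pow_two, hgg]
    exact key _ (hgg ▸ hg.mul_left hg)

theorem BCase.not_MT_three (B : L.BCase) {x w : G} (hw3 : w ^ 3 = 1) (hw1 : w ≠ 1) (hc : Commute w x) :
    ¬ L.MT x := by
  rintro ⟨n, rfl⟩
  have hc' := hc.map (MulAut.conj n⁻¹).toMonoidHom
  simp only [MulEquiv.coe_toMonoidHom, MulAut.conj_apply, inv_inv] at hc'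
  rw [show n⁻¹ * (n * (L.t * L.a) * n⁻¹) * n = L.t * L.a by group] at hc'
  have h3 : (n⁻¹ * w * n) ^ 3 = 1 := by
    rw [show n⁻¹ * w * n = n⁻¹ * w * n⁻¹⁻¹ by group, conj_pow, hw3]; group
  have := pow_gcd_eq_one.2 ⟨B.cent_m_pow hc', h3⟩
  rw [show Nat.gcd 8 3 = 1 from rfl, pow_one] at this
  refine hw1 ?_
  calc w = n * (n⁻¹ * w * n) * n⁻¹ := by group
    _ = 1 := by rw [this]; group

theorem BCase.MT_H (B : L.BCase) {x : G} (hx : x ∈ B.H) (hm : L.MT x) :
    ∃ h ∈ B.φ.range, h * (L.t * L.a) * h⁻¹ = x := by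
  have h2 : x * x = 1 := by
    obtain ⟨n, rfl⟩ := hm
    rw [show n * (L.t * L.a) * n⁻¹ * (n * (L.t * L.a) * n⁻¹) = n * (L.t * L.a * (L.t * L.a)) * n⁻¹ by group,
      B.m_sq]
    group
  have h1 : x ≠ 1 := by
    rintro rfl
    obtain ⟨n, hn⟩ := hm
    have := conj_eq_one_iff.1 hn
    rw [← map_mul] at this
    exact L.ne_one (by decide +kernel) this
  obtain ⟨h, hh, y, hy, e⟩ := B.invol_H hx h2 h1
  have hyMT : L.MT y := by
    have := hm.conj h⁻¹
    rwa [← e, show h⁻¹ * (h * y * h⁻¹) * h⁻¹⁻¹ = y by group] at this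
  have hzu3 : L.ι (zN * uN) ^ 3 = 1 := by rw [← map_pow, show (zN * uN) ^ 3 = 1 by decide +kernel, map_one]
  have hzu1 : L.ι (zN * uN) ≠ 1 := L.ne_one (by decide +kernel)
  rcases hy with rfl | rfl | rfl | rfl | rfl | rfl
  · exact absurd hyMT (B.not_MT_three L.z_pow L.z_ne_one
      (Commute.map (by rw [commute_iff_eq]; decide +kernel : Commute zN aN) L.ι))
  · exact absurd hyMT (B.not_MT_three (w := L.u) (by rw [← map_pow, zN_spec.2.2.1, map_one])
      (L.ne_one zN_spec.2.2.2.1) (Commute.map (by rw [commute_iff_eq]; decide +kernel : Commute uN tN) L.ι))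
  · exact ⟨h, hh, e⟩
  · exact absurd hyMT (B.not_MT_three L.z_pow L.z_ne_one
      (Commute.map (by rw [commute_iff_eq]; decide +kernel : Commute zN jN) L.ι))
  · exact absurd hyMT (B.not_MT_three hzu3 hzu1 L.σ_comm_zu.symm)
  · exact absurd hyMT (B.not_MT_three hzu3 hzu1 (L.σ_comm_zu.symm.mul_right
      (Commute.map (by rw [commute_iff_eq]; decide +kernel : Commute (zN * uN) jN) L.ι)))

/-- Control of fusion of the class of `ta`. -/
theorem BCase.ctrlM (B : L.BCase) {g : G} (hg : g * (L.t * L.a) * g⁻¹ ∈ B.H) : g ∈ B.H := by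
  obtain ⟨h, hh, e⟩ := B.MT_H hg (MT_m.conj g)
  have hc : Commute (h⁻¹ * g) (L.t * L.a) := by
    refine mul_inv_eq_iff_eq_mul.1 ?_
    rw [show h⁻¹ * g * (L.t * L.a) * (h⁻¹ * g)⁻¹ = h⁻¹ * (g * (L.t * L.a) * g⁻¹) * h by group, ← e]
    group
  have := mul_mem (B.range_le hh) (B.cent_m hc)
  rwa [mul_inv_cancel_left] at this

theorem BCase.cent_j (B : L.BCase) {g : G} (hg : Commute g L.j) : g ∈ B.H := by
  classical
  obtain ⟨φa, φb, φt, φm, φj, -, -⟩ := B.φ_vals
  have hta : Commute L.t L.a := Commute.map (by rw [commute_iff_eq]; decide +kernel : Commute tN aN) L.ι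
  have caj : Commute L.a L.j := Commute.map (by rw [commute_iff_eq]; decide +kernel : Commute aN jN) L.ι
  have ctj : Commute L.t L.j := Commute.map (by rw [commute_iff_eq]; decide +kernel : Commute tN jN) L.ι
  have cmj : Commute (L.t * L.a) L.j := ctj.mul_left caj
  have tH : L.t ∈ B.H := B.range_le (B.ι_mem tN)
  have aH : L.a ∈ B.H := B.range_le (B.ι_mem aN)
  have jH : L.j ∈ B.H := B.range_le (B.ι_mem jN)
  have hne : L.t * L.a ≠ L.j := by rw [← map_mul]; exact fun e => absurd (L.inj e) (by decide +kernel)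
  have hm1 : L.t * L.a ≠ 1 := by rw [← map_mul]; exact L.ne_one (by decide +kernel)
  have hnMTj : ¬ L.MT L.j := B.not_MT_three L.z_pow L.z_ne_one
    (Commute.map (by rw [commute_iff_eq]; decide +kernel : Commute zN jN) L.ι)
  obtain ⟨O, hOj, hOodd, hOn, hOR⟩ := zstar_reduce (m := L.j) (a := L.t * L.a) L.j_sq L.j_ne_one B.m_sq cmj hm1 hne
    (by
    intro g hg hc
    set w := g * (L.t * L.a) * g⁻¹ with hw
    have hMTw : L.MT w := MT_m.conj g
    have hwj : Commute w L.j := (hg.mul_left cmj).mul_left hg.inv_left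
    rcases hc with e | e
    swap
    · exfalso
      have hconj : L.MT (L.t * L.a * L.j) := by
        have h := MT_m.conj (L := L) w
        rw [e, mul_assoc (L.t * L.a) w L.j, hwj.eq, ← mul_assoc (L.t * L.a) L.j, mul_inv_cancel_right] at h
        exact h
      refine hnMTj ?_
      have hn : L.t * L.a * L.j = B.φ (e55 b5 b5 rfl) * L.j * (B.φ (e55 b5 b5 rfl))⁻¹ := by
        rw [← φm, ← φj, ← map_inv, ← map_mul, ← map_mul, ← map_mul]
        exact congrArg B.φ (Subtype.ext (Prod.ext (swap_checks.2.trans swap_checks.1.symm)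
          (swap_checks.2.trans swap_checks.1.symm)))
      have h := hconj.conj (B.φ (e55 b5 b5 rfl))⁻¹
      rwa [hn, show (B.φ (e55 b5 b5 rfl))⁻¹ * (B.φ (e55 b5 b5 rfl) * L.j * (B.φ (e55 b5 b5 rfl))⁻¹) *
        (B.φ (e55 b5 b5 rfl))⁻¹⁻¹ = L.j by group] at h
    left
    obtain ⟨h, ⟨n, rfl⟩, he⟩ := B.MT_H (B.cent_m (show Commute w (L.t * L.a) from e)) hMTw
    have hcn : ∀ {v : M55} {x : G}, B.φ v = x → Commute w x →
        n * e55 a5 a5 rfl * n⁻¹ * v = v * (n * e55 a5 a5 rfl * n⁻¹) := by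
      intro v x hv hc'
      refine B.inj ?_
      simp only [map_mul, map_inv, φm, he, hv]
      exact hc'.eq
    have h1 := hcn φj hwj
    have h2 := hcn φm (show Commute w (L.t * L.a) from e)
    have key : ∀ k : Perm (Fin 5), k * a5 * k⁻¹ * swap 1 2 = swap 1 2 * (k * a5 * k⁻¹) →
        k * a5 * k⁻¹ * a5 = a5 * (k * a5 * k⁻¹) → k * a5 * k⁻¹ = a5 := by
      intro k hk1 hk2
      refine comm_swap12 _ ?_ ?_ ?_ hk1 hk2
      · rw [show k * a5 * k⁻¹ * (k * a5 * k⁻¹) = k * (a5 * a5) * k⁻¹ by group,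
          show a5 * a5 = 1 by decide +kernel, mul_one, mul_inv_cancel]
      · intro hh
        exact absurd (conj_eq_one_iff.1 hh) (by decide +kernel)
      · rw [map_mul, map_mul, map_inv, mul_comm (sign k), mul_inv_cancel_right, even_gens.2.1]
    rw [← he, ← φm, ← map_inv, ← map_mul, ← map_mul]
    exact congrArg B.φ (Subtype.ext (Prod.ext
      (key _ (congrArg (fun z : M55 => z.1.1) h1) (congrArg (fun z : M55 => z.1.1) h2))
      (key _ (congrArg (fun z : M55 => z.1.2) h1) (congrArg (fun z : M55 => z.1.2) h2)))))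
  have hOH : O ≤ B.H := by
    refine klein_le L.a_sq (L.sq_one zN_spec.2.2.2.2.2.2.2.1) hta.symm L.a_ne_one
      (L.ne_one zN_spec.2.2.2.2.2.2.2.2.1) (fun e => absurd (L.inj e) (by decide +kernel)) hOodd
      (fun o ho => hOn L.a caj o ho) (fun o ho => hOn L.t ctj o ho) (fun o _ hc => B.cent_AT aH AT_a hc)
      (fun o _ hc => B.cent_AT tH (by rw [← (caseB_maps B.hB).1]; exact AT_a.sigma) hc)
      (fun o _ hc => B.cent_m (by rw [hta.eq]; exact hc))
  obtain ⟨o, ho, e⟩ := hOR g hg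
  refine B.ctrlM ?_
  have : g * (L.t * L.a) * g⁻¹ * (L.t * L.a)⁻¹ ∈ B.H := by
    rcases e with e | e <;> rw [e]
    exacts [hOH ho, mul_mem jH (hOH ho)]
  have := mul_mem this (mul_mem tH aH)
  rwa [inv_mul_cancel_right] at this

/-- The subgroup is everything. -/
theorem BCase.H_top (B : L.BCase) : B.H = ⊤ := by
  rw [eq_top_iff]
  intro g _
  refine B.ctrlM ?_
  set x := g * (L.t * L.a) * g⁻¹ with hx
  have hx2 : x * x = 1 := by
    rw [hx, show g * (L.t * L.a) * g⁻¹ * (g * (L.t * L.a) * g⁻¹) = g * (L.t * L.a * (L.t * L.a)) * g⁻¹ by group,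
      B.m_sq]
    group
  have hnc : ∀ k : G, k * x * k⁻¹ ≠ L.a := fun k e => B.m_not_AT ⟨(k * g)⁻¹, by
    calc (k * g)⁻¹ * L.a * (k * g)⁻¹⁻¹ = (k * g)⁻¹ * (k * x * k⁻¹) * (k * g)⁻¹⁻¹ := by rw [e]
      _ = _ := by rw [hx]; group⟩
  obtain ⟨c, hc2, hc1, hcx, hca⟩ := exists_common_invol hx2 L.a_sq hnc
  obtain ⟨h, hh, y, hy, e⟩ := B.invol_range (B.cent_a hca) hc2 hc1
  have hcy : Commute (h⁻¹ * x * h) y := by
    have := hcx.symm.map (MulAut.conj h⁻¹).toMonoidHom
    simp only [MulEquiv.coe_toMonoidHom, MulAut.conj_apply, inv_inv] at this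
    rwa [← e, show h⁻¹ * (h * y * h⁻¹) * h = y by group] at this
  have hin : h⁻¹ * x * h ∈ B.H := by
    rcases hy with rfl | rfl | rfl | rfl
    · exact B.range_le (B.cent_a hcy)
    · exact B.cent_AT (B.range_le (B.ι_mem tN)) (show L.AT L.t by rw [← (caseB_maps B.hB).1]; exact AT_a.sigma) hcy
    · exact B.cent_m hcy
    · exact B.cent_j hcy
  have := mul_mem (mul_mem (B.range_le hh) hin) (inv_mem (B.range_le hh))
  rwa [show h * (h⁻¹ * x * h) * h⁻¹ = x by group] at this

theorem BCase.σ_not_range (B : L.BCase) (m : M55) : B.φ m ≠ L.σ := by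
  intro hm
  obtain ⟨φa, -, φt, -, -, -, -⟩ := B.φ_vals
  have h := (caseB_maps B.hB).1
  rw [← L.σ_conj, ← hm, ← φa, ← φt, ← map_inv, ← map_mul, ← map_mul] at h
  have h1 := congrArg (fun z : M55 => z.1.1) (B.inj h)
  change m.1.1 * 1 * m.1.1⁻¹ = a5 at h1
  rw [mul_one, mul_inv_cancel] at h1
  exact absurd h1 (by decide +kernel)

theorem BCase.all (B : L.BCase) (g : G) : g ∈ B.φ.range ∨ g * L.σ ∈ B.φ.range :=
  (B.H_top.ge (Subgroup.mem_top g) : g ∈ B.H)

/-- The conclusion of the second case. -/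
theorem BCase.conclusion (B : L.BCase) :
    ∃ N : Subgroup G, N.Normal ∧ Cfsg.generalizedFittingSubgroup G = N ∧
      Nonempty (N ≃* alternatingGroup (Fin 5) × alternatingGroup (Fin 5)) ∧
      (∀ K : Subgroup G, K.Normal → K ≤ N → K = ⊥ ∨ K = N) ∧ N.index = 4 ∧ ∀ g : G, g ^ 2 ∈ N := by
  classical
  set N := N55.map B.φ with hN
  obtain ⟨φa, φb, φt, -, -, -, -⟩ := B.φ_vals
  obtain ⟨sc, sa, sb, -, -, -, -⟩ := even_gens
  have hswN : ∀ n : M55, n ∈ N55 → sw55 n ∈ N55 := fun n hn => mem_N55.2 (mem_N55.1 hn).symm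
  have hNn : N.Normal := by
    refine ⟨?_⟩
    rintro _ ⟨n, hn, rfl⟩ g
    have key : ∀ h : M55, ∀ n ∈ N55, B.φ h * B.φ n * (B.φ h)⁻¹ ∈ N := by
      intro h n hn
      obtain ⟨h1, h2⟩ := mem_N55.1 hn
      refine ⟨h * n * h⁻¹, mem_N55.2 ⟨?_, ?_⟩, by rw [map_mul, map_mul, map_inv]⟩
      · show sign (h.1.1 * n.1.1 * h.1.1⁻¹) = 1
        rw [map_mul, map_mul, map_inv, h1, mul_one, mul_inv_cancel]
      · show sign (h.1.2 * n.1.2 * h.1.2⁻¹) = 1
        rw [map_mul, map_mul, map_inv, h2, mul_one, mul_inv_cancel]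
    rcases B.all g with ⟨h, rfl⟩ | ⟨h, hh⟩
    · exact key h n hn
    · have := key h (sw55 n) (hswN n hn)
      rwa [← B.swap_φ, hh, show g * L.σ * (L.σ * B.φ n * L.σ) * (g * L.σ)⁻¹ =
        g * (L.σ * L.σ) * B.φ n * (L.σ * L.σ⁻¹) * g⁻¹ by group, L.σ_sq, mul_one, mul_inv_cancel, mul_one] at this
  haveI := hNn
  have eN : N ≃* alternatingGroup (Fin 5) × alternatingGroup (Fin 5) :=
    ((Subgroup.equivMapOfInjective N55 B.φ B.inj).symm.trans (Subgroup.subgroupOfEquivOfLe N55_le)).trans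
      (Subgroup.prodEquiv _ _)
  have hcard : Nat.card G = 14400 := by
    let F : Fin 2 × M55 → G := fun x => B.φ x.2 * L.σ ^ x.1.val
    have hF : Function.Bijective F := by
      constructor
      · rintro ⟨i, m⟩ ⟨l, n⟩ e
        have e' : B.φ m * L.σ ^ i.val = B.φ n * L.σ ^ l.val := e
        fin_cases i <;> fin_cases l <;> simp only [pow_zero, pow_one, mul_one] at e'
        · exact Prod.ext rfl (B.inj e')
        · exact absurd (by rw [map_mul, map_inv, e', inv_mul_cancel_left]) (B.σ_not_range (n⁻¹ * m))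
        · exact absurd (by rw [map_mul, map_inv, ← e', inv_mul_cancel_left]) (B.σ_not_range (m⁻¹ * n))
        · exact Prod.ext rfl (B.inj (mul_right_cancel e'))
      · intro g
        rcases B.all g with ⟨m, rfl⟩ | ⟨m, hm⟩
        · exact ⟨(0, m), by simp [F]⟩
        · exact ⟨(1, m), by simp [F, hm, mul_assoc, L.σ_sq]⟩
    rw [← Nat.card_eq_of_bijective F hF, Nat.card_prod, Nat.card_fin, M55_card]
  have hidx : N.index = 4 := by
    have h := N.card_mul_index
    rw [hN, Subgroup.card_map_of_injective B.inj, N55_card, ← hN, hcard] at h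
    omega
  have hsq : ∀ g : G, g ^ 2 ∈ N := by
    intro g
    rcases B.all g with ⟨m, rfl⟩ | ⟨m, hm⟩
    · refine ⟨m ^ 2, mem_N55.2 ⟨?_, ?_⟩, map_pow _ _ _⟩
      · show sign (m.1.1 ^ 2) = 1
        rw [map_pow, pow_two, Int.units_mul_self]
      · show sign (m.1.2 ^ 2) = 1
        rw [map_pow, pow_two, Int.units_mul_self]
    · have hs := mem_M55.1 m.2
      refine ⟨m * sw55 m, mem_N55.2 ⟨?_, ?_⟩, ?_⟩
      · show sign (m.1.1 * m.1.2) = 1
        rw [map_mul, hs, Int.units_mul_self]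
      · show sign (m.1.2 * m.1.1) = 1
        rw [map_mul, hs, Int.units_mul_self]
      · rw [map_mul, ← B.swap_φ, hm, pow_two,
          show g * L.σ * (L.σ * (g * L.σ) * L.σ) = g * (L.σ * L.σ) * g * (L.σ * L.σ) by group, L.σ_sq, mul_one,
          mul_one]
  have hmin : ∀ K : Subgroup G, K.Normal → K ≤ N → K = ⊥ ∨ K = N := by
    intro K hK hKN
    set K' := K.comap B.φ with hK'
    haveI hK'n : K'.Normal := hK.comap B.φ
    have hsw : ∀ m ∈ K', sw55 m ∈ K' := by
      intro m hm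
      rw [hK', Subgroup.mem_comap, ← B.swap_φ]
      have := hK.conj_mem _ hm L.σ
      rwa [L.σ_inv] at this
    let i1 : alternatingGroup (Fin 5) →* M55 :=
      ((MonoidHom.inl (Perm (Fin 5)) (Perm (Fin 5))).comp (alternatingGroup (Fin 5)).subtype).codRestrict M55
        fun p => by
          rw [mem_M55]
          show sign (p : Perm (Fin 5)) = sign (1 : Perm (Fin 5))
          rw [map_one, Equiv.Perm.mem_alternatingGroup.1 p.2]
    haveI := alternatingGroup.isSimpleGroup (α := Fin 5) (by simp)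
    rcases IsSimpleGroup.eq_bot_or_eq_top_of_normal (K'.comap i1) (hK'n.comap i1) with h | h
    · left
      have hfst : ∀ m ∈ K', m ∈ N55 → m.1.1 = 1 := by
        intro m hm hmN
        have key : ∀ e : Perm (Fin 5), sign e = 1 → m.1.1 * e = e * m.1.1 := by
          intro e he
          have hse : sign (e * m.1.1 * e⁻¹ * m.1.1⁻¹) = 1 := by
            rw [map_mul, map_mul, map_mul, map_inv, map_inv, (mem_N55.1 hmN).1, he]; rfl
          set c : M55 := e55 e 1 (he.trans (map_one _).symm)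
          have hmem : i1 ⟨_, Equiv.Perm.mem_alternatingGroup.2 hse⟩ ∈ K' := by
            rw [show i1 ⟨_, Equiv.Perm.mem_alternatingGroup.2 hse⟩ = c * m * c⁻¹ * m⁻¹ from Subtype.ext (Prod.ext rfl
              (show (1 : Perm (Fin 5)) = 1 * m.1.2 * 1⁻¹ * m.1.2⁻¹ by group))]
            exact mul_mem (hK'n.conj_mem m hm c) (inv_mem hm)
          have h' : (⟨_, Equiv.Perm.mem_alternatingGroup.2 hse⟩ : alternatingGroup (Fin 5)) ∈ K'.comap i1 := hmem
          rw [h, Subgroup.mem_bot] at h'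
          have h'' : e * m.1.1 * e⁻¹ * m.1.1⁻¹ = 1 := congrArg Subtype.val h'
          rw [mul_inv_eq_one, mul_inv_eq_iff_eq_mul] at h''
          exact h''.symm
        exact cent_all _ (key _ sa) (key _ sb) (key _ sc)
      rw [eq_bot_iff]
      intro x hx
      obtain ⟨m, hm, rfl⟩ := hKN hx
      have hm' : m ∈ K' := hx
      rw [Subgroup.mem_bot, show m = 1 from Subtype.ext (Prod.ext (hfst m hm' hm)
        (hfst _ (hsw m hm') (hswN m hm))), map_one]
    · right
      refine le_antisymm hKN ?_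
      rintro _ ⟨m, hm, rfl⟩
      obtain ⟨h1, h2⟩ := mem_N55.1 hm
      have hp : ∀ p : alternatingGroup (Fin 5), i1 p ∈ K' := fun p => h.ge (Subgroup.mem_top p)
      have := mul_mem (hp ⟨_, Equiv.Perm.mem_alternatingGroup.2 h1⟩)
        (hsw _ (hp ⟨_, Equiv.Perm.mem_alternatingGroup.2 h2⟩))
      rwa [show i1 ⟨_, Equiv.Perm.mem_alternatingGroup.2 h1⟩ * sw55 (i1 ⟨_, Equiv.Perm.mem_alternatingGroup.2 h2⟩) =
        m from Subtype.ext (Prod.ext (mul_one _) (one_mul _))] at this
  have hcent : Subgroup.centralizer (N : Set G) = ⊥ := by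
    rw [eq_bot_iff]
    intro g hg
    have hgc : ∀ n : M55, n ∈ N55 → g * B.φ n = B.φ n * g :=
      fun n hn => (Subgroup.mem_centralizer_iff.1 hg _ ⟨n, hn, rfl⟩).symm
    rcases B.all g with ⟨m, rfl⟩ | ⟨m, hm⟩
    · have key : ∀ e : Perm (Fin 5), sign e = 1 → m.1.1 * e = e * m.1.1 ∧ m.1.2 * e = e * m.1.2 := by
        intro e he
        have hh : m * e55 e e rfl = e55 e e rfl * m := B.inj (by
          rw [map_mul, map_mul]; exact hgc _ (mem_N55.2 ⟨he, he⟩))
        exact ⟨congrArg (fun z : M55 => z.1.1) hh, congrArg (fun z : M55 => z.1.2) hh⟩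
      rw [Subgroup.mem_bot, show m = 1 from Subtype.ext (Prod.ext (cent_all _ (key _ sa).1 (key _ sb).1 (key _ sc).1)
        (cent_all _ (key _ sa).2 (key _ sb).2 (key _ sc).2)), map_one]
    · exfalso
      have h := hgc (e55 1 a5 (by decide +kernel)) (mem_N55.2 ⟨map_one _, sa⟩)
      rw [φa] at h
      have h2 : B.φ m * L.t = L.a * B.φ m := by
        rw [hm, ← (caseB_maps B.hB).1,
          show g * L.σ * (L.σ * L.a * L.σ) = g * (L.σ * L.σ) * L.a * L.σ by group, L.σ_sq, mul_one, h, mul_assoc]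
      rw [← φa, ← φt, ← map_mul, ← map_mul] at h2
      have h3 := congrArg (fun z : M55 => z.1.1) (B.inj h2)
      change m.1.1 * a5 = 1 * m.1.1 at h3
      rw [one_mul] at h3
      exact absurd (mul_eq_left.1 h3) (by decide +kernel)
  have hlayer : Cfsg.layer G = N := by
    refine le_antisymm (sSup_le fun K hK => ?_) ?_
    · rcases CfsgLib.component_le_or_commutator_eq_bot hK N with h | h
      · exact h
      · exfalso
        rw [Subgroup.commutator_eq_bot_iff_le_centralizer, hcent] at h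
        exact CfsgLib.isComponent_ne_bot hK (le_bot_iff.mp h)
    · -- a component
      let i1 : alternatingGroup (Fin 5) →* G :=
        B.φ.comp (((MonoidHom.inl (Perm (Fin 5)) (Perm (Fin 5))).comp (alternatingGroup (Fin 5)).subtype).codRestrict
          M55 fun p => by
            rw [mem_M55]
            show sign (p : Perm (Fin 5)) = sign (1 : Perm (Fin 5))
            rw [map_one, Equiv.Perm.mem_alternatingGroup.1 p.2])
      have hi1 : Function.Injective i1 := fun p q e =>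
        Subtype.ext (congrArg (fun z : M55 => z.1.1) (B.inj e))
      set A1 := i1.range with hA1
      have hA1N : A1 ≤ N := by
        rintro _ ⟨p, rfl⟩
        exact ⟨_, mem_N55.2 ⟨Equiv.Perm.mem_alternatingGroup.1 p.2, map_one _⟩, rfl⟩
      haveI hA1n : (A1.subgroupOf N).Normal := by
        refine ⟨?_⟩
        rintro ⟨x, hxN⟩ hx ⟨y, hyN⟩
        rw [Subgroup.mem_subgroupOf] at hx ⊢
        obtain ⟨p, rfl⟩ := hx
        obtain ⟨n, hn, rfl⟩ := hyN
        refine ⟨⟨n.1.1, Equiv.Perm.mem_alternatingGroup.2 (mem_N55.1 hn).1⟩ * p *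
          ⟨n.1.1, Equiv.Perm.mem_alternatingGroup.2 (mem_N55.1 hn).1⟩⁻¹, ?_⟩
        show B.φ _ = B.φ n * B.φ _ * (B.φ n)⁻¹
        rw [← map_inv, ← map_mul, ← map_mul]
        refine congrArg B.φ (Subtype.ext (Prod.ext rfl ?_))
        show (1 : Perm (Fin 5)) = n.1.2 * 1 * n.1.2⁻¹
        group
      have hcomp : Cfsg.IsComponent A1 := by
        have h : Cfsg.IsComponent (A1.subgroupOf N) :=
          ⟨Subgroup.Normal.isSubnormal hA1n, CfsgLib.isQuasisimple_of_equiv
            ((MonoidHom.ofInjective hi1).trans (Subgroup.subgroupOfEquivOfLe hA1N).symm) quasisimple_A5⟩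
        have := CfsgLib.isComponent_map_subtype (Subgroup.Normal.isSubnormal hNn) h
        rwa [Subgroup.map_subgroupOf_eq_of_le hA1N] at this
      have hle : A1 ≤ Cfsg.layer G := le_sSup hcomp
      have hlN : Cfsg.layer G ≤ N := sSup_le fun K hK => by
        rcases CfsgLib.component_le_or_commutator_eq_bot hK N with h | h
        · exact h
        · exfalso
          rw [Subgroup.commutator_eq_bot_iff_le_centralizer, hcent] at h
          exact CfsgLib.isComponent_ne_bot hK (le_bot_iff.mp h)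
      rcases hmin (Cfsg.layer G) inferInstance hlN with h | h
      · exfalso
        rw [h] at hle
        exact CfsgLib.isComponent_ne_bot hcomp (le_bot_iff.mp hle)
      · exact h.ge
  have hfit : Cfsg.fittingSubgroup G = ⊥ := by
    haveI := CfsgLib.isNilpotent_fittingSubgroup (G := G)
    rcases hmin (Cfsg.fittingSubgroup G ⊓ N) inferInstance inf_le_right with h | h
    · rw [eq_bot_iff, ← hcent]
      intro a ha
      refine Subgroup.mem_centralizer_iff.mpr fun b hb => ?_
      have h1 : b * a * b⁻¹ * a⁻¹ ∈ Cfsg.fittingSubgroup G ⊓ N := by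
        refine ⟨mul_mem (Subgroup.Normal.conj_mem inferInstance a ha b) ((Cfsg.fittingSubgroup G).inv_mem ha), ?_⟩
        rw [show b * a * b⁻¹ * a⁻¹ = b * (a * b⁻¹ * a⁻¹) by group]
        exact mul_mem hb (hNn.conj_mem _ (N.inv_mem hb) a)
      rw [h, Subgroup.mem_bot] at h1
      rwa [mul_inv_eq_one, mul_inv_eq_iff_eq_mul] at h1
    · exfalso
      have hNF : N ≤ Cfsg.fittingSubgroup G := fun x hx => (h.ge hx).1
      haveI : Group.IsNilpotent N := Group.nilpotent_of_mulEquiv (Subgroup.subgroupOfEquivOfLe hNF)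
      let j1 : alternatingGroup (Fin 5) →* N := eN.symm.toMonoidHom.comp (MonoidHom.inl _ _)
      have hj1 : Function.Injective j1 := fun p q e =>
        congrArg Prod.fst (eN.symm.injective e)
      exact CfsgLib.isQuasisimple_not_isSolvable quasisimple_A5
        (Group.isSolvable_of_isSolvable_injective (f := j1) hj1)
  exact ⟨N, hNn, by rw [Cfsg.generalizedFittingSubgroup, hlayer, hfit, sup_bot_eq], ⟨eN⟩, hmin, hidx, hsq⟩

end Data

end CfsgLib.S8ThreeLocal
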