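import Cfsg.Agent.Lib.A8ThreeLocal.Small

/-!
Finite checks in the product of the symmetric groups of degrees three and five.
-/

set_option autoImplicit false
set_option maxRecDepth 8000
set_option synthInstance.maxSize 1024

namespace CfsgLib.S8ThreeLocal

open Equiv Equiv.Perm CfsgLib.A8ThreeLocal

/-- The product of the symmetric groups of degrees three and five. -/
abbrev N35 : Type := Perm (Fin 3) × Perm (Fin 5)

/-- `((0 1 2), 1)` -/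
def zN : N35 := (c3, 1)
/-- `(1, (0 3 4))` -/
def uN : N35 := (1, c034)
/-- `(1, (1 2))` -/
def jN : N35 := (1, swap 1 2)
/-- `((0 1), 1)` -/
def tN : N35 := (swap 0 1, 1)
/-- `(1, (3 4))` -/
def kN : N35 := (1, swap 3 4)
/-- `(1, (1 2)(3 4))` -/
def aN : N35 := (1, a5)
/-- `(1, (1 3)(2 4))` -/
def bN : N35 := (1, b5)
/-- `(1, (2 3 4))` -/
def rN : N35 := (1, c234)

theorem zN_spec : zN ^ 3 = 1 ∧ zN ≠ 1 ∧ uN ^ 3 = 1 ∧ uN ≠ 1 ∧ zN * uN = uN * zN ∧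
    jN * jN = 1 ∧ jN ≠ 1 ∧ tN * tN = 1 ∧ tN ≠ 1 ∧ aN = kN * jN ∧ aN * aN = 1 ∧ aN ≠ 1 := by
  decide +kernel

theorem order_three_three : ∀ p : Perm (Fin 3), p ^ 3 = 1 → p ≠ 1 → p = c3 ∨ p = c3⁻¹ := by decide

theorem invert_three : tN * (c3, 1) * tN⁻¹ = (c3⁻¹, (1 : Perm (Fin 5))) := by decide +kernel

theorem cent_uN : ∀ q : Perm (Fin 5), q * c034 = c034 * q →
    ∃ l : Fin 3, ∃ e : Fin 2, q = c034 ^ l.val * (swap 1 2) ^ e.val := by decide +kernel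

theorem norm_uN : ∀ q : Perm (Fin 5), q * c034 * q⁻¹ = c034⁻¹ → q * q = 1 →
    ∃ l : Fin 3, q * c034 ^ l.val = swap 3 4 ∨ q * c034 ^ l.val = a5 := by decide +kernel

theorem d_table : ∀ i j k l : Fin 3,
    (zN ^ i.val * uN ^ j.val) * (zN ^ k.val * uN ^ l.val) = zN ^ (i + k).val * uN ^ (j + l).val ∧
    (zN ^ i.val * uN ^ j.val)⁻¹ = zN ^ (-i).val * uN ^ (-j).val ∧ (zN ^ i.val * uN ^ j.val) ^ 3 = 1 := by
  decide +kernel

theorem d_inj : ∀ x y : Fin 3 × Fin 3, zN ^ x.1.val * uN ^ x.2.val = zN ^ y.1.val * uN ^ y.2.val → x = y := by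
  decide +kernel

theorem d_cases : ∀ i j : Fin 3, (i = 0 → j = 0 → zN ^ i.val * uN ^ j.val = 1) ∧
    (i ≠ 0 → j = 0 → zN ^ i.val * uN ^ j.val = zN ∨ zN ^ i.val * uN ^ j.val = zN⁻¹) ∧
    (i = 0 → j ≠ 0 → zN ^ i.val * uN ^ j.val = uN ∨ zN ^ i.val * uN ^ j.val = uN⁻¹) ∧
    (i ≠ 0 → j ≠ 0 → zN ^ i.val * uN ^ j.val = zN * uN ∨ zN ^ i.val * uN ^ j.val = (zN * uN)⁻¹ ∨
      zN ^ i.val * uN ^ j.val = tN * (zN * uN) * tN⁻¹ ∨ zN ^ i.val * uN ^ j.val = tN * (zN * uN)⁻¹ * tN⁻¹) := by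
  decide +kernel

theorem t_conj : ∀ i j : Fin 3, tN * (zN ^ i.val * uN ^ j.val) * tN⁻¹ = zN ^ (-i).val * uN ^ j.val := by
  decide +kernel

theorem k_conj : ∀ i j : Fin 3, kN * (zN ^ i.val * uN ^ j.val) * kN⁻¹ = zN ^ i.val * uN ^ (-j).val := by
  decide +kernel

theorem cd_table : ∀ i j : Fin 3, ∀ e : Fin 2,
    (zN ^ i.val * uN ^ j.val * jN ^ e.val) * (zN ^ i.val * uN ^ j.val * jN ^ e.val) =
      zN ^ (i + i).val * uN ^ (j + j).val := by decide +kernel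

theorem cd_invol : ∀ i j : Fin 3, ∀ e : Fin 2,
    (zN ^ i.val * uN ^ j.val * jN ^ e.val) * (zN ^ i.val * uN ^ j.val * jN ^ e.val) = 1 →
      zN ^ i.val * uN ^ j.val * jN ^ e.val = 1 ∨ zN ^ i.val * uN ^ j.val * jN ^ e.val = jN := by decide +kernel

end CfsgLib.S8ThreeLocal
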