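import Cfsg.Agent.Lib.S8ThreeLocal.FiveShape

/-!
Finite checks for the symmetric group of degree eight.
-/

set_option autoImplicit false
set_option maxRecDepth 8000
set_option synthInstance.maxSize 1024

namespace CfsgLib.S8ThreeLocal

open Equiv Equiv.Perm CfsgLib.A8ThreeLocal

/-- The product of the symmetric groups of degrees three and five on eight points. -/
def e35 : N35 →* Perm (Fin 8) :=
  (finSumFinEquiv (m := 3) (n := 5)).permCongrHom.toMonoidHom.comp (Equiv.Perm.sumCongrHom (Fin 3) (Fin 5))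

theorem e35_gens : (∀ i : Fin 2, e35 (swap i.castSucc i.succ, 1) =
      swap ((⟨i.val, by omega⟩ : Fin 7).castSucc) ((⟨i.val, by omega⟩ : Fin 7).succ)) ∧
    ∀ i : Fin 4, e35 (1, swap i.castSucc i.succ) =
      swap ((⟨i.val + 3, by omega⟩ : Fin 7).castSucc) ((⟨i.val + 3, by omega⟩ : Fin 7).succ) := by
  decide +kernel

/-- The images of the adjacent transpositions; the third is a placeholder. -/
def adjN : Fin 7 → N35 :=
  ![(swap 0 1, 1), (swap 1 2, 1), 1, (1, swap 0 1), (1, swap 1 2), (1, swap 2 3), (1, swap 3 4)]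

theorem adjN_rel : (∀ i, adjN i * adjN i = 1) ∧
    (∀ i j : Fin 7, i ≠ 2 → j ≠ 2 → i.val + 1 = j.val → (adjN i * adjN j) ^ 3 = 1) ∧
    ∀ i j : Fin 7, i ≠ 2 → j ≠ 2 → i.val + 1 < j.val → (adjN i * adjN j) ^ 2 = 1 := by decide +kernel

theorem braid_zero : ∀ x : Fin 5, (x = 1 ∨ x = 2) →
    ∃ i : Fin 3, zN ^ i.val * tN * (zN ^ i.val)⁻¹ = (swap 1 2, 1) ∧
      ((uN ^ i.val * kN * (uN ^ i.val)⁻¹) * (1, swap 0 x)) ^ 3 = 1 ∧
      ((1, swap 0 x) * jN : N35) ^ 3 = 1 ∧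
      ∀ q : Perm (Fin 5), q * q = 1 → q ≠ 1 → q ≠ swap 3 4 → (∀ y : Fin 5, (y = 1 ∨ y = 2) → y ≠ x → q y = y) →
        q * swap 3 4 = swap 3 4 * q → ((uN ^ i.val * kN * (uN ^ i.val)⁻¹).2 * q) ^ 3 = 1 → q = swap 0 x := by
  decide +kernel

theorem conj_r : (∃ v ∈ ([1, aN, bN, aN * bN] : List N35), ∃ i : Fin 3, jN * rN * jN = v * rN ^ i.val) ∧
    ∃ i : Fin 3, ((1, swap 2 3) : N35) = rN ^ i.val * (aN * jN) * (rN ^ i.val)⁻¹ := by decide +kernel

theorem fix_products : ∀ x y : Fin 5, (x = 1 ∨ x = 2) → (y = 1 ∨ y = 2) → y ≠ x →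
    (swap 0 x : Perm (Fin 5)) y = y ∧ (swap 0 x : Perm (Fin 5)) x ≠ x := by decide

theorem stab_words : ∀ x y : Fin 5, (x = 1 ∨ x = 2) → (y = 1 ∨ y = 2) → y ≠ x → ∀ q : Perm (Fin 5), q y = y →
    ∃ i : Fin 3, ∃ e : Fin 2, q = c034 ^ i.val * (swap 3 4) ^ e.val ∨
      ∃ i' : Fin 3, ∃ e' : Fin 2,
        q = c034 ^ i.val * (swap 3 4) ^ e.val * swap 0 x * (c034 ^ i'.val * (swap 3 4) ^ e'.val) := by
  decide +kernel

/-- The reps of the classes of involutions. -/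
def reps8 : List (Perm (Fin 8)) :=
  [swap 4 5, swap 4 5 * swap 6 7, swap 0 3 * swap 1 6 * swap 2 7, swap 0 3 * swap 1 6 * swap 2 7 * swap 4 5]

theorem reps8_spec : (∀ r ∈ reps8, r * r = 1 ∧ r * swap 3 4 ≠ swap 3 4 * r) ∧
    ∀ n : Fin 5, n ≠ 0 → ∃ r ∈ reps8, r.support.card = 2 * n.val := by decide +kernel

end CfsgLib.S8ThreeLocal
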