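import Cfsg.Agent.Lib.S8ThreeLocal.AHom

/-!
Four-groups of double transpositions in the symmetric group of degree eight.
-/

set_option autoImplicit false
set_option maxRecDepth 8000
set_option synthInstance.maxSize 1024

namespace CfsgLib.S8ThreeLocal

open Equiv Equiv.Perm CfsgLib.A8ThreeLocal

/-- The image of `a`. -/
abbrev dA : Perm (Fin 8) := swap 4 5 * swap 6 7
/-- The image of `b`. -/
abbrev dB : Perm (Fin 8) := swap 4 6 * swap 5 7
/-- The image of a double transposition sharing one transposition with that of `a`. -/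
abbrev dY : Perm (Fin 8) := swap 4 5 * swap 0 1
/-- The fixed involution of the other four points. -/
abbrev dC : Perm (Fin 8) := swap 0 1 * swap 2 3

/-- The conjugators used. -/
def hsFour : List (Perm (Fin 8)) :=
  let cd : List (Perm (Fin 8)) := [1, swap 1 2, swap 1 3, swap 0 2, swap 0 3, swap 0 2 * swap 1 3]
  cd ++ cd.map (fun h => swap 4 6 * swap 5 7 * h)

set_option maxHeartbeats 400000 in
theorem four_cand : ∀ a b c d : Fin 8, a ≠ b → c ≠ d → a ≠ c → a ≠ d → b ≠ c → b ≠ d →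
    swap a b * swap c d * dA = dA * (swap a b * swap c d) →
    (∃ i, (swap a b * swap c d * dA : Perm (Fin 8)) i = i) → swap a b * swap c d ≠ dA →
    swap a b * swap c d = dB ∨ swap a b * swap c d = swap 4 5 * dB * swap 4 5 ∨
      hsFour.any (fun h => decide (h * dA * h⁻¹ = dA ∧ h * dY * h⁻¹ = swap a b * swap c d)) = true := by
  decide +kernel

theorem comm_at {α : Type} {q f : Perm α} (h : q * f = f * q) (i : α) : q (f i) = f (q i) :=
  Equiv.Perm.ext_iff.1 h i

theorem conj_at {α : Type} (c f : Perm α) (i : α) : (c * f * c⁻¹) (c i) = c (f i) := by simp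

/-- A four-group of double transpositions is of one of two shapes. -/
theorem four_class {x y : Perm (Fin 8)} (hx : ∃ h : Perm (Fin 8), h * dA * h⁻¹ = x)
    (hy : ∃ h : Perm (Fin 8), h * dA * h⁻¹ = y) (hxy : ∃ h : Perm (Fin 8), h * dA * h⁻¹ = x * y)
    (hc : x * y = y * x) :
    ∃ h : Perm (Fin 8), h * dA * h⁻¹ = x ∧ (h * dB * h⁻¹ = y ∨ h * dY * h⁻¹ = y) := by
  obtain ⟨h, rfl⟩ := hx
  obtain ⟨g, rfl⟩ := hy
  obtain ⟨k, hk⟩ := hxy
  set f := h⁻¹ * g with hf
  have hne : ∀ i i' : Fin 8, i ≠ i' → f i ≠ f i' := fun i i' e h' => e (f.injective h')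
  have hy' : f * dA * f⁻¹ = swap (f 4) (f 5) * swap (f 6) (f 7) := by
    rw [Equiv.swap_apply_apply f, Equiv.swap_apply_apply f]
    group
  have hcomm : f * dA * f⁻¹ * dA = dA * (f * dA * f⁻¹) := by
    rw [hf]
    calc h⁻¹ * g * dA * (h⁻¹ * g)⁻¹ * dA = h⁻¹ * (g * dA * g⁻¹ * (h * dA * h⁻¹)) * h := by group
      _ = h⁻¹ * (h * dA * h⁻¹ * (g * dA * g⁻¹)) * h := by rw [hc]
      _ = _ := by group
  have hdd : dA * dA = 1 := by decide +kernel
  have hk2 : h⁻¹ * k * dA * (h⁻¹ * k)⁻¹ = dA * (f * dA * f⁻¹) := by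
    calc h⁻¹ * k * dA * (h⁻¹ * k)⁻¹ = h⁻¹ * (k * dA * k⁻¹) * h := by group
      _ = h⁻¹ * (h * dA * h⁻¹ * (g * dA * g⁻¹)) * h := by rw [hk]
      _ = _ := by rw [hf]; group
  have hfix : ∃ i, (f * dA * f⁻¹ * dA : Perm (Fin 8)) i = i := by
    refine ⟨(h⁻¹ * k) 0, ?_⟩
    rw [hcomm, ← hk2, conj_at, show dA 0 = 0 by decide]
  have hne2 : f * dA * f⁻¹ ≠ dA := by
    intro e
    rw [e, hdd, conj_eq_one_iff] at hk2
    exact absurd hk2 (by decide +kernel)
  rw [hy'] at hcomm hfix hne2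
  have back : ∀ h₁ v : Perm (Fin 8), h₁ * v * h₁⁻¹ = f * dA * f⁻¹ →
      h * h₁ * v * (h * h₁)⁻¹ = g * dA * g⁻¹ := by
    intro h₁ v e
    rw [show h * h₁ * v * (h * h₁)⁻¹ = h * (h₁ * v * h₁⁻¹) * h⁻¹ by group, e, hf]
    group
  have hcent : ∀ h₁ : Perm (Fin 8), h₁ * dA * h₁⁻¹ = dA → h * h₁ * dA * (h * h₁)⁻¹ = h * dA * h⁻¹ := by
    intro h₁ e
    rw [show h * h₁ * dA * (h * h₁)⁻¹ = h * (h₁ * dA * h₁⁻¹) * h⁻¹ by group, e]
  rcases four_cand (f 4) (f 5) (f 6) (f 7) (hne _ _ (by decide)) (hne _ _ (by decide)) (hne _ _ (by decide))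
    (hne _ _ (by decide)) (hne _ _ (by decide)) (hne _ _ (by decide)) hcomm hfix hne2 with e | e | e
  · exact ⟨h * 1, hcent 1 (by group), Or.inl (back 1 dB (by rw [hy', e]; group))⟩
  · refine ⟨h * swap 4 5, hcent _ (by decide +kernel), Or.inl (back _ dB ?_)⟩
    rw [hy', e, Equiv.swap_inv]
  · obtain ⟨h₁, -, h'⟩ := List.any_eq_true.1 e
    simp only [decide_eq_true_eq] at h'
    exact ⟨h * h₁, hcent h₁ h'.1, Or.inr (back h₁ dY (by rw [hy', h'.2]))⟩

theorem sig_dY : ∀ j : Fin 8, ((dA j = j ∧ dY j ≠ j) → j = 0 ∨ j = 1) ∧ ((dA j = j ∧ dY j = j) → j = 2 ∨ j = 3) ∧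
    ((dA j ≠ j ∧ dY j ≠ j) → j = 4 ∨ j = 5) ∧ ((dA j ≠ j ∧ dY j = j) → j = 6 ∨ j = 7) := by decide +kernel

theorem fix_of_comm {α : Type} {q f : Perm α} (h : q * f = f * q) (i : α) : f (q i) = q i ↔ f i = i := by
  have e : q (f i) = f (q i) := Equiv.Perm.ext_iff.1 h i
  rw [← e]
  exact q.injective.eq_iff

theorem other_three : ∀ x y : Fin 8, (x = 2 ∨ x = 3) → (y = 2 ∨ y = 3) → x ≠ y → y = if x = 2 then 3 else 2 := by
  decide

/-- The centraliser of the second shape is small. -/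
theorem cent_dY_le : Nat.card {q : Perm (Fin 8) // q * dA = dA * q ∧ q * dY = dY * q} ≤ 16 := by
  have hmem : ∀ (q : {q : Perm (Fin 8) // q * dA = dA * q ∧ q * dY = dY * q}),
      (q.1 0 = 0 ∨ q.1 0 = 1) ∧ (q.1 2 = 2 ∨ q.1 2 = 3) ∧ (q.1 4 = 4 ∨ q.1 4 = 5) ∧ (q.1 6 = 6 ∨ q.1 6 = 7) := by
    rintro ⟨q, hA, hY⟩
    have a := fix_of_comm hA
    have y := fix_of_comm hY
    exact ⟨(sig_dY _).1 ⟨(a 0).2 (by decide), fun e => absurd ((y 0).1 e) (by decide)⟩,
      (sig_dY _).2.1 ⟨(a 2).2 (by decide), (y 2).2 (by decide)⟩,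
      (sig_dY _).2.2.1 ⟨fun e => absurd ((a 4).1 e) (by decide), fun e => absurd ((y 4).1 e) (by decide)⟩,
      (sig_dY _).2.2.2 ⟨fun e => absurd ((a 6).1 e) (by decide), (y 6).2 (by decide)⟩⟩
  let f : {q : Perm (Fin 8) // q * dA = dA * q ∧ q * dY = dY * q} → Bool × Bool × Bool × Bool := fun q =>
    (decide (q.1 0 = 0), decide (q.1 2 = 2), decide (q.1 4 = 4), decide (q.1 6 = 6))
  have hf : Function.Injective f := by
    intro p q e
    simp only [f, Prod.mk.injEq, decide_eq_decide] at e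
    obtain ⟨h0, h2, h4, h6⟩ := hmem p
    obtain ⟨k0, k2, k4, k6⟩ := hmem q
    have two : ∀ {c d x y : Fin 8}, (x = c ∨ x = d) → (y = c ∨ y = d) → (x = c ↔ y = c) → x = y := by
      rintro c d x y (rfl | rfl) (rfl | rfl) h
      · rfl
      · exact (h.1 rfl).symm
      · exact h.2 rfl
      · rfl
    have e0 := two h0 k0 e.1
    have e2 := two h2 k2 e.2.1
    have e4 := two h4 k4 e.2.2.1
    have e6 := two h6 k6 e.2.2.2
    obtain ⟨⟨p, hpA, hpY⟩, ⟨q, hqA, hqY⟩⟩ := p, q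
    have aA := fun i => comm_at hpA i
    have bA := fun i => comm_at hqA i
    have aY := fun i => comm_at hpY i
    have bY := fun i => comm_at hqY i
    have e1 : p 1 = q 1 := by
      have := (aY 0).trans ((congrArg dY e0).trans (bY 0).symm)
      rwa [show dY 0 = 1 by decide] at this
    have e5 : p 5 = q 5 := by
      have := (aA 4).trans ((congrArg dA e4).trans (bA 4).symm)
      rwa [show dA 4 = 5 by decide] at this
    have e7 : p 7 = q 7 := by
      have := (aA 6).trans ((congrArg dA e6).trans (bA 6).symm)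
      rwa [show dA 6 = 7 by decide] at this
    have e3 : p 3 = q 3 := by
      have three : ∀ r : Perm (Fin 8), r * dA = dA * r → r * dY = dY * r → r 3 = if r 2 = 2 then 3 else 2 := by
        intro r rA rY
        exact other_three _ _ ((sig_dY _).2.1 ⟨(fix_of_comm rA 2).2 (by decide), (fix_of_comm rY 2).2 (by decide)⟩)
          ((sig_dY _).2.1 ⟨(fix_of_comm rA 3).2 (by decide), (fix_of_comm rY 3).2 (by decide)⟩)
          (fun h => absurd (r.injective h) (by decide))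
      rw [three p hpA hpY, three q hqA hqY, show p 2 = q 2 from e2]
    refine Subtype.ext (Equiv.ext fun i => ?_)
    fin_cases i
    exacts [e0, e1, e2, e3, e4, e5, e6, e7]
  have := Nat.card_le_card_of_injective f hf
  simpa using this

/-- A two-group of order thirty-two centralising `a` and `b`. -/
def K32 : Subgroup (Perm (Fin 8)) := Subgroup.centralizer {dA, dB, dC}

theorem mem_K32 {q : Perm (Fin 8)} : q ∈ K32 ↔ q * dA = dA * q ∧ q * dB = dB * q ∧ q * dC = dC * q := by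
  simp only [K32, Subgroup.mem_centralizer_iff, Set.mem_insert_iff, Set.mem_singleton_iff, forall_eq_or_imp,
    forall_eq]
  exact ⟨fun h => ⟨h.1.symm, h.2.1.symm, h.2.2.symm⟩, fun h => ⟨h.1.symm, h.2.1.symm, h.2.2.symm⟩⟩

/-- The elements of the two-group. -/
def k32 (x : Fin 2 × Fin 2 × Fin 2 × Fin 2 × Fin 2) : Perm (Fin 8) :=
  (swap 0 1) ^ x.1.val * (swap 2 3) ^ x.2.1.val * (swap 0 2 * swap 1 3) ^ x.2.2.1.val * dA ^ x.2.2.2.1.val *
    dB ^ x.2.2.2.2.val

theorem k32_inj : ∀ x y, k32 x = k32 y → x = y := by decide +kernel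

theorem k32_mem : ∀ x, k32 x * dA = dA * k32 x ∧ k32 x * dB = dB * k32 x ∧ k32 x * dC = dC * k32 x := by
  decide +kernel

theorem sig_K32 : ∀ j : Fin 8, (dA j = j → j.val < 4) ∧ (dA j ≠ j → 4 ≤ j.val) := by decide +kernel

theorem K32_card : Nat.card K32 = 32 := by
  refine le_antisymm ?_ ?_
  · let f : K32 → {x : Fin 8 × Fin 8 × Fin 8 // x.1.val < 4 ∧ x.2.1.val < 4 ∧ x.2.1 ≠ x.1 ∧ x.2.1 ≠ dC x.1 ∧
        4 ≤ x.2.2.val} := fun q => ⟨(q.1 0, q.1 2, q.1 4), by
      obtain ⟨hA, -, hC⟩ := mem_K32.1 q.2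
      have a := fix_of_comm hA
      refine ⟨(sig_K32 _).1 ((a 0).2 (by decide)), (sig_K32 _).1 ((a 2).2 (by decide)),
        fun e => absurd (q.1.injective e) (by decide), fun e => ?_,
        (sig_K32 _).2 fun e => absurd ((a 4).1 e) (by decide)⟩
      have h := comm_at hC 0
      rw [show dC 0 = 1 by decide] at h
      exact absurd (q.1.injective (e.trans h.symm)) (by decide)⟩
    have hf : Function.Injective f := by
      intro p q e
      simp only [f, Subtype.mk.injEq, Prod.mk.injEq] at e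
      obtain ⟨e0, e2, e4⟩ := e
      obtain ⟨hpA, hpB, hpC⟩ := mem_K32.1 p.2
      obtain ⟨hqA, hqB, hqC⟩ := mem_K32.1 q.2
      have step : ∀ (f : Perm (Fin 8)) (i i' : Fin 8), f i = i' → p.1 * f = f * p.1 → q.1 * f = f * q.1 →
          p.1 i = q.1 i → p.1 i' = q.1 i' := by
        intro f i i' hi hp hq h
        have h1 := comm_at hp i
        have h2 := comm_at hq i
        rw [hi] at h1 h2
        rw [h1, h2, h]
      refine Subtype.ext (Equiv.ext fun i => ?_)
      have e6 := step dB 4 6 (by decide) hpB hqB e4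
      fin_cases i
      exacts [e0, step dC 0 1 (by decide) hpC hqC e0, e2, step dC 2 3 (by decide) hpC hqC e2, e4,
        step dA 4 5 (by decide) hpA hqA e4, e6, step dA 6 7 (by decide) hpA hqA e6]
    refine (Nat.card_le_card_of_injective f hf).trans ?_
    rw [Nat.card_eq_fintype_card]
    decide +kernel
  · let f : (Fin 2 × Fin 2 × Fin 2 × Fin 2 × Fin 2) → K32 := fun x => ⟨k32 x, mem_K32.2 (k32_mem x)⟩
    have := Nat.card_le_card_of_injective f (fun x y e => k32_inj x y (congrArg Subtype.val e))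
    simpa using this

theorem K32_spec : dA ∈ K32 ∧ dB ∈ K32 ∧ swap 0 1 ∈ K32 := by
  simp only [mem_K32]
  decide +kernel

end CfsgLib.S8ThreeLocal
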