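import Cfsg.Agent.Lib.S8ThreeLocal.AChecks
import Cfsg.Agent.S2530

/-!
The symmetric group of degree eight inside the group, in the first case.
-/

set_option autoImplicit false
set_option maxRecDepth 8000
set_option synthInstance.maxSize 1024

namespace CfsgLib.S8ThreeLocal

open Equiv Equiv.Perm CfsgLib.A8ThreeLocal

universe u

theorem conj_reps (x : Perm (Fin 8)) (hx : x * x = 1) (h1 : x ≠ 1) :
    ∃ r ∈ reps8, ∃ h : Perm (Fin 8), h * r * h⁻¹ = x := by
  haveI := Fact.mk Nat.prime_two
  have hrep : ∀ s : Perm (Fin 8), s * s = 1 → s.cycleType = Multiset.replicate s.cycleType.card 2 :=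
    fun s hs => Equiv.Perm.cycleType_of_pow_prime_eq_one (by rw [pow_two]; exact hs)
  have hcard : ∀ s : Perm (Fin 8), s * s = 1 → s.support.card = s.cycleType.card * 2 := by
    intro s hs
    rw [← Equiv.Perm.sum_cycleType, hrep s hs, Multiset.sum_replicate, Multiset.card_replicate, smul_eq_mul]
  have hle : x.support.card ≤ 8 := by simpa using Finset.card_le_univ x.support
  have hne : x.cycleType.card ≠ 0 := fun e => h1 (by
    rw [← Equiv.Perm.cycleType_eq_zero]; exact Multiset.card_eq_zero.1 e)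
  obtain ⟨r, hr, hrs⟩ := reps8_spec.2 ⟨x.cycleType.card, by have := hcard x hx; omega⟩
    (fun e => hne (congrArg Fin.val e))
  have hr2 := (reps8_spec.1 r hr).1
  have hrc : r.cycleType.card = x.cycleType.card := by
    have := hcard r hr2
    simp only at hrs
    omega
  obtain ⟨c, hc⟩ := isConj_iff.1 (Equiv.Perm.isConj_iff_cycleType_eq.2
    (show r.cycleType = x.cycleType by rw [hrep r hr2, hrep x hx, hrc]))
  exact ⟨r, hr, c, hc⟩

namespace Data

variable {G : Type u} [Group G] (L : Data G)

/-- The subgroup isomorphic to the symmetric group of degree eight. -/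
structure AHom where
  /-- the map -/
  φ : Perm (Fin 8) →* G
  /-- it is injective -/
  inj : Function.Injective φ
  /-- it extends the identification of the normaliser -/
  agree : ∀ m : N35, φ (e35 m) = L.ι m
  /-- it contains the group commuting with `a`, `b` and `r` -/
  X_le : ∀ x ∈ L.X, x ∈ φ.range

variable {L}

theorem stab_point {x : Fin 5} (hx : x = 1 ∨ x = 2) (hw : L.ψ (1, swap 0 x) ∈ L.X)
    (hkt : L.ψ kN = L.t) : ∀ q ∈ L.Q5, ∀ y : Fin 5, (y = 1 ∨ y = 2) → y ≠ x → q y = y := by
  intro q hq y hy hyx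
  have h34 : swap 3 4 ∈ L.Q5 := L.mem_Q5 (m := kN) (by rw [hkt]; exact L.t_mem_X)
  have hwQ : swap 0 x ∈ L.Q5 := L.mem_Q5 hw
  have hfix : ∀ p ∈ L.Q5, p 1 = 1 ∨ p 2 = 2 := by
    intro p hp
    rcases badA p with h | h | h
    · exact Or.inl h
    · exact Or.inr h
    · obtain ⟨w, -, hw'⟩ := List.any_eq_true.1 h
      simp only [decide_eq_true_eq] at hw'
      exact absurd (L.Q5_cent (evalW_mem (fun i => by fin_cases i; exacts [L.c034_mem, h34, hp]) w) hw'.1) hw'.2
  obtain ⟨h1, h2⟩ := fix_products x y hx hy hyx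
  by_contra hne
  have hor : ∀ p ∈ L.Q5, p x = x ∨ p y = y := by
    intro p hp
    rcases hx with rfl | rfl <;> rcases hy with rfl | rfl <;>
      first | exact absurd rfl hyx | exact hfix p hp | exact (hfix p hp).symm
  have hqx : q x = x := (hor q hq).resolve_right hne
  rcases hor _ (mul_mem hwQ hq) with e | e
  · rw [Equiv.Perm.mul_apply, hqx] at e
    exact h2 e
  · rw [Equiv.Perm.mul_apply] at e
    refine hne ?_
    have := congrArg (swap 0 x : Perm (Fin 5)) e
    rwa [swap_apply_self, h1] at this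

theorem exists_AHom (hA : L.σ * L.t * L.σ = L.k) {x : Fin 5} (hx : x = 1 ∨ x = 2)
    (hw : L.ψ (1, swap 0 x) ∈ L.X) : Nonempty L.AHom := by
  classical
  have hkt : L.ψ kN = L.t := L.σ_of_t hA
  set w := L.ψ (1, swap 0 x) with hwdef
  obtain ⟨i, hi, hb1, hb3, huniq⟩ := braid_zero x hx
  have hww : w * w = 1 := by
    rw [hwdef, ← map_mul, Prod.mk_mul_mk, swap_mul_self, one_mul]; exact map_one _
  obtain ⟨hwa, hwb, hwr⟩ := L.mem_X.1 hw
  have hwt : Commute w L.t := by
    rw [← hkt]
    refine Commute.map ?_ L.ψ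
    rcases hx with rfl | rfl <;> (rw [commute_iff_eq]; decide +kernel)
  have hτ : L.ψ (uN ^ i.val * kN * (uN ^ i.val)⁻¹) = L.ι (swap 1 2, 1) := by
    rw [← hi, map_mul, map_mul, map_inv, map_pow, L.ψ_u, hkt, map_mul, map_mul, map_inv, map_pow]
  have hj1 : L.ψ jN = L.ι (hN * jN * hN) := by rw [L.ψ_apply, L.σ_j, ← map_mul, ← map_mul]
  have hji : L.j⁻¹ = L.j := inv_eq_of_mul_eq_one_right L.j_sq
  -- `j` centralises `w`
  have hjX : L.j * w * L.j ∈ L.X := by
    have key : ∀ {m n : N35}, jN * n * jN = m → Commute w (L.ι n) → Commute (L.j * w * L.j) (L.ι m) := by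
      intro m n e hc
      rw [← e, map_mul, map_mul]
      have := hc.map (MulAut.conj L.j).toMonoidHom
      simp only [MulEquiv.coe_toMonoidHom, MulAut.conj_apply, hji] at this
      exact this
    refine L.mem_X.2 ⟨key (n := aN) (by decide +kernel) hwa, key (n := aN * bN) (by decide +kernel) ?_, ?_⟩
    · rw [map_mul]; exact hwa.mul_right hwb
    · obtain ⟨⟨v, hv, l, hl⟩, -⟩ := conj_r
      refine key (n := v * rN ^ l.val) ?_ ?_
      · rw [← hl]
        decide +kernel
      · rw [map_mul, map_pow]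
        refine Commute.mul_right ?_ (hwr.pow_right _)
        simp only [List.mem_cons, List.not_mem_nil, or_false] at hv
        rcases hv with rfl | rfl | rfl | rfl
        · rw [map_one]; exact Commute.one_right _
        · exact hwa
        · exact hwb
        · rw [map_mul]; exact hwa.mul_right hwb
  have hwj : Commute w L.j := by
    obtain ⟨m, hm, hm1⟩ := L.X_coord hjX
    have hcj : ∀ y : G, Commute L.j y → L.j * y * L.j = y := fun y hy => by
      rw [hy.eq, mul_assoc, L.j_sq, mul_one]
    have hjw : ∀ y : G, Commute L.j y → L.j * w * L.j * y = L.j * (w * y) * L.j := by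
      intro y hy
      calc L.j * w * L.j * y = L.j * w * (L.j * y) := by group
        _ = L.j * w * (y * L.j) := by rw [hy.eq]
        _ = _ := by group
    have hm2 : m * m = 1 := L.ψ_inj (by
      rw [map_mul, hm, map_one, show L.j * w * L.j * (L.j * w * L.j) = L.j * w * (L.j * L.j) * w * L.j by group,
        L.j_sq, mul_one, mul_assoc L.j w w, hww, mul_one, L.j_sq])
    have hm1' : m.1 = 1 := by
      have h := congrArg Prod.fst hm2
      rcases hm1 with e | e | e
      · exact e
      all_goals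
        rw [Prod.fst_mul, e] at h
        exact absurd h (by decide)
    have hmq : m = (1, m.2) := Prod.ext hm1' rfl
    have cjt : Commute L.j L.t := Commute.map (by rw [commute_iff_eq]; decide +kernel : Commute jN tN) L.ι
    have cjτ : Commute L.j (L.ι (swap 1 2, 1)) :=
      Commute.map (by rw [commute_iff_eq]; decide +kernel : Commute jN ((swap 1 2, 1) : N35)) L.ι
    have hm34 : m.2 * swap 3 4 = swap 3 4 * m.2 := by
      refine congrArg Prod.snd (L.ψ_inj ?_ : m * kN = kN * m)
      rw [map_mul, map_mul, hm, hkt, hjw _ cjt, hwt.eq, show L.j * (L.t * w) * L.j = L.j * L.t * w * L.j by group,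
        cjt.eq]
      group
    have hbr : ((uN ^ i.val * kN * (uN ^ i.val)⁻¹).2 * m.2) ^ 3 = 1 := by
      refine congrArg Prod.snd (L.ψ_inj ?_ : (uN ^ i.val * kN * (uN ^ i.val)⁻¹ * m) ^ 3 = 1)
      rw [map_pow, map_mul, hτ, hm, map_one,
        show L.ι (swap 1 2, 1) * (L.j * w * L.j) = L.j * (L.ι (swap 1 2, 1) * w) * L.j⁻¹ by
          rw [hji, ← mul_assoc L.j, cjτ.eq]; group,
        conj_pow, ← hτ, hwdef, ← map_mul, ← map_pow, hb1, map_one, mul_one, hji, L.j_sq]
    have hne1 : m.2 ≠ 1 := by
      intro e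
      rw [hmq, e, show ((1, 1) : N35) = 1 from rfl, map_one] at hm
      have : w = 1 := by
        rw [show w = L.j * (L.j * w * L.j) * L.j by
          rw [show L.j * (L.j * w * L.j) * L.j = L.j * L.j * w * (L.j * L.j) by group, L.j_sq, one_mul, mul_one],
          ← hm, mul_one, L.j_sq]
      rw [hwdef, ← map_one L.ψ] at this
      have h2 := congrArg Prod.snd (L.ψ_inj this)
      revert h2
      rcases hx with rfl | rfl <;> decide
    have hne34 : m.2 ≠ swap 3 4 := by
      intro e
      rw [hmq, e, show ((1, swap 3 4) : N35) = kN from rfl, hkt] at hm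
      have : w = L.ψ kN := by
        rw [hkt, ← hcj _ cjt, hm, show L.j * (L.j * w * L.j) * L.j = L.j * L.j * w * (L.j * L.j) by group, L.j_sq,
          one_mul, mul_one]
      have h2 := congrArg Prod.snd (L.ψ_inj this)
      revert h2
      rcases hx with rfl | rfl <;> decide +kernel
    have hq := huniq m.2 (congrArg Prod.snd hm2) hne1 hne34
      (fun y hy hyx => stab_point hx hw hkt m.2 (L.mem_Q5 (by rw [hm]; exact hjX)) y hy hyx) hm34 hbr
    have hjwj : L.j * w * L.j = w := by rw [← hm, hmq, hq]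
    exact (mul_inv_eq_iff_eq_mul.1 (show L.j * w * L.j⁻¹ = w by rw [hji, hjwj])).symm
  have hwk : Commute w L.k := by rw [L.k_eq]; exact hwa.mul_right hwj
  have hw23 : Commute w (L.ι (1, swap 2 3)) := by
    obtain ⟨-, l, hl⟩ := conj_r
    rw [hl, map_mul, map_mul, map_inv, map_pow]
    refine ((hwr.pow_right _).mul_right ?_).mul_right (hwr.pow_right _).inv_right
    rw [map_mul]; exact hwa.mul_right hwj
  -- the homomorphism
  let s : Fin 7 → G := fun l => if l = 2 then w else L.ι (adjN l)
  have hs2 : s 2 = w := by simp [s]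
  have hsι : ∀ l, l ≠ 2 → s l = L.ι (adjN l) := fun l hl => by simp [s, hl]
  have hss : ∀ l, s l * s l = 1 := by
    intro l
    by_cases hl : l = 2
    · rw [hl, hs2, hww]
    · rw [hsι l hl, ← map_mul, adjN_rel.1 l, map_one]
  have hbraid : ∀ p q : Fin 7, p.val + 1 = q.val → (s p * s q) ^ 3 = 1 := by
    intro p q hpq
    by_cases hp : p = 2
    · subst hp
      obtain rfl : q = 3 := Fin.ext hpq.symm
      rw [hs2, hsι 3 (by decide), show adjN 3 = hN * jN * hN by decide +kernel, ← hj1, hwdef, ← map_mul, ← map_pow,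
        hb3, map_one]
    by_cases hq : q = 2
    · subst hq
      obtain rfl : p = 1 := Fin.ext (by change p.val + 1 = 2 at hpq; show p.val = 1; omega)
      rw [hs2, hsι 1 (by decide), show adjN 1 = (swap 1 2, 1) from rfl, ← hτ, hwdef, ← map_mul, ← map_pow, hb1,
        map_one]
    rw [hsι p hp, hsι q hq, ← map_mul, ← map_pow, adjN_rel.2.1 p q hp hq hpq, map_one]
  have hfar : ∀ p q : Fin 7, p.val + 1 < q.val → (s p * s q) ^ 2 = 1 := by
    intro p q hpq
    have hcomm : ∀ y : G, Commute w y → y * y = 1 → (w * y) ^ 2 = 1 ∧ (y * w) ^ 2 = 1 := by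
      intro y hy hy2
      rw [hy.mul_pow, hy.symm.mul_pow, pow_two, pow_two, hww, hy2, one_mul]
      exact ⟨rfl, rfl⟩
    by_cases hp : p = 2
    · subst hp
      have : q = 4 ∨ q = 5 ∨ q = 6 := by
        change 2 + 1 < q.val at hpq
        rcases q with ⟨v, hv⟩
        simp only [Fin.ext_iff] at hpq ⊢
        show v = 4 ∨ v = 5 ∨ v = 6
        omega
      rw [hs2, hsι q (by rcases this with rfl | rfl | rfl <;> decide)]
      refine (hcomm _ ?_ (by rw [← map_mul, adjN_rel.1, map_one])).1
      rcases this with rfl | rfl | rfl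
      exacts [hwj, hw23, hwk]
    by_cases hq : q = 2
    · subst hq
      obtain rfl : p = 0 := Fin.ext (by change p.val + 1 < 2 at hpq; show p.val = 0; omega)
      rw [hs2, hsι 0 (by decide)]
      exact (hcomm _ hwt (L.sq_one zN_spec.2.2.2.2.2.2.2.1)).2
    rw [hsι p hp, hsι q hq, ← map_mul, ← map_pow, adjN_rel.2.2 p q hp hq hpq, map_one]
  obtain ⟨cs, hcs⟩ := Cfsg.Agent.S2530.result 7
  have sinv : ∀ l, (s l)⁻¹ = s l := fun l => inv_eq_of_mul_eq_one_right (hss l)
  have hlift : (CoxeterMatrix.A 7).IsLiftable s := by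
    intro p q
    rcases eq_or_ne p q with rfl | hpq
    · simp [CoxeterMatrix.A, hss p]
    · have hpq' : p.val ≠ q.val := fun e => hpq (Fin.ext e)
      by_cases h1 : p.val + 1 = q.val ∨ q.val + 1 = p.val
      · have hM : (CoxeterMatrix.A 7) p q = 3 := by simp [CoxeterMatrix.A, hpq]; omega
        rw [hM]
        rcases h1 with h1 | h1
        · exact hbraid p q h1
        · rw [← inv_eq_one, ← inv_pow, mul_inv_rev, sinv, sinv]; exact hbraid q p h1
      · have hM : (CoxeterMatrix.A 7) p q = 2 := by simp [CoxeterMatrix.A, hpq]; omega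
        rw [hM]
        rcases Nat.lt_or_ge p.val q.val with h2 | h2
        · exact hfar p q (by omega)
        · rw [← inv_eq_one, ← inv_pow, mul_inv_rev, sinv, sinv]; exact hfar q p (by omega)
  let φ : Perm (Fin 8) →* G := cs.lift ⟨s, hlift⟩
  have hφ : ∀ l : Fin 7, φ (swap l.castSucc l.succ) = s l := fun l => by
    rw [← hcs l]; exact cs.lift_apply_simple hlift l
  have hagree : ∀ m : N35, φ (e35 m) = L.ι m := by
    have h3 : ∀ p : Perm (Fin 3), φ (e35 (p, 1)) = L.ι (p, 1) := by
      intro p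
      have hm : p ∈ Submonoid.closure (Set.range fun l : Fin 2 => swap l.castSucc l.succ) :=
        (Equiv.Perm.mclosure_swap_castSucc_succ 2).symm ▸ Submonoid.mem_top p
      induction hm using Submonoid.closure_induction with
      | mem y hy =>
        obtain ⟨l, rfl⟩ := hy
        rw [e35_gens.1 l, hφ]
        fin_cases l <;> rw [hsι _ (by decide)] <;> exact L.ι_eq (by decide +kernel)
      | one => rw [show ((1, 1) : N35) = 1 from rfl, map_one, map_one, map_one]
      | mul y z _ _ hy hz =>
        rw [show ((y * z, 1) : N35) = (y, 1) * (z, 1) by rw [Prod.mk_mul_mk, one_mul], map_mul, map_mul, map_mul,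
          hy, hz]
    have h5 : ∀ q : Perm (Fin 5), φ (e35 (1, q)) = L.ι (1, q) := by
      intro q
      have hm : q ∈ Submonoid.closure (Set.range fun l : Fin 4 => swap l.castSucc l.succ) :=
        (Equiv.Perm.mclosure_swap_castSucc_succ 4).symm ▸ Submonoid.mem_top q
      induction hm using Submonoid.closure_induction with
      | mem y hy =>
        obtain ⟨l, rfl⟩ := hy
        rw [e35_gens.2 l, hφ]
        fin_cases l <;> rw [hsι _ (by decide)] <;> exact L.ι_eq (by decide +kernel)
      | one => rw [show ((1, 1) : N35) = 1 from rfl, map_one, map_one, map_one]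
      | mul y z _ _ hy hz =>
        rw [show ((1, y * z) : N35) = (1, y) * (1, z) by rw [Prod.mk_mul_mk, one_mul], map_mul, map_mul, map_mul,
          hy, hz]
    intro m
    rw [show m = (m.1, 1) * (1, m.2) by rw [Prod.mk_mul_mk, mul_one, one_mul], map_mul, map_mul, map_mul, h3, h5]
  have hwφ : φ (swap (2 : Fin 8) 3) = w := (hφ 2).trans hs2
  refine ⟨⟨φ, ?_, hagree, ?_⟩⟩
  · -- injective
    rw [injective_iff_map_eq_one]
    intro k hk
    by_contra hk1
    haveI := alternatingGroup.isSimpleGroup (α := Fin 8) (by simp)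
    let K := φ.ker.subgroupOf (alternatingGroup (Fin 8))
    have hKn : K.Normal := Subgroup.normal_subgroupOf
    rcases hKn.eq_bot_or_eq_top with hK | hK
    · have hsq : k * k = 1 := by
        have hmem : k * k ∈ alternatingGroup (Fin 8) := by
          rw [Equiv.Perm.mem_alternatingGroup, map_mul]; exact Int.units_mul_self _
        have : (⟨k * k, hmem⟩ : alternatingGroup (Fin 8)) ∈ K := Subgroup.mem_subgroupOf.2 (by
          show φ (k * k) = 1
          rw [map_mul, hk, one_mul])
        rw [hK, Subgroup.mem_bot] at this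
        exact congrArg Subtype.val this
      have hcent : ∀ g : Perm (Fin 8), g * k * g⁻¹ = k := by
        intro g
        have hmem : g * k * g⁻¹ * k⁻¹ ∈ alternatingGroup (Fin 8) := by
          rw [Equiv.Perm.mem_alternatingGroup]
          simp only [map_mul, map_inv]
          rw [mul_comm (sign g) (sign k), mul_assoc (sign k), mul_inv_cancel, mul_one, mul_inv_cancel]
        have : (⟨g * k * g⁻¹ * k⁻¹, hmem⟩ : alternatingGroup (Fin 8)) ∈ K := Subgroup.mem_subgroupOf.2 (by
          show φ (g * k * g⁻¹ * k⁻¹) = 1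
          rw [map_mul, map_mul, map_mul, map_inv, map_inv, hk]; group)
        rw [hK, Subgroup.mem_bot] at this
        exact mul_inv_eq_one.1 (congrArg Subtype.val this)
      obtain ⟨r, hr, h, hh⟩ := conj_reps k hsq hk1
      have hrk : r = k := by
        rw [← hcent h⁻¹, ← hh]; group
      exact (reps8_spec.1 r hr).2 (by rw [hrk]; exact (mul_inv_eq_iff_eq_mul.1 (hcent _)).symm)
    · refine L.z_ne_one ?_
      show L.ι zN = 1
      rw [← hagree zN]
      have he : e35 zN ∈ alternatingGroup (Fin 8) := by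
        rw [Equiv.Perm.mem_alternatingGroup]; decide +kernel
      exact Subgroup.mem_subgroupOf.1 (show (⟨e35 zN, he⟩ : alternatingGroup (Fin 8)) ∈ K by
        rw [hK]; exact Subgroup.mem_top _)
  · -- the subgroup `X`
    intro v hv
    obtain ⟨m, hm, -⟩ := L.X_coord hv
    obtain ⟨y, hy, hyx⟩ : ∃ y : Fin 5, (y = 1 ∨ y = 2) ∧ y ≠ x := by
      rcases hx with rfl | rfl
      exacts [⟨2, Or.inr rfl, by decide⟩, ⟨1, Or.inl rfl, by decide⟩]
    let P5 : Subgroup N35 := (L.X ⊓ φ.range).comap L.ψ
    have hu : uN ∈ P5 := ⟨by rw [L.ψ_u]; exact L.z_mem_X, by rw [L.ψ_u]; exact ⟨_, hagree zN⟩⟩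
    have hk' : kN ∈ P5 := ⟨by rw [hkt]; exact L.t_mem_X, by rw [hkt]; exact ⟨_, hagree tN⟩⟩
    have hx' : ((1, swap 0 x) : N35) ∈ P5 := ⟨hw, ⟨_, hwφ⟩⟩
    have h6 : ∀ (l : Fin 3) (e : Fin 2), ((1, c034 ^ l.val * (swap 3 4) ^ e.val) : N35) ∈ P5 := by
      intro l e
      have h : uN ^ l.val * kN ^ e.val ∈ P5 := mul_mem (pow_mem hu _) (pow_mem hk' _)
      rwa [uN, kN, Prod.pow_mk, Prod.pow_mk, Prod.mk_mul_mk, one_pow, one_pow, mul_one] at h
    have hq : ∀ q : Perm (Fin 5), q y = y → ((1, q) : N35) ∈ P5 := by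
      intro q hq
      obtain ⟨l, e, rfl | ⟨l', e', rfl⟩⟩ := stab_words x y hx hy hyx q hq
      · exact h6 l e
      · have h := mul_mem (mul_mem (h6 l e) hx') (h6 l' e')
        rwa [Prod.mk_mul_mk, Prod.mk_mul_mk, one_mul, one_mul] at h
    have hmQ : ((1, m.2) : N35) ∈ P5 :=
      hq _ (stab_point hx hw hkt m.2 (L.mem_Q5 (by rw [hm]; exact hv)) y hy hyx)
    have hd : L.ψ (m * (1, m.2)⁻¹) ∈ L.X := by
      rw [map_mul, map_inv, hm]; exact mul_mem hv (inv_mem hmQ.1)
    obtain ⟨m', hm', hm'1⟩ := L.X_coord hd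
    obtain rfl := L.ψ_inj hm'
    have := L.ker_Q5 hd hm'1 (by rw [Prod.snd_mul, Prod.snd_inv, mul_inv_cancel])
    rw [mul_inv_eq_one] at this
    rw [← hm, this]
    exact hmQ.2

end Data

end CfsgLib.S8ThreeLocal
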