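import Cfsg.Agent.Lib.S8ThreeLocal.AFour

/-!
Finite checks for the conclusion of the first case.
-/

set_option autoImplicit false
set_option maxRecDepth 8000
set_option synthInstance.maxSize 1024

namespace CfsgLib.S8ThreeLocal

open Equiv Equiv.Perm CfsgLib.A8ThreeLocal

/-- An element exchanging the two three-cycles. -/
def hP : Perm (Fin 8) := swap 0 3 * swap 1 6 * swap 2 7 * swap 4 5

theorem e35_vals : e35 aN = dA ∧ e35 bN = dB ∧ e35 jN = swap 4 5 ∧ e35 tN = swap 0 1 ∧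
    e35 zN = swap 0 2 * swap 0 1 ∧ e35 uN = swap 3 7 * swap 3 6 := by decide +kernel

theorem reps_zu : ∀ r ∈ ([swap 0 3 * swap 1 6 * swap 2 7, hP] :
    List (Perm (Fin 8))), r * e35 (zN * uN) = e35 (zN * uN) * r ∧ r * e35 zN ≠ e35 zN * r := by decide +kernel

theorem hP_spec : sign hP = 1 ∧ hP * hP = 1 ∧ hP * e35 zN * hP = e35 uN ∧
    (∀ r ∈ reps8, r * r = 1 ∧ (r = dA ∨ r = swap 4 5 ∨ r = swap 0 3 * swap 1 6 * swap 2 7 ∨ r = hP)) ∧
    sign (swap 4 5 : Perm (Fin 8)) = -1 ∧ sign (swap 0 1 : Perm (Fin 8)) = -1 ∧ sign dA = 1 ∧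
    (swap 0 4 * swap 1 5) * (swap 0 1) * (swap 0 4 * swap 1 5)⁻¹ = (swap 4 5 : Perm (Fin 8)) := by decide +kernel

theorem e35_sign : (∀ p : Perm (Fin 3), sign (e35 (p, 1)) = sign p) ∧
    ∀ q : Perm (Fin 5), sign (e35 (1, q)) = sign q := by
  constructor <;> decide +kernel

theorem e35_mem_M35 {m : N35} (h : sign (e35 m) = 1) : m ∈ M35 := by
  rw [mem_M35, ← h]
  conv_rhs => rw [show m = (m.1, 1) * (1, m.2) by rw [Prod.mk_mul_mk, mul_one, one_mul]]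
  rw [map_mul, map_mul, e35_sign.1, e35_sign.2]

theorem e35_M35 (m : M35) : sign (e35 m.1) = 1 := by
  conv_lhs => rw [show m.1 = (m.1.1, 1) * (1, m.1.2) by rw [Prod.mk_mul_mk, mul_one, one_mul]]
  rw [map_mul, map_mul, e35_sign.1, e35_sign.2]
  exact mem_M35.1 m.2

theorem norm_c034_card36 : Nat.card {x : Perm (Fin 3) × Perm (Fin 5) //
    (x.2 * c034 * x.2⁻¹ = c034 ∨ x.2 * c034 * x.2⁻¹ = c034⁻¹) ∧ sign x.1 * sign x.2 = 1} = 36 := by
  rw [Nat.card_eq_fintype_card]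
  decide +kernel

theorem c034_pow_cases : ∀ q : Perm (Fin 5), ∀ i l : Fin 3, ((1, q * c034 * q⁻¹) : N35) = zN ^ i.val * uN ^ l.val →
    q * c034 * q⁻¹ = c034 ∨ q * c034 * q⁻¹ = c034⁻¹ := by decide +kernel

theorem zu_norm : ∀ p : Perm (Fin 3), ∀ i : Fin 3, ∃ i' : Fin 3, p * c3 ^ i.val * p⁻¹ = c3 ^ i'.val := by decide +kernel

theorem u_norm : ∀ l : Fin 3, (∃ l' : Fin 3, c034 ^ l.val = c034 ^ l'.val) ∧
    ∃ l' : Fin 3, (c034⁻¹) ^ l.val = c034 ^ l'.val := by decide +kernel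

end CfsgLib.S8ThreeLocal
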