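import Cfsg.Agent.Lib.ZStar.Main
import Cfsg.Agent.Lib.Comp.PComp
import Cfsg.Agent.Lib.CoprimeGen
import Cfsg.Agent.Lib.A8ThreeLocal.EightChecks
import Cfsg.Agent.Lib.A8ThreeLocal.Exclude

/-!
General facts used in the second case: an application of the theorem of Glauberman and a form of coprime generation.
-/

set_option autoImplicit false

namespace CfsgLib.S8ThreeLocal

universe u

variable {G : Type u} [Group G] [Finite G]

/-- An involution which is isolated modulo a central involution is central modulo an odd normal subgroup. -/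
theorem zstar_reduce {m a : G} (hm : m * m = 1) (hm1 : m ≠ 1) (ha : a * a = 1) (hca : Commute a m) (ha1 : a ≠ 1)
    (ham : a ≠ m)
    (hiso : ∀ g : G, Commute g m → (g * a * g⁻¹ * a = a * (g * a * g⁻¹) ∨ g * a * g⁻¹ * a = a * (g * a * g⁻¹) * m) →
      g * a * g⁻¹ = a ∨ g * a * g⁻¹ = a * m) :
    ∃ O : Subgroup G, (∀ o ∈ O, Commute o m) ∧ Odd (Nat.card O) ∧
      (∀ c : G, Commute c m → ∀ o ∈ O, c * o * c⁻¹ ∈ O) ∧
      ∀ g : G, Commute g m → ∃ o ∈ O, g * a * g⁻¹ * a⁻¹ = o ∨ g * a * g⁻¹ * a⁻¹ = m * o := by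
  classical
  haveI := Fact.mk Nat.prime_two
  set C := Subgroup.centralizer ({m} : Set G) with hC
  have memC : ∀ g, g ∈ C ↔ Commute g m := fun g => Subgroup.mem_centralizer_singleton_iff
  let mC : C := ⟨m, (memC _).2 (Commute.refl _)⟩
  let aC : C := ⟨a, (memC _).2 hca⟩
  have hm2 : ∀ k : ℤ, mC ^ k = 1 ∨ mC ^ k = mC := by
    intro k
    have h2 : mC ^ (2 : ℤ) = 1 := by
      rw [show (2 : ℤ) = ((2 : ℕ) : ℤ) from rfl, zpow_natCast, pow_two]; exact Subtype.ext hm
    rw [← Int.emod_add_mul_ediv k 2, zpow_add, zpow_mul, h2, one_zpow, mul_one]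
    obtain h | h : k % 2 = 0 ∨ k % 2 = 1 := by omega
    · left; rw [h, zpow_zero]
    · right; rw [h, zpow_one]
  set A := Subgroup.zpowers mC with hA
  have hmC : ∀ g : C, Commute g mC := fun g => Subtype.ext ((memC g.1).1 g.2).eq
  haveI hAn : A.Normal := ⟨fun n hn g => by
    obtain ⟨k, rfl⟩ := Subgroup.mem_zpowers_iff.1 hn
    rw [((hmC g).zpow_right k).eq, mul_inv_cancel_right]
    exact zpow_mem (Subgroup.mem_zpowers _) k⟩
  have hmem : ∀ x : C, x ∈ A ↔ x = 1 ∨ x = mC := fun x => by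
    constructor
    · intro hx
      obtain ⟨k, rfl⟩ := Subgroup.mem_zpowers_iff.1 hx
      exact hm2 k
    · rintro (rfl | rfl)
      exacts [one_mem _, Subgroup.mem_zpowers _]
  have hiso' : Cfsg.IsIsolated (QuotientGroup.mk' A aC) := by
    intro q hq
    obtain ⟨g, rfl⟩ := QuotientGroup.mk'_surjective A q
    rw [← map_inv, ← map_mul, ← map_mul] at hq ⊢
    set w := g * aC * g⁻¹ with hw
    have hw' : QuotientGroup.mk' A ((aC * w)⁻¹ * (w * aC)) = 1 := by
      rw [map_mul, map_inv, map_mul _ aC w, map_mul _ w aC, hq.eq, inv_mul_cancel]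
    rw [QuotientGroup.mk'_apply, QuotientGroup.eq_one_iff, hmem] at hw'
    rcases hiso g ((memC g.1).1 g.2) (by
      rcases hw' with e | e
      · rw [inv_mul_eq_one] at e
        exact Or.inl (congrArg Subtype.val e).symm
      · rw [inv_mul_eq_iff_eq_mul] at e
        exact Or.inr (congrArg Subtype.val e)) with e | e
    · exact congrArg (QuotientGroup.mk' A) (Subtype.ext e)
    · rw [QuotientGroup.mk'_eq_mk']
      refine ⟨mC, Subgroup.mem_zpowers _, Subtype.ext ?_⟩
      show (g : G) * a * (g : G)⁻¹ * m = a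
      rw [e, mul_assoc, hm, mul_one]
  have hord : orderOf (QuotientGroup.mk' A aC) = 2 := by
    refine orderOf_eq_prime ?_ fun e => ?_
    · rw [← map_pow, show aC ^ 2 = 1 from Subtype.ext (by rw [SubmonoidClass.coe_pow, pow_two]; exact ha), map_one]
    · rw [QuotientGroup.mk'_apply, QuotientGroup.eq_one_iff, hmem] at e
      rcases e with e | e
      · exact ha1 (congrArg Subtype.val e)
      · exact ham (congrArg Subtype.val e)
  set R := (Cfsg.pPrimeCore 2 (C ⧸ A)).comap (QuotientGroup.mk' A) with hR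
  haveI : R.Normal := by
    exact Subgroup.Normal.comap inferInstance _
  have hcomm : ∀ y : C, aC * y * aC⁻¹ * y⁻¹ ∈ R := fun y => by
    rw [hR, Subgroup.mem_comap, map_mul, map_mul, map_mul, map_inv, map_inv]
    exact CfsgLib.ZStar.commutator_mem hord hiso' _
  have hAR : A ≤ R := fun x hx => by
    rw [hR, Subgroup.mem_comap, QuotientGroup.mk'_apply, (QuotientGroup.eq_one_iff x).2 hx]; exact one_mem _
  have hA2 : Nat.card A = 2 := by
    rw [Nat.card_zpowers]
    exact orderOf_eq_prime (Subtype.ext (by rw [SubmonoidClass.coe_pow, pow_two]; exact hm))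
      fun e => hm1 (congrArg Subtype.val e)
  haveI : (A.subgroupOf R).Normal := Subgroup.Normal.subgroupOf hAn R
  have hidx : (A.subgroupOf R).index = Nat.card (Cfsg.pPrimeCore 2 (C ⧸ A)) := by
    rw [Subgroup.index]
    let f : R →* Cfsg.pPrimeCore 2 (C ⧸ A) := ((QuotientGroup.mk' A).comp R.subtype).codRestrict _ fun x => x.2
    have hf : Function.Surjective f := by
      rintro ⟨q, hq⟩
      obtain ⟨y, rfl⟩ := QuotientGroup.mk'_surjective A q
      exact ⟨⟨y, hq⟩, rfl⟩
    have hk : f.ker = A.subgroupOf R := by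
      ext x
      rw [MonoidHom.mem_ker, Subgroup.mem_subgroupOf, Subtype.ext_iff]
      exact QuotientGroup.eq_one_iff _
    exact Nat.card_congr ((QuotientGroup.quotientMulEquivOfEq hk).symm.trans
      (QuotientGroup.quotientKerEquivOfSurjective f hf)).toEquiv
  have hodd : Odd (A.subgroupOf R).index :=
    hidx ▸ Nat.coprime_two_right.1 (CfsgLib.card_pPrimeCore_coprime 2)
  obtain ⟨O₀, hO₀⟩ := Subgroup.exists_right_complement'_of_coprime (N := A.subgroupOf R) (by
    rw [Nat.card_congr (Subgroup.subgroupOfEquivOfLe hAR).toEquiv, hA2]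
    exact Nat.coprime_two_left.2 hodd)
  set O := O₀.map R.subtype with hO
  have hOR : O ≤ R := Subgroup.map_subtype_le _
  have hOodd : Odd (Nat.card O) := by
    rw [hO, Subgroup.card_map_of_injective R.subtype_injective]
    have h := hO₀.card_mul
    have h2 := (A.subgroupOf R).card_mul_index
    rw [← h] at h2
    have := Nat.eq_of_mul_eq_mul_left Nat.card_pos h2
    rwa [this] at hodd
  have hOpow : ∀ x ∈ O, x ^ Nat.card O = 1 := fun x hx =>
    congrArg Subtype.val (pow_card_eq_one' (x := (⟨x, hx⟩ : O)))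
  have hRO : ∀ y ∈ R, ∃ o ∈ O, y = o ∨ y = mC * o := by
    intro y hy
    obtain ⟨⟨⟨u, hu⟩, ⟨o, ho⟩⟩, huo⟩ := hO₀.2 ⟨y, hy⟩
    refine ⟨o, ⟨o, ho, rfl⟩, ?_⟩
    have h : (u.1 : C) * o.1 = y := congrArg Subtype.val huo
    rcases (hmem _).1 (Subgroup.mem_subgroupOf.1 hu) with e | e
    · left; rw [← h, e, one_mul]
    · right; rw [← h, e]
  have hOmem : ∀ y ∈ R, ∀ n : ℕ, Odd n → y ^ n = 1 → y ∈ O := by
    intro y hy n hn h
    obtain ⟨o, ho, e | e⟩ := hRO y hy
    · exact e ▸ ho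
    exfalso
    have h1 : (mC * o) ^ n = 1 := e ▸ h
    rw [(hmC o).symm.mul_pow] at h1
    obtain ⟨k, hk⟩ := hn
    have hmm : mC ^ 2 = 1 := Subtype.ext (by rw [SubmonoidClass.coe_pow, pow_two]; exact hm)
    have hmn : mC ^ n = mC := by rw [hk, pow_succ, pow_mul, hmm, one_pow, one_mul]
    rw [hmn] at h1
    have hmO : mC ∈ O := by
      rw [eq_inv_of_mul_eq_one_left h1]; exact inv_mem (pow_mem ho n)
    have h2 : mC ^ Nat.card O = mC := by
      obtain ⟨l, hl⟩ := hOodd
      rw [hl, pow_succ, pow_mul, hmm, one_pow, one_mul]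
    exact hm1 (congrArg Subtype.val (h2.symm.trans (hOpow _ hmO)))
  have hOn : ∀ y : C, ∀ o ∈ O, y * o * y⁻¹ ∈ O := fun y o ho =>
    hOmem _ ((inferInstance : R.Normal).conj_mem o (hOR ho) y) _ hOodd (by rw [conj_pow, hOpow o ho]; group)
  refine ⟨O.map C.subtype, ?_, ?_, ?_, ?_⟩
  · rintro _ ⟨o, -, rfl⟩
    exact (memC _).1 o.2
  · rwa [Subgroup.card_map_of_injective C.subtype_injective]
  · rintro c hc _ ⟨o, ho, rfl⟩
    exact ⟨_, hOn ⟨c, (memC _).2 hc⟩ o ho, rfl⟩
  · intro g hg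
    obtain ⟨o, ho, e⟩ := hRO _ (inv_mem (hcomm ⟨g, (memC _).2 hg⟩))
    have hval : ((aC * ⟨g, (memC _).2 hg⟩ * aC⁻¹ * (⟨g, (memC _).2 hg⟩ : C)⁻¹)⁻¹ : C).1 = g * a * g⁻¹ * a⁻¹ := by
      simp only [Subgroup.coe_inv, Subgroup.coe_mul]
      show (a * g * a⁻¹ * g⁻¹)⁻¹ = g * a * g⁻¹ * a⁻¹
      group
    refine ⟨o, ⟨o, ho, rfl⟩, e.imp (fun e => ?_) (fun e => ?_)⟩
    · rw [← hval, e]
    · rw [← hval, e, Subgroup.coe_mul]

/-- An odd subgroup normalised by a four-group is generated by the centralisers of the involutions. -/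
theorem klein_le {x y : G} (hx : x * x = 1) (hy : y * y = 1) (hc : Commute x y) (hx1 : x ≠ 1) (hy1 : y ≠ 1)
    (hxy : x ≠ y) {N H : Subgroup G} (hodd : Odd (Nat.card N)) (nx : ∀ n ∈ N, x * n * x⁻¹ ∈ N)
    (ny : ∀ n ∈ N, y * n * y⁻¹ ∈ N) (h1 : ∀ n ∈ N, Commute n x → n ∈ H) (h2 : ∀ n ∈ N, Commute n y → n ∈ H)
    (h3 : ∀ n ∈ N, Commute n (x * y) → n ∈ H) : N ≤ H := by
  classical
  let A : Subgroup G :=
    { carrier := {g | g = 1 ∨ g = x ∨ g = y ∨ g = x * y}
      one_mem' := Or.inl rfl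
      inv_mem' := by
        rintro g (rfl | rfl | rfl | rfl)
        · exact Or.inl inv_one
        · exact Or.inr (Or.inl (inv_eq_of_mul_eq_one_right hx))
        · exact Or.inr (Or.inr (Or.inl (inv_eq_of_mul_eq_one_right hy)))
        · refine Or.inr (Or.inr (Or.inr ?_))
          rw [mul_inv_rev, inv_eq_of_mul_eq_one_right hx, inv_eq_of_mul_eq_one_right hy, hc.eq]
      mul_mem' := by
        have e1 : ∀ v, x * (x * v) = v := fun v => by rw [← mul_assoc, hx, one_mul]
        have e2 : ∀ v, y * (y * v) = v := fun v => by rw [← mul_assoc, hy, one_mul]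
        have e3 : ∀ v, y * (x * v) = x * (y * v) := fun v => by rw [← mul_assoc, ← hc.eq, mul_assoc]
        rintro g g' (rfl | rfl | rfl | rfl) (rfl | rfl | rfl | rfl) <;>
          simp [mul_assoc, e1, e2, e3, hx, hy, ← hc.eq] }
  have hA2 : ∀ g ∈ A, g * g = 1 := by
    rintro g (rfl | rfl | rfl | rfl)
    · exact one_mul 1
    · exact hx
    · exact hy
    · rw [mul_assoc, ← mul_assoc y, ← hc.eq, mul_assoc x y y, hy, mul_one, hx]
  haveI hAc : IsMulCommutative A := ⟨⟨fun p q => Subtype.ext (by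
    show (p : G) * q = q * p
    have h := hA2 _ (mul_mem p.2 q.2)
    calc (p : G) * q = p * ((p : G) * q * (p * q)) * q := by rw [h, mul_one]
      _ = ((p : G) * p) * (q * p) * ((q : G) * q) := by group
      _ = q * p := by rw [hA2 _ p.2, hA2 _ q.2, one_mul, mul_one])⟩⟩
  have hAnc : ¬ IsCyclic A := by
    intro hcy
    obtain ⟨v, hv⟩ := IsCyclic.exists_generator (α := A)
    have hsub : ∀ w : A, w = 1 ∨ w = v := by
      intro w
      obtain ⟨k, hk⟩ := Subgroup.mem_zpowers_iff.1 (hv w)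
      have h2 : v ^ (2 : ℤ) = 1 := by
        rw [show (2 : ℤ) = ((2 : ℕ) : ℤ) from rfl, zpow_natCast, pow_two]; exact Subtype.ext (hA2 _ v.2)
      rw [← Int.emod_add_mul_ediv k 2, zpow_add, zpow_mul, h2, one_zpow, mul_one] at hk
      obtain h | h : k % 2 = 0 ∨ k % 2 = 1 := by omega
      · left; rw [← hk, h, zpow_zero]
      · right; rw [← hk, h, zpow_one]
    rcases hsub ⟨x, Or.inr (Or.inl rfl)⟩ with h | h
    · exact hx1 (congrArg Subtype.val h)
    rcases hsub ⟨y, Or.inr (Or.inr (Or.inl rfl))⟩ with h' | h'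
    · exact hy1 (congrArg Subtype.val h')
    · exact hxy (congrArg Subtype.val (h.trans h'.symm))
  have hAN : A ≤ Subgroup.normalizer (N : Set G) := by
    intro g hg
    refine CfsgLib.A8ThreeLocal.Loc.normalises_of fun n hn => ?_
    rcases hg with rfl | rfl | rfl | rfl
    · simpa using hn
    · exact nx n hn
    · exact ny n hn
    · rw [show x * y * n * (x * y)⁻¹ = x * (y * n * y⁻¹) * x⁻¹ by group]
      exact nx _ (ny n hn)
  have hcop : (Nat.card A).Coprime (Nat.card N) := by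
    haveI := Fact.mk Nat.prime_two
    obtain ⟨l, hl⟩ := IsPGroup.iff_card.1 (show IsPGroup 2 A from fun g => ⟨1, Subtype.ext (by
      rw [SubmonoidClass.coe_pow, pow_one, pow_two]; exact hA2 _ g.2)⟩)
    rw [hl]
    exact Nat.Coprime.pow_left _ (Nat.coprime_two_left.2 hodd)
  rw [← coprime_generated_by_centralizers hAnc hAN hcop]
  refine iSup₂_le fun v hv n hn => ?_
  obtain ⟨hnN, hnC⟩ := hn
  have hc' : Commute n v := Subgroup.mem_centralizer_singleton_iff.1 hnC
  rcases hv.1 with rfl | rfl | rfl | rfl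
  · exact absurd rfl hv.2
  · exact h1 n hnN hc'
  · exact h2 n hnN hc'
  · exact h3 n hnN hc'

/-- An element of odd order killed by `120` is killed by `15`. -/
theorem pow_fifteen {M : Type*} [Monoid M] {x : M} {n : ℕ} (hn : Odd n) (h1 : x ^ n = 1) (h2 : x ^ 120 = 1) :
    x ^ 15 = 1 := by
  refine orderOf_dvd_iff_pow_eq_one.1 ?_
  have hd : orderOf x ∣ 2 ^ 3 * 15 := orderOf_dvd_of_pow_eq_one h2
  exact (Nat.Coprime.pow_right 3 (Nat.coprime_two_right.2
    (Odd.of_dvd_nat hn (orderOf_dvd_of_pow_eq_one h1)))).dvd_of_dvd_mul_left hd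

end CfsgLib.S8ThreeLocal
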