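import Cfsg.Agent.Lib.S8ThreeLocal.BHom
import Cfsg.Agent.Lib.S8ThreeLocal.BTools

/-!
The centraliser of `a` in the second case.
-/

set_option autoImplicit false
set_option maxRecDepth 8000
set_option synthInstance.maxSize 1024

namespace CfsgLib.S8ThreeLocal

open Equiv Equiv.Perm CfsgLib.A8ThreeLocal

universe u

/-- The four-group of the second factor. -/
def Q4 : Subgroup (Perm (Fin 5)) where
  carrier := {q | q ∈ ([1, a5, b5, a5 * b5] : List (Perm (Fin 5)))}
  one_mem' := by simp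
  inv_mem' := by
    intro q hq
    simp only [Set.mem_setOf_eq, List.mem_cons, List.not_mem_nil, or_false] at hq ⊢
    rcases hq with rfl | rfl | rfl | rfl <;> decide +kernel
  mul_mem' := by
    intro p q hp hq
    simp only [Set.mem_setOf_eq, List.mem_cons, List.not_mem_nil, or_false] at hp hq ⊢
    rcases hp with rfl | rfl | rfl | rfl <;> rcases hq with rfl | rfl | rfl | rfl <;> decide +kernel

theorem Q4_card : Nat.card Q4 = 4 := by
  have e : Q4 ≃ {q : Perm (Fin 5) // q ∈ ([1, a5, b5, a5 * b5] : List (Perm (Fin 5)))} := Equiv.refl _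
  rw [Nat.card_congr e, Nat.card_eq_fintype_card]
  decide +kernel

theorem Q4_sign : ∀ q ∈ Q4, sign q = 1 := by
  intro q hq
  change q ∈ ([1, a5, b5, a5 * b5] : List (Perm (Fin 5))) at hq
  simp only [List.mem_cons, List.not_mem_nil, or_false] at hq
  rcases hq with rfl | rfl | rfl | rfl <;> decide +kernel

/-- The preimage of the centraliser of `a` and `b`. -/
def CV : Subgroup M55 := ((alternatingGroup (Fin 5)).prod Q4).subgroupOf M55

theorem CV_card : Nat.card CV = 240 := by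
  have hle : (alternatingGroup (Fin 5)).prod Q4 ≤ M55 := by
    rintro ⟨p, q⟩ ⟨hp, hq⟩
    rw [mem_M55, Equiv.Perm.mem_alternatingGroup.1 hp, Q4_sign q hq]
  rw [CV, Nat.card_congr (Subgroup.subgroupOfEquivOfLe hle).toEquiv,
    Nat.card_congr (Subgroup.prodEquiv _ _).toEquiv, Nat.card_prod, Q4_card, nat_card_alternatingGroup, Nat.card_fin]
  rfl

theorem Q4_comm : ∀ q ∈ Q4, q * a5 = a5 * q ∧ q * b5 = b5 * q := by
  intro q hq
  change q ∈ ([1, a5, b5, a5 * b5] : List (Perm (Fin 5))) at hq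
  simp only [List.mem_cons, List.not_mem_nil, or_false] at hq
  rcases hq with rfl | rfl | rfl | rfl <;> decide +kernel

/-- The elements centralising `a5` in both coordinates. -/
def D55 : Subgroup M55 :=
  ((Subgroup.centralizer ({a5} : Set (Perm (Fin 5)))).prod (Subgroup.centralizer ({a5} : Set (Perm (Fin 5))))).subgroupOf
    M55

theorem mem_D55 {m : M55} : m ∈ D55 ↔ m.1.1 * a5 = a5 * m.1.1 ∧ m.1.2 * a5 = a5 * m.1.2 := by
  rw [D55, Subgroup.mem_subgroupOf, Subgroup.mem_prod, Subgroup.mem_centralizer_singleton_iff,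
    Subgroup.mem_centralizer_singleton_iff]

theorem D55_card : Nat.card D55 = 32 := by
  have e : D55 ≃ {x : {q : Perm (Fin 5) // q * a5 = a5 * q} × {q : Perm (Fin 5) // q * a5 = a5 * q} //
      sign x.1.1 = sign x.2.1} :=
    { toFun := fun m => ⟨(⟨m.1.1.1, (mem_D55.1 m.2).1⟩, ⟨m.1.1.2, (mem_D55.1 m.2).2⟩), mem_M55.1 m.1.2⟩
      invFun := fun x => ⟨e55 x.1.1.1 x.1.2.1 x.2, mem_D55.2 ⟨x.1.1.2, x.1.2.2⟩⟩
      left_inv := fun m => rfl
      right_inv := fun x => rfl }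
  rw [Nat.card_congr e, Nat.card_eq_fintype_card]
  decide +kernel

theorem ψ4_basis : ∀ v : Fin 16, ψ4 v =
    ψ4 1 ^ (bit4 0 v).val * ψ4 2 ^ (bit4 1 v).val * ψ4 4 ^ (bit4 2 v).val * ψ4 8 ^ (bit4 3 v).val := by
  decide +kernel

theorem ψ4_vals : ψ4 0 = (1, 1) ∧ ψ4 1 = (1, a5) ∧ ψ4 2 = (1, b5) ∧ ψ4 3 = (1, a5 * b5) ∧ ψ4 4 = (a5, 1) ∧
    ψ4 6 = (a5, b5) ∧ ψ4 8 = (b5, 1) ∧ ψ4 12 = (a5 * b5, 1) := by decide +kernel

theorem gens_maps : (∀ v ∈ ([1, 2, 4, 8] : List (Fin 16)),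
      ((1, c234) : Perm (Fin 5) × Perm (Fin 5)) * ψ4 v * (1, c234)⁻¹ = ψ4 (app4 (2, 3, 4, 8) v)) ∧
    (∀ v ∈ ([1, 2, 4, 8] : List (Fin 16)),
      ((c234, 1) : Perm (Fin 5) × Perm (Fin 5)) * ψ4 v * (c234, 1)⁻¹ = ψ4 (app4 (1, 2, 8, 12) v)) ∧
    (∀ v ∈ ([1, 2, 4, 8] : List (Fin 16)),
      ((swap 1 2, swap 1 2) : Perm (Fin 5) × Perm (Fin 5)) * ψ4 v * (swap 1 2, swap 1 2)⁻¹ =
        ψ4 (app4 (1, 3, 4, 12) v)) ∧
    (∀ v ∈ ([1, 2, 4, 8] : List (Fin 16)), (((ψ4 v).2, (ψ4 v).1) : Perm (Fin 5) × Perm (Fin 5)) =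
        ψ4 (app4 (4, 8, 1, 2) v)) := by decide +kernel

theorem sel4_val : ∀ (i : Fin 2) (x : Fin 16), sel4 i x = if i = 0 then 0 else x := by decide +kernel

theorem app4_basis (f : Fin 16 × Fin 16 × Fin 16 × Fin 16) :
    app4 f 1 = f.1 ∧ app4 f 2 = f.2.1 ∧ app4 f 4 = f.2.2.1 ∧ app4 f 8 = f.2.2.2 := by
  obtain ⟨a, b, c, d⟩ := f
  have z1 : ∀ x : Fin 16, x ^^^ 0 = x := by decide +kernel
  have z2 : ∀ x : Fin 16, (0 : Fin 16) ^^^ x = x := by decide +kernel
  simp [app4, sel4_val, bit4, z1, z2]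

theorem r_conj : hN * uN * hN = rN ∧ ((1, c234) : N35) = rN := ⟨hN_spec.2.1, rfl⟩

namespace Data

variable {G : Type u} [Group G] {L : Data G}

/-- The vector as an element of the product. -/
def vM (v : Fin 16) : M55 := e55 (ψ4 v).1 (ψ4 v).2 ((ψ4_sign v).1.trans (ψ4_sign v).2.symm)

theorem vM_xor (v w : Fin 16) : vM (v ^^^ w) = vM v * vM w := Subtype.ext (ψ4_xor v w)

theorem vM_inj {v w : Fin 16} (h : vM v = vM w) : v = w := ψ4_inj v w (congrArg Subtype.val h)

/-- An element realises a map of the vectors. -/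
def BCase.Realises (B : L.BCase) (y : G) (f : Fin 16 → Fin 16) : Prop :=
  ∀ v, y * B.φ (vM v) * y⁻¹ = B.φ (vM (f v))

theorem BCase.realises_of (B : L.BCase) {y : G} {f : Fin 16 × Fin 16 × Fin 16 × Fin 16}
    (h : ∀ v ∈ ([1, 2, 4, 8] : List (Fin 16)), y * B.φ (vM v) * y⁻¹ = B.φ (vM (app4 f v))) :
    B.Realises y (app4 f) := by
  have h1 := h 1 (by simp)
  have h2 := h 2 (by simp)
  have h3 := h 4 (by simp)
  have h4 := h 8 (by simp)
  have hb := app4_basis f
  rw [hb.1] at h1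
  rw [hb.2.1] at h2
  rw [hb.2.2.1] at h3
  rw [hb.2.2.2] at h4
  have h0 : vM 0 = 1 := Subtype.ext ψ4_vals.1
  have hsel : ∀ (i : Fin 2) (x : Fin 16), B.φ (vM (sel4 i x)) = B.φ (vM x) ^ i.val := by
    intro i x
    fin_cases i
    · show B.φ (vM 0) = _
      rw [h0, map_one]
      exact (pow_zero _).symm
    · exact (pow_one _).symm
  intro v
  have hv : vM v = vM 1 ^ (bit4 0 v).val * vM 2 ^ (bit4 1 v).val * vM 4 ^ (bit4 2 v).val * vM 8 ^ (bit4 3 v).val :=
    Subtype.ext (ψ4_basis v)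
  rw [app4, vM_xor, vM_xor, vM_xor, map_mul, map_mul, map_mul, hsel, hsel, hsel, hsel, ← h1, ← h2, ← h3, ← h4,
    conj_pow, conj_pow, conj_pow, conj_pow, hv, map_mul, map_mul, map_mul, map_pow, map_pow, map_pow, map_pow]
  group

theorem BCase.realises_gens (B : L.BCase) :
    B.Realises (B.φ (e55 1 c234 (by decide +kernel))) (app4 (2, 3, 4, 8)) ∧
    B.Realises (B.φ (e55 c234 1 (by decide +kernel))) (app4 (1, 2, 8, 12)) ∧
    B.Realises L.j (app4 (1, 3, 4, 12)) ∧ B.Realises L.σ (app4 (4, 8, 1, 2)) := by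
  obtain ⟨g1, g2, g3, g4⟩ := gens_maps
  obtain ⟨-, -, -, -, φj, -, -⟩ := B.φ_vals
  refine ⟨B.realises_of fun v hv => ?_, B.realises_of fun v hv => ?_, B.realises_of fun v hv => ?_,
    B.realises_of fun v hv => ?_⟩
  · rw [← map_inv, ← map_mul, ← map_mul]; exact congrArg B.φ (Subtype.ext (g1 v hv))
  · rw [← map_inv, ← map_mul, ← map_mul]; exact congrArg B.φ (Subtype.ext (g2 v hv))
  · rw [← φj, ← map_inv, ← map_mul, ← map_mul]; exact congrArg B.φ (Subtype.ext (g3 v hv))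
  · rw [L.σ_inv, B.swap_φ]; exact congrArg B.φ (Subtype.ext (g4 v hv))

variable [Finite G]

/-- The centraliser of `a` and `b` has order two hundred and forty. -/
theorem BCase.cent_ab (B : L.BCase) :
    Subgroup.centralizer ({L.a} : Set G) ⊓ Subgroup.centralizer ({L.b} : Set G) = CV.map B.φ := by
  ext g
  rw [Subgroup.mem_inf, Subgroup.mem_centralizer_singleton_iff, Subgroup.mem_centralizer_singleton_iff]
  constructor
  · rintro ⟨h1, h2⟩
    obtain ⟨p, v, h, hp, hv, rfl⟩ := B.centV h1 h2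
    exact ⟨e55 p v h, Subgroup.mem_subgroupOf.2 ⟨Equiv.Perm.mem_alternatingGroup.2 hp, hv⟩, rfl⟩
  · rintro ⟨⟨⟨p, q⟩, hm⟩, hmem, rfl⟩
    obtain ⟨hp, hq⟩ := Subgroup.mem_subgroupOf.1 hmem
    obtain ⟨φa, φb, -, -, -, -, -⟩ := B.φ_vals
    obtain ⟨h1, h2⟩ := Q4_comm q hq
    rw [← φa, ← φb]
    exact ⟨(Commute.map (Subtype.ext (Prod.ext ((mul_one _).trans (one_mul _).symm) h1)) B.φ).eq,
      (Commute.map (Subtype.ext (Prod.ext ((mul_one _).trans (one_mul _).symm) h2)) B.φ).eq⟩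

/-- No element centralising `a` maps `b` to `tb`. -/
theorem BCase.no_tb (B : L.BCase) {g : G} (ha : Commute g L.a) (hb : g * L.b * g⁻¹ = L.t * L.b) : False := by
  classical
  haveI := Fact.mk Nat.prime_two
  obtain ⟨φa, φb, φt, -, -, -, -⟩ := B.φ_vals
  obtain ⟨v0, v1, v2, v3, v4, v6, v8, v12⟩ := ψ4_vals
  have e1 : B.φ (vM 1) = L.a := by rw [← φa]; exact congrArg B.φ (Subtype.ext v1)
  have e2 : B.φ (vM 2) = L.b := by rw [← φb]; exact congrArg B.φ (Subtype.ext v2)
  have e3 : B.φ (vM 3) = L.a * L.b := by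
    rw [← φa, ← φb, ← map_mul]
    exact congrArg B.φ (Subtype.ext (v3.trans (Prod.ext (one_mul _).symm rfl)))
  have e4 : B.φ (vM 4) = L.t := by rw [← φt]; exact congrArg B.φ (Subtype.ext v4)
  have e6 : B.φ (vM 6) = L.t * L.b := by rw [show (6 : Fin 16) = 4 ^^^ 2 by decide +kernel, vM_xor, map_mul, e4, e2]
  let F : Subgroup G :=
    { carrier := Set.range fun v => B.φ (vM v)
      one_mem' := ⟨0, by show B.φ (vM 0) = 1; rw [show vM 0 = 1 from Subtype.ext v0, map_one]⟩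
      mul_mem' := by
        rintro _ _ ⟨v, rfl⟩ ⟨w, rfl⟩
        exact ⟨v ^^^ w, by show B.φ (vM (v ^^^ w)) = _; rw [vM_xor, map_mul]⟩
      inv_mem' := by
        rintro _ ⟨v, rfl⟩
        refine ⟨v, (inv_eq_of_mul_eq_one_right ?_).symm⟩
        show B.φ (vM v) * B.φ (vM v) = 1
        rw [← map_mul, ← vM_xor, xor_self4, show vM 0 = 1 from Subtype.ext v0, map_one] }
  have hcomm : ∀ v w, Commute (B.φ (vM v)) (B.φ (vM w)) := fun v w => by
    rw [commute_iff_eq, ← map_mul, ← map_mul, ← vM_xor, ← vM_xor, Fin.xor_comm]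
  have hFcard : Nat.card F = 16 := by
    show Nat.card (Set.range fun v => B.φ (vM v)) = 16
    rw [Nat.card_range_of_injective fun v w e => vM_inj (B.inj e), Nat.card_fin]
  have hga : g * L.a * g⁻¹ = L.a := by rw [ha.eq, mul_inv_cancel_right]
  set C := Subgroup.centralizer ({L.a} : Set G) ⊓ Subgroup.centralizer ({L.t * L.b} : Set G) with hC
  have hFab : F ≤ Subgroup.centralizer ({L.a} : Set G) ⊓ Subgroup.centralizer ({L.b} : Set G) := by
    rintro _ ⟨v, rfl⟩
    rw [Subgroup.mem_inf, Subgroup.mem_centralizer_singleton_iff, Subgroup.mem_centralizer_singleton_iff, ← e1,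
      ← e2]
    exact ⟨hcomm v 1, hcomm v 2⟩
  have hFC : F ≤ C := by
    rintro _ ⟨v, rfl⟩
    rw [hC, Subgroup.mem_inf, Subgroup.mem_centralizer_singleton_iff, Subgroup.mem_centralizer_singleton_iff, ← e1,
      ← e6]
    exact ⟨hcomm v 1, hcomm v 6⟩
  have hCeq : (Subgroup.centralizer ({L.a} : Set G) ⊓ Subgroup.centralizer ({L.b} : Set G)).map
      (MulAut.conj g).toMonoidHom = C := by
    ext x
    rw [Subgroup.mem_map_equiv, MulAut.conj_symm_apply, hC, Subgroup.mem_inf, Subgroup.mem_inf]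
    simp only [Subgroup.mem_centralizer_singleton_iff]
    have key : ∀ y z : G, g * y * g⁻¹ = z → (g⁻¹ * x * g * y = y * (g⁻¹ * x * g) ↔ x * z = z * x) := by
      intro y z e
      subst e
      constructor
      · intro h
        calc x * (g * y * g⁻¹) = g * (g⁻¹ * x * g * y) * g⁻¹ := by group
          _ = g * (y * (g⁻¹ * x * g)) * g⁻¹ := by rw [h]
          _ = _ := by group
      · intro h
        calc g⁻¹ * x * g * y = g⁻¹ * (x * (g * y * g⁻¹)) * g := by group
          _ = g⁻¹ * (g * y * g⁻¹ * x) * g := by rw [h]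
          _ = _ := by group
    rw [key _ _ hga, key _ _ hb]
  have hCcard : Nat.card C = 240 := by
    rw [← hCeq, Subgroup.card_map_of_injective (MulAut.conj g).injective, B.cent_ab,
      Subgroup.card_map_of_injective B.inj, CV_card]
  set F' := F.map (MulAut.conj g).toMonoidHom with hF'
  have hF'C : F' ≤ C := hCeq ▸ Subgroup.map_mono hFab
  have hF'card : Nat.card F' = 16 := by
    rw [hF', Subgroup.card_map_of_injective (MulAut.conj g).injective, hFcard]
  have h16 : 16 = 2 ^ (Nat.card C).factorization 2 := by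
    rw [hCcard, show (240 : ℕ) = 2 ^ 4 * 15 by norm_num, Nat.factorization_mul (by norm_num) (by norm_num),
      Finsupp.add_apply, Nat.Prime.factorization_pow Nat.prime_two, Finsupp.single_eq_same,
      Nat.factorization_eq_zero_of_not_dvd (by norm_num : ¬ 2 ∣ 15), add_zero]
    norm_num
  let P1 : Sylow 2 C := Sylow.ofCard (F.subgroupOf C)
    (by rw [Nat.card_congr (Subgroup.subgroupOfEquivOfLe hFC).toEquiv, hFcard]; exact h16)
  let P2 : Sylow 2 C := Sylow.ofCard (F'.subgroupOf C)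
    (by rw [Nat.card_congr (Subgroup.subgroupOfEquivOfLe hF'C).toEquiv, hF'card]; exact h16)
  obtain ⟨c, hc⟩ := MulAction.exists_smul_eq C P2 P1
  have hρF : ∀ v, ∃ w, (c : G) * g * B.φ (vM v) * ((c : G) * g)⁻¹ = B.φ (vM w) := by
    intro v
    have h1 : (⟨g * B.φ (vM v) * g⁻¹, hF'C ⟨_, ⟨v, rfl⟩, rfl⟩⟩ : C) ∈ (P2 : Subgroup C) :=
      Subgroup.mem_subgroupOf.2 ⟨_, ⟨v, rfl⟩, rfl⟩
    have h2 := Subgroup.smul_mem_pointwise_smul _ (MulAut.conj c) _ h1
    rw [← Sylow.coe_subgroup_smul, hc] at h2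
    obtain ⟨w, hw⟩ := Subgroup.mem_subgroupOf.1 (show _ ∈ F.subgroupOf C from h2)
    refine ⟨w, ?_⟩
    rw [show B.φ (vM w) = (c : G) * (g * B.φ (vM v) * g⁻¹) * ((c : G))⁻¹ from hw]
    group
  set ρ := (c : G) * g with hρ
  have hcC1 : (c : G) * L.a = L.a * c := Subgroup.mem_centralizer_singleton_iff.1 c.2.1
  have hcC2 : (c : G) * (L.t * L.b) = L.t * L.b * c := Subgroup.mem_centralizer_singleton_iff.1 c.2.2
  have hρa : ρ * B.φ (vM 1) * ρ⁻¹ = B.φ (vM 1) := by
    rw [e1, hρ, show (c : G) * g * L.a * ((c : G) * g)⁻¹ = (c : G) * (g * L.a * g⁻¹) * (c : G)⁻¹ by group, hga,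
      hcC1, mul_inv_cancel_right]
  have hρb : ρ * B.φ (vM 2) * ρ⁻¹ = B.φ (vM 6) := by
    rw [e2, e6, hρ, show (c : G) * g * L.b * ((c : G) * g)⁻¹ = (c : G) * (g * L.b * g⁻¹) * (c : G)⁻¹ by group, hb,
      hcC2, mul_inv_cancel_right]
  obtain ⟨t, ht⟩ := hρF 4
  obtain ⟨q, hq⟩ := hρF 8
  have hb4 := app4_basis (1, 6, t, q)
  have hP : B.Realises ρ (app4 (1, 6, t, q)) := B.realises_of fun v hv => by
    simp only [List.mem_cons, List.not_mem_nil, or_false] at hv
    rcases hv with rfl | rfl | rfl | rfl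
    · rw [hb4.1]; exact hρa
    · rw [hb4.2.1]; exact hρb
    · rw [hb4.2.2.1]; exact ht
    · rw [hb4.2.2.2]; exact hq
  have hinj : ∀ v, app4 (1, 6, t, q) v = 0 → v = 0 := by
    intro v hv
    have := hP v
    rw [hv, show vM 0 = 1 from Subtype.ext v0, map_one, conj_eq_one_iff] at this
    exact vM_inj (B.inj (this.trans (by rw [show vM 0 = 1 from Subtype.ext v0, map_one])))
  obtain ⟨word, -, hword⟩ := List.any_eq_true.1 (finite_ρ t q hinj)
  simp only [decide_eq_true_eq] at hword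
  obtain ⟨gr, gu, gj, gs⟩ := B.realises_gens
  let gens : Fin 5 → G := ![B.φ (e55 1 c234 (by decide +kernel)), B.φ (e55 c234 1 (by decide +kernel)), L.j, L.σ, ρ]
  have hword' : ∀ w : List (Fin 5), B.Realises ((w.map gens).prod) (word5 (1, 6, t, q) w) := by
    intro w
    induction w with
    | nil => intro v; simp [word5]
    | cons i w ih =>
      intro v
      rw [List.map_cons, List.prod_cons, show gens i * (w.map gens).prod * B.φ (vM v) *
        (gens i * (w.map gens).prod)⁻¹ = gens i * ((w.map gens).prod * B.φ (vM v) * ((w.map gens).prod)⁻¹) *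
        (gens i)⁻¹ by group, ih v]
      fin_cases i
      exacts [gr _, gu _, gj _, gs _, hP _]
  set y := (word.map gens).prod
  set f := word5 (1, 6, t, q) word
  have hy : B.Realises y f := hword' word
  obtain ⟨h1, h2, hcase⟩ := hword
  have hV : ∀ v : Fin 16, v ∈ ([1, 2, 3] : List (Fin 16)) → ∃ x ∈ [aN, bN, aN * bN], B.φ (vM v) = L.ι x := by
    intro v hv
    simp only [List.mem_cons, List.not_mem_nil, or_false] at hv
    rcases hv with rfl | rfl | rfl
    exacts [⟨aN, by simp, e1⟩, ⟨bN, by simp, e2⟩, ⟨aN * bN, by simp, e3.trans (map_mul _ _ _).symm⟩]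
  rcases hcase with hlow | ⟨hf1, hf2, hpat⟩
  · obtain ⟨xa, hxa, exa⟩ := hV _ h1
    obtain ⟨xb, hxb, exb⟩ := hV _ h2
    obtain ⟨m, hm⟩ := B.normV (g := y) ⟨xa, hxa, by rw [← e1, hy 1, exa]⟩ ⟨xb, hxb, by rw [← e2, hy 2, exb]⟩
    have key : ∀ w : Fin 16, w ≠ 0 → (ψ4 w).2 = 1 → f w ∈ ([4, 8, 12] : List (Fin 16)) := by
      intro w hw hw2
      have h := hy w
      refine ψ4_low _ (fun e => hw ?_) ?_
      · rw [e, show vM 0 = 1 from Subtype.ext v0, map_one, conj_eq_one_iff] at h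
        exact vM_inj ((B.inj (h.trans (map_one B.φ).symm)).trans (Subtype.ext v0).symm)
      · rw [← hm, ← map_inv, ← map_mul, ← map_mul] at h
        have h2 := congrArg (fun z : M55 => z.1.2) (B.inj h)
        change m.1.2 * (ψ4 w).2 * m.1.2⁻¹ = (ψ4 (f w)).2 at h2
        rw [← h2, hw2, mul_one, mul_inv_cancel]
    exact hlow ⟨key 4 (by decide) (by rw [v4]), key 8 (by decide) (by rw [v8])⟩
  · have hya : Commute y L.a := mul_inv_eq_iff_eq_mul.1 (by rw [← e1, hy 1, hf1])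
    have hyb : Commute y L.b := mul_inv_eq_iff_eq_mul.1 (by rw [← e2, hy 2, hf2])
    obtain ⟨p, v, hpv, hp, -, hyφ⟩ := B.centV hya hyb
    have hk : ∀ w : Fin 16, p * (ψ4 w).1 * p⁻¹ = (ψ4 (f w)).1 := by
      intro w
      have h := hy w
      rw [hyφ, ← map_inv, ← map_mul, ← map_mul] at h
      exact congrArg (fun z : M55 => z.1.1) (B.inj h)
    obtain ⟨n1, n2, n3⟩ := even_four p hp
    have k4 := hk 4
    have k8 := hk 8
    rw [v4] at k4
    rw [v8] at k8
    rcases hpat with ⟨h4, h8⟩ | ⟨h4, h8⟩ | ⟨h4, h8⟩ <;> rw [h4] at k4 <;> rw [h8] at k8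
    · rw [v4] at k4; rw [v12] at k8; exact n1 ⟨k4, k8⟩
    · rw [v8] at k4; rw [v4] at k8; exact n2 ⟨k4, k8⟩
    · rw [v12] at k4; rw [v8] at k8; exact n3 ⟨k4, k8⟩

/-- Conjugates of `b` commuting with it modulo `a`. -/
theorem BCase.iso_a (B : L.BCase) {g : G} (hga : Commute g L.a)
    (hc : g * L.b * g⁻¹ * L.b = L.b * (g * L.b * g⁻¹) ∨ g * L.b * g⁻¹ * L.b = L.b * (g * L.b * g⁻¹) * L.a) :
    g * L.b * g⁻¹ = L.b ∨ g * L.b * g⁻¹ = L.b * L.a := by
  classical
  obtain ⟨φa, φb, φt, φm, φj, -, -⟩ := B.φ_vals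
  set w := g * L.b * g⁻¹ with hw
  have cab : Commute L.a L.b := Commute.map (by rw [commute_iff_eq]; decide +kernel : Commute aN bN) L.ι
  have hga' : g * L.a * g⁻¹ = L.a := by rw [hga.eq, mul_inv_cancel_right]
  have hwa : Commute w L.a := by
    refine mul_inv_eq_iff_eq_mul.1 ?_
    rw [hw, show g * L.b * g⁻¹ * L.a * (g * L.b * g⁻¹)⁻¹ = g * L.b * (g⁻¹ * L.a * g) * L.b⁻¹ * g⁻¹ by group,
      show g⁻¹ * L.a * g = L.a by rw [mul_assoc, ← hga.eq, inv_mul_cancel_left], mul_assoc g L.b L.a, ← cab.eq,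
      show g * (L.a * L.b) * L.b⁻¹ * g⁻¹ = g * L.a * g⁻¹ by group, hga']
  have hw2 : w * w = 1 := by
    rw [hw, show g * L.b * g⁻¹ * (g * L.b * g⁻¹) = g * (L.b * L.b) * g⁻¹ by group, L.b_sq]; group
  have hwb : w * L.b * w⁻¹ = L.b ∨ w * L.b * w⁻¹ = L.a * L.b := by
    rcases hc with e | e
    · exact Or.inl (by rw [e, mul_inv_cancel_right])
    · right
      rw [e, mul_assoc L.b w L.a, hwa.eq, ← mul_assoc L.b, mul_inv_cancel_right, cab.eq]
  obtain ⟨⟨⟨p, q⟩, hm⟩, hmw⟩ : w ∈ B.φ.range := B.normV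
    ⟨aN, by simp, by rw [hwa.eq, mul_inv_cancel_right]⟩ (by
      rcases hwb with e | e
      exacts [⟨bN, by simp, e⟩, ⟨aN * bN, by simp, e.trans (map_mul _ _ _).symm⟩])
  have hATw : L.AT w := AT.conj (conj_a_V (Or.inl rfl)) g
  have hpp := congrArg Subtype.val (B.inj (a₁ := ⟨(p, q), hm⟩ * ⟨(p, q), hm⟩) (a₂ := 1)
    (by rw [map_mul, hmw, hw2, map_one]))
  have hp2 : p * p = 1 := congrArg Prod.fst hpp
  have hq2 : q * q = 1 := congrArg Prod.snd hpp
  have hqa : q * a5 = a5 * q := by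
    have h : (⟨(p, q), hm⟩ : M55) * e55 1 a5 (by decide +kernel) = e55 1 a5 (by decide +kernel) * ⟨(p, q), hm⟩ :=
      B.inj (by rw [map_mul, map_mul, hmw, φa]; exact hwa.eq)
    exact congrArg (fun z : M55 => z.1.2) h
  have hsg : sign p = sign q := mem_M55.1 hm
  rcases Int.units_eq_one_or (sign q) with hs | hs
  swap
  · -- an odd conjugate is of the class of `j`
    exfalso
    have hp1 : p ≠ 1 := by rintro rfl; rw [map_one, hs] at hsg; exact absurd hsg (by decide)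
    have hq1 : q ≠ 1 := by rintro rfl; rw [map_one] at hs; exact absurd hs (by decide)
    obtain ⟨h1, s1, e1⟩ := (invol_five p hp2 hp1).2 (hsg.trans hs)
    obtain ⟨h2, s2, e2⟩ := (invol_five q hq2 hq1).2 hs
    refine not_AT_j (L := L) (B.φ (e55 h1 h2 (s1.trans s2.symm))) ?_
    rw [← φj, ← map_inv, ← map_mul, ← map_mul,
      show e55 h1 h2 (s1.trans s2.symm) * e55 (swap 1 2) (swap 1 2) rfl * (e55 h1 h2 (s1.trans s2.symm))⁻¹ =
        ⟨(p, q), hm⟩ from Subtype.ext (Prod.ext e1 e2), hmw]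
    exact hATw
  have hval : ∀ (v : Perm (Fin 5)) (h : sign (1 : Perm (Fin 5)) = sign v), p = 1 → q = v → w = B.φ (e55 1 v h) := by
    intro v h e1 e2
    rw [← hmw]
    exact congrArg B.φ (Subtype.ext (Prod.ext e1 e2))
  by_cases hp1 : p = 1
  · rcases (invol_cent_a q hqa hq2).1 hs with e | e | e | e
    · exfalso
      refine a_ne_one (L := L) ?_
      obtain ⟨n, hn⟩ := hATw
      rw [hval 1 rfl hp1 e, show e55 1 1 rfl = 1 from rfl, map_one] at hn
      exact conj_eq_one_iff.1 hn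
    · exfalso
      have h := hval a5 (by decide +kernel) hp1 e
      rw [φa, hw, ← hga'] at h
      exact absurd (L.inj (mul_left_cancel (mul_right_cancel h))) (by decide +kernel)
    · left
      rw [hval b5 (by decide +kernel) hp1 e, φb]
    · right
      rw [hval (a5 * b5) (by decide +kernel) hp1 e, ← φa, ← φb, ← map_mul]
      refine congrArg B.φ (Subtype.ext (Prod.ext (one_mul _).symm ?_))
      show a5 * b5 = b5 * a5
      decide +kernel
  exfalso
  obtain ⟨h1, s1, e1⟩ := (invol_five p hp2 hp1).1 (hsg.trans hs)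
  set n := B.φ (e55 h1 1 (s1.trans (map_one _).symm)) with hn
  set g' := n⁻¹ * g with hg'
  have hna : Commute n L.a := by
    rw [hn, ← φa]
    exact Commute.map (Subtype.ext (Prod.ext ((mul_one _).trans (one_mul _).symm)
      ((one_mul _).trans (mul_one _).symm))) B.φ
  have hg'a : Commute g' L.a := hna.inv_left.mul_left hga
  have hg'b : g' * L.b * g'⁻¹ = B.φ (e55 a5 q (by rw [hs]; decide +kernel)) := by
    rw [hg', show n⁻¹ * g * L.b * (n⁻¹ * g)⁻¹ = n⁻¹ * w * n by rw [hw]; group, ← hmw, hn, ← map_inv, ← map_mul,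
      ← map_mul]
    refine congrArg B.φ (Subtype.ext (Prod.ext ?_ ?_))
    · show h1⁻¹ * p * h1 = a5
      rw [← e1]; group
    · show (1 : Perm (Fin 5))⁻¹ * q * 1 = q
      group
  have hsmall : (q = 1 ∨ q = a5) → False := by
    intro hq
    let S := (D55.map B.φ).map (MulAut.conj g'⁻¹).toMonoidHom
    have hS : S ≤ CV.map B.φ := by
      rw [← B.cent_ab]
      rintro _ ⟨_, ⟨m, hmem, rfl⟩, rfl⟩
      obtain ⟨m1, m2⟩ := mem_D55.1 hmem
      have c1 : Commute (B.φ m) L.a := by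
        rw [← φa]
        exact Commute.map (Subtype.ext (Prod.ext ((mul_one _).trans (one_mul _).symm) m2)) B.φ
      have c2 : Commute (B.φ m) (g' * L.b * g'⁻¹) := by
        rw [hg'b]
        refine Commute.map (Subtype.ext (Prod.ext m1 ?_)) B.φ
        show m.1.2 * q = q * m.1.2
        rcases hq with rfl | rfl
        exacts [(mul_one _).trans (one_mul _).symm, m2]
      simp only [MulEquiv.coe_toMonoidHom, MulAut.conj_apply, inv_inv, Subgroup.mem_inf,
        Subgroup.mem_centralizer_singleton_iff]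
      constructor
      · exact ((hg'a.inv_left.mul_left c1).mul_left hg'a).eq
      · calc g'⁻¹ * B.φ m * g' * L.b = g'⁻¹ * (B.φ m * (g' * L.b * g'⁻¹)) * g' := by group
          _ = g'⁻¹ * (g' * L.b * g'⁻¹ * B.φ m) * g' := by rw [c2.eq]
          _ = _ := by group
    have := Subgroup.card_dvd_of_le hS
    rw [Subgroup.card_map_of_injective (MulAut.conj g'⁻¹).injective, Subgroup.card_map_of_injective B.inj,
      Subgroup.card_map_of_injective B.inj, D55_card, CV_card] at this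
    norm_num at this
  rcases (invol_cent_a q hqa hq2).1 hs with rfl | rfl | rfl | rfl
  · exact hsmall (Or.inl rfl)
  · exact hsmall (Or.inr rfl)
  · refine B.no_tb hg'a (hg'b.trans ?_)
    rw [← φt, ← φb, ← map_mul]
    exact congrArg B.φ (Subtype.ext (Prod.ext (mul_one _).symm (one_mul _).symm))
  · have hja : Commute L.j L.a := Commute.map (by rw [commute_iff_eq]; decide +kernel : Commute jN aN) L.ι
    refine B.no_tb (g := L.j * g') (hja.mul_left hg'a) ?_
    rw [show L.j * g' * L.b * (L.j * g')⁻¹ = L.j * (g' * L.b * g'⁻¹) * L.j⁻¹ by group, hg'b, ← φj, ← φt, ← φb,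
      ← map_inv, ← map_mul, ← map_mul, ← map_mul]
    refine congrArg B.φ (Subtype.ext (Prod.ext ?_ ?_))
    · show (swap 1 2 : Perm (Fin 5)) * a5 * (swap 1 2)⁻¹ = a5 * 1
      decide +kernel
    · show (swap 1 2 : Perm (Fin 5)) * (a5 * b5) * (swap 1 2)⁻¹ = 1 * b5
      decide +kernel

theorem BCase.cent_r (B : L.BCase) {x : G} (hx : Commute x (L.ι rN)) : x ∈ B.φ.range := by
  have hh : (L.ι hN)⁻¹ = L.ι hN := inv_eq_of_mul_eq_one_right (L.sq_one hN_spec.1)
  have h1 : Commute (L.ι hN * x * L.ι hN) L.u := by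
    have := hx.map (MulAut.conj (L.ι hN)).toMonoidHom
    simp only [MulEquiv.coe_toMonoidHom, MulAut.conj_apply, hh] at this
    rwa [show L.ι hN * L.ι rN * L.ι hN = L.u by
      rw [← map_mul, ← map_mul]
      exact L.ι_eq (by decide +kernel)] at this
  set y := L.ι hN * x * L.ι hN with hy
  have h2 : Commute (L.σ * y * L.σ) L.z := by
    rw [← L.σ_u, commute_iff_eq, ← σ_mul, ← σ_mul, h1.eq]
  obtain ⟨m, hm, -⟩ := L.mem_cz h2
  have hy' : y ∈ B.φ.range := by
    have := B.σ_conj_mem (B.ι_mem m)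
    rwa [hm, L.σ_σ] at this
  have hh2 := L.sq_one hN_spec.1
  rw [show x = L.ι hN * y * L.ι hN by
    rw [hy, show L.ι hN * (L.ι hN * x * L.ι hN) * L.ι hN = L.ι hN * L.ι hN * x * (L.ι hN * L.ι hN) by group, hh2,
      one_mul, mul_one]]
  exact mul_mem (mul_mem (B.ι_mem hN) hy') (B.ι_mem hN)

/-- The centraliser of `a` lies in the image. -/
theorem BCase.cent_a (B : L.BCase) {g₀ : G} (hg₀ : Commute g₀ L.a) : g₀ ∈ B.φ.range := by
  classical
  obtain ⟨φa, φb, φt, φm, φj, -, -⟩ := B.φ_vals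
  have cab : Commute L.a L.b := Commute.map (by rw [commute_iff_eq]; decide +kernel : Commute aN bN) L.ι
  have hba : L.b ≠ L.a := fun e => absurd (L.inj e) (by decide +kernel)
  obtain ⟨O, hOa, hOodd, hOn, hOR⟩ := zstar_reduce (m := L.a) (a := L.b) L.a_sq L.a_ne_one L.b_sq cab.symm
    (L.ne_one (by decide +kernel)) hba (fun g hg hc => B.iso_a hg hc)
  have hOpow : ∀ o ∈ O, o ^ Nat.card O = 1 := fun o ho =>
    congrArg Subtype.val (pow_card_eq_one' (x := (⟨o, ho⟩ : O)))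
  have hOr : ∀ o ∈ O, o ∈ B.φ.range → o = 1 := by
    intro o ho hor
    obtain ⟨⟨⟨p, q⟩, hm⟩, rfl⟩ := hor
    obtain ⟨n, hn⟩ : ∃ n, n = Nat.card O := ⟨_, rfl⟩
    have hpow : ∀ (x : M55), B.φ x ∈ O → x.1.1 ^ n = 1 ∧ x.1.2 ^ n = 1 := by
      intro x hx
      have h : x ^ n = 1 := B.inj (by rw [map_pow, hn, hOpow _ hx, map_one])
      have h' := congrArg Subtype.val h
      rw [SubmonoidClass.coe_pow] at h'
      exact ⟨congrArg Prod.fst h', congrArg Prod.snd h'⟩
    have hnodd : Odd n := hn ▸ hOodd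
    have hqa : q * a5 = a5 * q := by
      have h : (⟨(p, q), hm⟩ : M55) * e55 1 a5 (by decide +kernel) = e55 1 a5 (by decide +kernel) * ⟨(p, q), hm⟩ :=
        B.inj (by rw [map_mul, map_mul, φa]; exact (hOa _ ho).eq)
      exact congrArg (fun z : M55 => z.1.2) h
    have hq1 : q = 1 := by
      have h2 := (hpow _ ho).2
      obtain ⟨l, hl⟩ := hnodd
      have h4 := cent_a_pow q hqa
      have hd : Nat.Coprime n 4 := by
        rw [show (4 : ℕ) = 2 ^ 2 from rfl]
        exact Nat.Coprime.pow_right 2 (Nat.coprime_two_right.2 ⟨l, hl⟩)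
      have := pow_gcd_eq_one.2 ⟨h2, h4⟩
      rwa [show Nat.gcd n 4 = 1 from hd, pow_one] at this
    by_contra hne
    have hp1 : p ≠ 1 := fun e => hne (by
      rw [show (⟨(p, q), hm⟩ : M55) = 1 from Subtype.ext (Prod.ext e hq1), map_one])
    have hp15 := pow_fifteen hnodd (hpow _ ho).1 (pow_120 p)
    obtain ⟨e, he, hor⟩ := odd_five p hp15 hp1
    set c := B.φ (e55 e 1 (he.trans (map_one _).symm)) with hc
    have hca : Commute c L.a := by
      rw [hc, ← φa]
      exact Commute.map (Subtype.ext (Prod.ext ((mul_one _).trans (one_mul _).symm)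
        ((one_mul _).trans (mul_one _).symm))) B.φ
    have hconj := hOn c hca _ ho
    rcases hor with hor | hor
    · refine hor ?_
      have h := hpow ((e55 e 1 (he.trans (map_one _).symm)) * ⟨(p, q), hm⟩ * (e55 e 1 (he.trans (map_one _).symm))⁻¹ *
        (⟨(p, q), hm⟩ : M55)⁻¹) (by
          rw [map_mul, map_mul, map_mul, map_inv, map_inv]; exact mul_mem hconj (inv_mem ho))
      exact pow_fifteen hnodd h.1 (pow_120 _)
    · refine hor ?_
      have h := hpow ((e55 e 1 (he.trans (map_one _).symm)) * ⟨(p, q), hm⟩ * (e55 e 1 (he.trans (map_one _).symm))⁻¹ *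
        ((⟨(p, q), hm⟩ : M55) * ⟨(p, q), hm⟩)) (by
          rw [map_mul, map_mul, map_mul, map_mul, map_inv]; exact mul_mem hconj (mul_mem ho ho))
      exact pow_fifteen hnodd h.1 (pow_120 _)
  have hfix : ∀ u o : G, u * o * u⁻¹ = o → Commute o u := fun u o e => (mul_inv_eq_iff_eq_mul.1 e).symm
  have hbinv : ∀ o ∈ O, L.b * o * L.b⁻¹ = o⁻¹ :=
    inverts_fpf L.b_sq (hOn L.b cab.symm) fun o ho e => hOr o ho (B.centV_range (hOa o ho) (hfix _ _ e))
  have hOc : ∀ x ∈ O, ∀ y ∈ O, Commute x y := by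
    intro x hx y hy
    have h := hbinv _ (mul_mem hx hy)
    rw [show L.b * (x * y) * L.b⁻¹ = (L.b * x * L.b⁻¹) * (L.b * y * L.b⁻¹) by group, hbinv x hx, hbinv y hy,
      ← mul_inv_rev] at h
    exact (inv_injective h).symm
  set r' := B.φ (e55 c234 1 (by decide +kernel)) with hr'
  set q' := B.φ (e55 b5 1 (by decide +kernel)) with hq'
  have commA : ∀ (x : Perm (Fin 5)) (h : sign x = sign (1 : Perm (Fin 5))), Commute (B.φ (e55 x 1 h)) L.a := by
    intro x h
    rw [← φa]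
    exact Commute.map (Subtype.ext (Prod.ext ((mul_one _).trans (one_mul _).symm)
      ((one_mul _).trans (mul_one _).symm))) B.φ
  have hr'a : Commute r' L.a := commA _ _
  have hq'a : Commute q' L.a := commA _ _
  have hta : Commute L.t L.a := φt ▸ commA _ _
  have htq : Commute L.t q' := by
    rw [← φt, hq']
    refine Commute.map ?_ B.φ
    exact Subtype.ext (Prod.ext (show a5 * b5 = b5 * a5 by decide +kernel) rfl)
  have ht2 : L.t * L.t = 1 := L.sq_one zN_spec.2.2.2.2.2.2.2.1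
  have hq'2 : q' * q' = 1 := by
    rw [hq', ← map_mul, show e55 b5 1 (by decide +kernel) * e55 b5 1 (by decide +kernel) = 1 from
      Subtype.ext (Prod.ext (show b5 * b5 = 1 by decide +kernel) (one_mul _)), map_one]
  have hrt : r' * L.t * r'⁻¹ = q' := by
    rw [hr', hq', ← φt, ← map_inv, ← map_mul, ← map_mul]
    refine congrArg B.φ (Subtype.ext (Prod.ext ?_ ?_))
    · show c234 * a5 * c234⁻¹ = b5
      decide +kernel
    · show (1 : Perm (Fin 5)) * 1 * 1⁻¹ = 1
      group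
  have hrq : r' * q' * r'⁻¹ = L.t * q' := by
    rw [hr', hq', ← φt, ← map_inv, ← map_mul, ← map_mul, ← map_mul]
    refine congrArg B.φ (Subtype.ext (Prod.ext ?_ ?_))
    · show c234 * b5 * c234⁻¹ = a5 * b5
      decide +kernel
    · show (1 : Perm (Fin 5)) * 1 * 1⁻¹ = 1 * 1
      group
  have hr'3 : r' ^ 3 = 1 := by
    rw [hr', ← map_pow, show e55 c234 1 (by decide +kernel) ^ 3 = 1 from
      Subtype.ext (Prod.ext (show c234 ^ 3 = 1 by decide +kernel) (one_pow _)), map_one]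
  have hOtq : ∀ o ∈ O, Commute o L.t → Commute o q' → o = 1 := by
    intro o ho h1 h2
    refine hOr o ho ?_
    have hb' : L.σ * q' * L.σ = L.b := by
      rw [hq', B.swap_φ, ← φb]; exact congrArg B.φ (Subtype.ext rfl)
    have h3 : Commute (L.σ * o * L.σ) L.a := by rw [← B.hB, commute_iff_eq, ← σ_mul, ← σ_mul, h1.eq]
    have h4 : Commute (L.σ * o * L.σ) L.b := by rw [← hb', commute_iff_eq, ← σ_mul, ← σ_mul, h2.eq]
    have := B.σ_conj_mem (B.centV_range h3 h4)
    rwa [L.σ_σ] at this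
  have hOr' : ∀ o ∈ O, Commute o r' → o = 1 := by
    intro o ho h
    refine hOr o ho ?_
    have hs : L.σ * r' * L.σ = L.ι rN := by
      rw [hr', B.swap_φ, ← r_conj.2, ← L.β5_apply]
      rw [B.φ_apply]
      show L.α5 1 * L.β5 (tw5 c234) = _
      rw [map_one, one_mul, tw5_even even_gens.2.2.2.1]
    have h' : Commute (L.σ * o * L.σ) (L.ι rN) := by rw [← hs, commute_iff_eq, ← σ_mul, ← σ_mul, h.eq]
    have := B.σ_conj_mem (B.cent_r h')
    rwa [L.σ_σ] at this
  have hqinv : ∀ o ∈ O, Commute o q' → L.t * o * L.t⁻¹ = o⁻¹ := by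
    intro o ho hoq
    refine inverts_fpf (O := O ⊓ Subgroup.centralizer ({q'} : Set G)) ht2 (fun x hx => ?_)
      (fun x hx e => ?_) o ⟨ho, Subgroup.mem_centralizer_singleton_iff.2 hoq.eq⟩
    · refine ⟨hOn L.t hta x hx.1, Subgroup.mem_centralizer_singleton_iff.2 ?_⟩
      have hc' : Commute x q' := Subgroup.mem_centralizer_singleton_iff.1 hx.2
      exact ((htq.mul_left hc').mul_left htq.inv_left).eq
    · exact hOtq x hx.1 (hfix _ _ e) (Subgroup.mem_centralizer_singleton_iff.1 hx.2)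
  have hqinv' : ∀ o ∈ O, Commute o (L.t * q') → L.t * o * L.t⁻¹ = o⁻¹ := by
    intro o ho hoq
    refine inverts_fpf (O := O ⊓ Subgroup.centralizer ({L.t * q'} : Set G)) ht2 (fun x hx => ?_)
      (fun x hx e => ?_) o ⟨ho, Subgroup.mem_centralizer_singleton_iff.2 hoq.eq⟩
    · refine ⟨hOn L.t hta x hx.1, Subgroup.mem_centralizer_singleton_iff.2 ?_⟩
      have hc' : Commute x (L.t * q') := Subgroup.mem_centralizer_singleton_iff.1 hx.2
      have htt : Commute L.t (L.t * q') := (Commute.refl _).mul_right htq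
      exact ((htt.mul_left hc').mul_left htt.inv_left).eq
    · have hxt := hfix _ _ e
      have hxq : Commute x q' := by
        have h := hxt.mul_right (show Commute x (L.t * q') from Subgroup.mem_centralizer_singleton_iff.1 hx.2)
        rwa [← mul_assoc, ht2, one_mul] at h
      exact hOtq x hx.1 hxt hxq
  have conjc : ∀ (n x y z : G), n * y * n⁻¹ = z → Commute x y → Commute (n * x * n⁻¹) z := by
    intro n x y z e h
    have := h.map (MulAut.conj n).toMonoidHom
    simp only [MulEquiv.coe_toMonoidHom, MulAut.conj_apply] at this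
    rwa [e] at this
  have hOt : ∀ x ∈ O, Commute x L.t → x = 1 := by
    intro x hx hxt
    set x1 := r' * x * r'⁻¹ with hx1
    set x2 := r' * x1 * r'⁻¹ with hx2
    have m1 : x1 ∈ O := hOn r' hr'a x hx
    have m2 : x2 ∈ O := hOn r' hr'a x1 m1
    have c1 : Commute x1 q' := conjc _ _ _ _ hrt hxt
    have c2 : Commute x2 (L.t * q') := conjc _ _ _ _ hrq c1
    have hπ : x * x1 * x2 = 1 := by
      refine hOr' _ (mul_mem (mul_mem hx m1) m2) ?_
      refine hfix _ _ ?_
      have h3 : r' * x2 * r'⁻¹ = x := by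
        rw [hx2, hx1, show r' * (r' * (r' * x * r'⁻¹) * r'⁻¹) * r'⁻¹ = r' ^ 3 * x * (r' ^ 3)⁻¹ by
          rw [pow_three]; group, hr'3, one_mul, inv_one, mul_one]
      rw [show r' * (x * x1 * x2) * r'⁻¹ = (r' * x * r'⁻¹) * (r' * x1 * r'⁻¹) * (r' * x2 * r'⁻¹) by group, h3,
        ← hx1, ← hx2, mul_assoc x x1 x2, (hOc x hx _ (mul_mem m1 m2)).eq]
    have hπ' : x * x1⁻¹ * x2⁻¹ = 1 := by
      have h : L.t * (x * x1 * x2) * L.t⁻¹ = 1 := by rw [hπ]; group
      rwa [show L.t * (x * x1 * x2) * L.t⁻¹ = (L.t * x * L.t⁻¹) * (L.t * x1 * L.t⁻¹) * (L.t * x2 * L.t⁻¹) by group,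
        hxt.symm.eq, mul_inv_cancel_right, hqinv x1 m1 c1, hqinv' x2 m2 c2] at h
    have hxx : x * x = 1 := by
      have h12 := hOc x1 m1 x2 m2
      have e1 : x = (x1 * x2)⁻¹ := by rw [← mul_eq_one_iff_eq_inv, ← mul_assoc, hπ]
      have e2 : x = x2 * x1 := by rw [← mul_inv_eq_one, mul_inv_rev, ← mul_assoc, hπ']
      calc x * x = (x1 * x2)⁻¹ * (x2 * x1) := by rw [← e1, ← e2]
        _ = 1 := by rw [h12.eq, inv_mul_cancel]
    obtain ⟨l, hl⟩ := hOodd
    have h := hOpow x hx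
    rwa [hl, pow_succ, pow_mul, pow_two, hxx, one_pow, one_mul] at h
  have hOq : ∀ x ∈ O, Commute x q' → x = 1 := by
    intro x hx hxq
    have hr'ai : Commute r'⁻¹ L.a := hr'a.inv_left
    have hm : r'⁻¹ * x * r'⁻¹⁻¹ ∈ O := hOn r'⁻¹ hr'ai x hx
    have hc := conjc r'⁻¹ x q' L.t (by rw [← hrt]; group) hxq
    exact conj_eq_one_iff.1 (hOt _ hm hc)
  have hO1 : ∀ x ∈ O, x = 1 := by
    intro x hx
    have it := inverts_fpf (O := O) ht2 (fun o ho => hOn L.t hta o ho) fun o ho e => hOt o ho (hfix _ _ e)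
    have iq := inverts_fpf (O := O) hq'2 (fun o ho => hOn q' hq'a o ho) fun o ho e => hOq o ho (hfix _ _ e)
    have htqa : Commute (L.t * q') L.a := hta.mul_left hq'a
    have hcq : Commute x (L.t * q') := by
      refine hfix _ _ ?_
      rw [show L.t * q' * x * (L.t * q')⁻¹ = L.t * (q' * x * q'⁻¹) * L.t⁻¹ by group, iq x hx,
        it x⁻¹ (inv_mem hx), inv_inv]
    have hc := conjc r'⁻¹ x (L.t * q') q' (by rw [← hrq]; group) hcq
    exact conj_eq_one_iff.1 (hOq _ (hOn r'⁻¹ hr'a.inv_left x hx) hc)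
  obtain ⟨o, ho, he⟩ := hOR g₀ hg₀
  rw [hO1 o ho] at he
  refine B.normV ⟨aN, by simp, by rw [hg₀.eq, mul_inv_cancel_right]⟩ ?_
  rcases he with e | e
  · exact ⟨bN, by simp, mul_inv_eq_one.1 e⟩
  · refine ⟨aN * bN, by simp, ?_⟩
    rw [map_mul, ← mul_inv_eq_iff_eq_mul, e, mul_one]

end Data

end CfsgLib.S8ThreeLocal
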