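import Cfsg.Agent.Lib.S8ThreeLocal.FiveShape

/-!
Finite checks for the second case.
-/

set_option autoImplicit false
set_option maxRecDepth 8000
set_option synthInstance.maxSize 1024

namespace CfsgLib.S8ThreeLocal

open Equiv Equiv.Perm CfsgLib.A8ThreeLocal

/-- The product of the signs of two permutations of five points. -/
abbrev sgn55 : Perm (Fin 5) × Perm (Fin 5) →* ℤˣ :=
  ((Equiv.Perm.sign).comp (MonoidHom.fst (Perm (Fin 5)) (Perm (Fin 5)))) *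
    ((Equiv.Perm.sign).comp (MonoidHom.snd (Perm (Fin 5)) (Perm (Fin 5))))

/-- The pairs of permutations of five points whose signs agree. -/
abbrev M55 : Subgroup (Perm (Fin 5) × Perm (Fin 5)) := sgn55.ker

theorem mem_M55 {m : Perm (Fin 5) × Perm (Fin 5)} : m ∈ M55 ↔ sign m.1 = sign m.2 := by
  rw [MonoidHom.mem_ker, MonoidHom.mul_apply, MonoidHom.comp_apply, MonoidHom.comp_apply, MonoidHom.coe_fst,
    MonoidHom.coe_snd]
  rcases Int.units_eq_one_or (sign m.1) with h | h <;> rcases Int.units_eq_one_or (sign m.2) with h' | h' <;>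
    simp [h, h']

/-- The pair of two permutations with the same sign. -/
def e55 (p q : Perm (Fin 5)) (h : sign p = sign q) : M55 := ⟨(p, q), mem_M55.2 h⟩

/-- The exchange of the coordinates. -/
def sw55 (m : M55) : M55 := e55 m.1.2 m.1.1 (mem_M55.1 m.2).symm

theorem conj_word : c034 = c234 * ((swap 0 1 : Perm (Fin 5)) * a5 * swap 0 1) * c234 ∧
    ((1, swap 0 1) : N35) * rN = rN * (1, swap 0 1) ∧ hN * jN * hN = (1, swap 0 1) := by decide +kernel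

theorem par_even : ∀ p : Perm (Fin 5), sign p = -1 → sign (p * swap 1 2) = 1 := by
  intro p h
  rw [map_mul, h, sign_swap (by decide)]
  rfl

theorem cent_all : ∀ q : Perm (Fin 5), q * a5 = a5 * q → q * b5 = b5 * q → q * c034 = c034 * q → q = 1 := by
  decide +kernel

theorem even_gens : sign c034 = 1 ∧ sign a5 = 1 ∧ sign b5 = 1 ∧ sign c234 = 1 ∧
    sign (swap 1 2 : Perm (Fin 5)) = -1 ∧ sign (swap 3 4 : Perm (Fin 5)) = -1 ∧
    sign (swap 0 2 : Perm (Fin 5)) = -1 := by decide +kernel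

theorem invol_five : ∀ q : Perm (Fin 5), q * q = 1 → q ≠ 1 →
    (sign q = 1 → ∃ h : Perm (Fin 5), sign h = 1 ∧ h * a5 * h⁻¹ = q) ∧
    (sign q = -1 → ∃ h : Perm (Fin 5), sign h = 1 ∧ h * swap 1 2 * h⁻¹ = q) := by decide +kernel

theorem invol_cent_a : ∀ q : Perm (Fin 5), q * a5 = a5 * q → q * q = 1 →
    (sign q = 1 → q = 1 ∨ q = a5 ∨ q = b5 ∨ q = a5 * b5) ∧ (sign q = -1 → q = swap 1 2 ∨ q = swap 3 4) := by
  decide +kernel

theorem cent_a_pow : ∀ q : Perm (Fin 5), q * a5 = a5 * q → q ^ 4 = 1 := by decide +kernel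

theorem odd_five : ∀ p : Perm (Fin 5), p ^ 15 = 1 → p ≠ 1 →
    ∃ e : Perm (Fin 5), sign e = 1 ∧ ((e * p * e⁻¹ * p⁻¹) ^ 15 ≠ 1 ∨ (e * p * e⁻¹ * (p * p)) ^ 15 ≠ 1) := by
  decide +kernel

theorem pow_120 : ∀ p : Perm (Fin 5), p ^ 120 = 1 := fun p => by
  have h : Nat.card (Perm (Fin 5)) = 120 := by rw [Nat.card_perm, Nat.card_fin]; rfl
  rw [← h]; exact pow_card_eq_one'

theorem comm_swap12 : ∀ x : Perm (Fin 5), x * x = 1 → x ≠ 1 → sign x = 1 → x * swap 1 2 = swap 1 2 * x →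
    x * a5 = a5 * x → x = a5 := by decide +kernel

/-- The vectors of the elementary group of order sixteen. -/
def ψ4 (v : Fin 16) : Perm (Fin 5) × Perm (Fin 5) :=
  (a5 ^ (bit4 2 v).val * b5 ^ (bit4 3 v).val, a5 ^ (bit4 0 v).val * b5 ^ (bit4 1 v).val)

theorem ψ4_xor : ∀ v w : Fin 16, ψ4 (v ^^^ w) = ψ4 v * ψ4 w := by decide +kernel

theorem ψ4_inj : ∀ v w : Fin 16, ψ4 v = ψ4 w → v = w := by decide +kernel

theorem ψ4_sign : ∀ v : Fin 16, sign (ψ4 v).1 = 1 ∧ sign (ψ4 v).2 = 1 := by decide +kernel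

theorem ψ4_low : ∀ v : Fin 16, v ≠ 0 → (ψ4 v).2 = 1 → v ∈ ([4, 8, 12] : List (Fin 16)) := by decide +kernel

theorem ψ4_cover : ∀ p q : Perm (Fin 5), p ∈ ([1, a5, b5, a5 * b5] : List (Perm (Fin 5))) →
    q ∈ ([1, a5, b5, a5 * b5] : List (Perm (Fin 5))) → ∃ v, ψ4 v = (p, q) := by decide +kernel

theorem even_four : ∀ p : Perm (Fin 5), sign p = 1 →
    ¬ (p * a5 * p⁻¹ = a5 ∧ p * b5 * p⁻¹ = a5 * b5) ∧ ¬ (p * a5 * p⁻¹ = b5 ∧ p * b5 * p⁻¹ = a5) ∧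
    ¬ (p * a5 * p⁻¹ = a5 * b5 ∧ p * b5 * p⁻¹ = b5) := by decide +kernel

/-- The map of a word in five letters. -/
def word5 (P : Fin 16 × Fin 16 × Fin 16 × Fin 16) (w : List (Fin 5)) (v : Fin 16) : Fin 16 :=
  w.foldr (fun i x => app4 (![(2, 3, 4, 8), (1, 2, 8, 12), (1, 3, 4, 12), (4, 8, 1, 2), P] i) x) v

/-- The words used. -/
def words5 : List (List (Fin 5)) :=
  [[4, 2, 4, 4], [4, 2, 0, 4, 3], [4, 2, 1, 4], [4, 4], [4, 4, 2], [4, 4, 2, 4], [4, 4, 2, 4, 4], [4, 4, 4],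
   [4, 4, 4, 2], [4, 4, 4, 1, 4], [4, 4, 0, 4, 3], [4, 4, 1, 4], [4, 4, 1, 1, 4], [4, 0, 2, 4, 3],
   [4, 0, 4, 0, 4, 0], [4, 0, 4, 0, 0, 4, 3], [4, 0, 4, 3], [4, 0, 0, 4, 0, 4, 3], [4, 0, 0, 4, 3], [4, 3, 4, 3],
   [4, 1, 4], [4, 1, 4, 2], [4, 1, 4, 4], [4, 1, 4, 1, 4], [4, 1, 0, 0, 4, 1, 0, 4, 3, 0], [4, 1, 1, 4],
   [3, 4, 4, 3], [3, 4, 0, 4, 3], [3, 4, 3], [3, 4, 3, 4, 3]]

/-- The condition contradicting the structure of the normaliser of `⟨a, b⟩`. -/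
def bad5 (h : Fin 16 → Fin 16) : Prop :=
  h 1 ∈ ([1, 2, 3] : List (Fin 16)) ∧ h 2 ∈ ([1, 2, 3] : List (Fin 16)) ∧
    (¬ (h 4 ∈ ([4, 8, 12] : List (Fin 16)) ∧ h 8 ∈ ([4, 8, 12] : List (Fin 16))) ∨
      (h 1 = 1 ∧ h 2 = 2 ∧ ((h 4 = 4 ∧ h 8 = 12) ∨ (h 4 = 8 ∧ h 8 = 4) ∨ (h 4 = 12 ∧ h 8 = 8))))

instance (h : Fin 16 → Fin 16) : Decidable (bad5 h) := by unfold bad5; infer_instance

theorem finite_ρ : ∀ t q : Fin 16, (∀ v, app4 (1, 6, t, q) v = 0 → v = 0) →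
    words5.any (fun w => decide (bad5 (word5 (1, 6, t, q) w))) = true := by decide +kernel

end CfsgLib.S8ThreeLocal
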