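import Cfsg.Agent.Lib.S8ThreeLocal.BChecks

/-!
The product of two symmetric groups of degree five, signs matched, inside the group in the second case.
-/

set_option autoImplicit false
set_option maxRecDepth 8000
set_option synthInstance.maxSize 1024

namespace CfsgLib.S8ThreeLocal

open Equiv Equiv.Perm CfsgLib.A8ThreeLocal

universe u

theorem three_word : ∀ p : Perm (Fin 3), ∃ i : Fin 3, ∃ e : Fin 2, ((p, 1) : N35) = zN ^ i.val * tN ^ e.val := by
  decide +kernel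

/-- The adjustment of an odd permutation. -/
def tw5 (q : Perm (Fin 5)) : Perm (Fin 5) := if sign q = 1 then q else swap 1 2 * q

theorem tw5_even {q : Perm (Fin 5)} (h : sign q = 1) : tw5 q = q := if_pos h

theorem tw5_odd {q : Perm (Fin 5)} (h : sign q = -1) : tw5 q = swap 1 2 * q := by
  rw [tw5, if_neg (by rw [h]; decide)]

theorem tw5_sign (q : Perm (Fin 5)) : sign (tw5 q) = 1 := by
  rcases Int.units_eq_one_or (sign q) with h | h
  · rwa [tw5_even h]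
  · rw [tw5_odd h, map_mul, h, sign_swap (by decide)]; rfl

namespace Data

variable {G : Type u} [Group G] (L : Data G)

/-- The second factor. -/
def β5 : Perm (Fin 5) →* G := L.ι.comp (MonoidHom.inr (Perm (Fin 3)) (Perm (Fin 5)))

/-- Its image under `σ`. -/
def α5 : Perm (Fin 5) →* G := (MulAut.conj L.σ).toMonoidHom.comp L.β5

theorem β5_apply (q : Perm (Fin 5)) : L.β5 q = L.ι (1, q) := rfl

theorem α5_apply (q : Perm (Fin 5)) : L.α5 q = L.σ * L.ι (1, q) * L.σ := by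
  show L.σ * L.β5 q * L.σ⁻¹ = _
  rw [L.σ_inv]; rfl

theorem σ_α5 (q : Perm (Fin 5)) : L.σ * L.α5 q * L.σ = L.β5 q := by rw [L.α5_apply, L.σ_σ, L.β5_apply]

theorem σ_β5 (q : Perm (Fin 5)) : L.σ * L.β5 q * L.σ = L.α5 q := by rw [L.α5_apply, L.β5_apply]

theorem α5_τ : L.α5 (swap 1 2) = L.j := by rw [L.α5_apply]; exact L.σ_j

theorem β5_τ : L.β5 (swap 1 2) = L.j := rfl

theorem ψ_one (q : Perm (Fin 5)) : L.ψ (1, q) = L.ι hN * L.α5 q * L.ι hN := by rw [L.ψ_apply, L.α5_apply]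

/-- The data of the second case. -/
structure BCase : Prop where
  /-- the image of `t` -/
  hB : L.σ * L.t * L.σ = L.a
  /-- the subgroup commuting with `a`, `b` and `r` -/
  Xmem : ∀ q : Perm (Fin 5), sign q = 1 → L.ψ (1, q) ∈ L.X
  /-- consists of that -/
  Xall : ∀ x ∈ L.X, ∃ q : Perm (Fin 5), sign q = 1 ∧ x = L.ψ (1, q)

variable {L}

theorem exists_BCase [Finite G] (hB : L.σ * L.t * L.σ = L.a) : L.BCase := by
  rcases L.options_B hB with h | ⟨h1, h2⟩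
  · exact absurd h L.not_small
  · exact ⟨hB, h1, h2⟩

theorem BCase.X_comm (B : L.BCase) {p q : Perm (Fin 5)} (hp : sign p = 1) (hq : sign q = 1) :
    Commute (L.ψ (1, p)) (L.β5 q) := by
  let S : Subgroup (Perm (Fin 5)) :=
    { carrier := {q | ∀ p : Perm (Fin 5), sign p = 1 → Commute (L.ψ (1, p)) (L.β5 q)}
      one_mem' := fun p _ => by rw [map_one]; exact Commute.one_right _
      mul_mem' := fun {x y} hx hy p hp => by rw [map_mul]; exact (hx p hp).mul_right (hy p hp)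
      inv_mem' := fun {x} hx p hp => by rw [map_inv]; exact (hx p hp).inv_right }
  have ha : a5 ∈ S := fun p hp => (L.mem_X.1 (B.Xmem p hp)).1
  have hb : b5 ∈ S := fun p hp => (L.mem_X.1 (B.Xmem p hp)).2.1
  have hr : c234 ∈ S := fun p hp => (L.mem_X.1 (B.Xmem p hp)).2.2
  have hψj : L.ψ jN = L.β5 (swap 0 1) := by
    rw [L.ψ_apply, L.σ_j, ← map_mul, ← map_mul]; exact L.ι_eq conj_word.2.2
  have hA : (swap 0 1 : Perm (Fin 5)) * a5 * swap 0 1 ∈ S := by
    intro p hp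
    have hp' : sign (swap 1 2 * p * swap 1 2) = 1 := by
      rw [map_mul, map_mul, hp, sign_swap (by decide)]; rfl
    have := (ha _ hp').map (MulAut.conj (L.β5 (swap 0 1))).toMonoidHom
    simp only [MulEquiv.coe_toMonoidHom, MulAut.conj_apply, ← map_inv, Equiv.swap_inv] at this
    rw [← map_mul, ← map_mul] at this
    have e : L.β5 (swap 0 1) * L.ψ (1, swap 1 2 * p * swap 1 2) * L.β5 (swap 0 1) = L.ψ (1, p) := by
      rw [← hψj, ← map_mul, ← map_mul]
      refine congrArg L.ψ (Prod.ext (by simp [jN]) ?_)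
      show swap 1 2 * (swap 1 2 * p * swap 1 2) * swap 1 2 = p
      rw [show swap 1 2 * (swap 1 2 * p * swap 1 2) * swap 1 2 =
        (swap 1 2 * swap 1 2) * p * ((swap 1 2 : Perm (Fin 5)) * swap 1 2) by group, swap_mul_self, one_mul, mul_one]
    rwa [e] at this
  refine even_mem ?_ ha hb hq p hp
  rw [conj_word.1]
  exact mul_mem (mul_mem hr hA) hr

theorem BCase.comm (B : L.BCase) {p q : Perm (Fin 5)} (hp : sign p = 1) (hq : sign q = 1) :
    Commute (L.α5 p) (L.β5 q) := by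
  have hq' : sign (swap 0 2 * q * swap 0 2) = 1 := by rw [map_mul, map_mul, hq, sign_swap (by decide)]; rfl
  have := (B.X_comm hp hq').map (MulAut.conj (L.ι hN)).toMonoidHom
  simp only [MulEquiv.coe_toMonoidHom, MulAut.conj_apply] at this
  have hh : (L.ι hN)⁻¹ = L.ι hN := inv_eq_of_mul_eq_one_right (L.sq_one hN_spec.1)
  have e1 : L.ι hN * L.ψ (1, p) * (L.ι hN)⁻¹ = L.α5 p := by
    rw [L.ψ_one, hh, show L.ι hN * (L.ι hN * L.α5 p * L.ι hN) * L.ι hN =
      L.ι hN * L.ι hN * L.α5 p * (L.ι hN * L.ι hN) by group, L.sq_one hN_spec.1, one_mul, mul_one]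
  have e2 : L.ι hN * L.β5 (swap 0 2 * q * swap 0 2) * (L.ι hN)⁻¹ = L.β5 q := by
    rw [hh, L.β5_apply, L.β5_apply, ← map_mul, ← map_mul]
    refine L.ι_eq (Prod.ext (by simp [hN]) ?_)
    show swap 0 2 * (swap 0 2 * q * swap 0 2) * swap 0 2 = q
    rw [show swap 0 2 * (swap 0 2 * q * swap 0 2) * swap 0 2 =
      (swap 0 2 * swap 0 2) * q * ((swap 0 2 : Perm (Fin 5)) * swap 0 2) by group, swap_mul_self, one_mul, mul_one]
  rwa [e1, e2] at this

/-- The map. -/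
noncomputable def BCase.φ (B : L.BCase) : M55 →* G :=
  MonoidHom.mk' (fun m => L.α5 m.1.1 * L.β5 (tw5 m.1.2)) (by
    intro x y
    have hx := mem_M55.1 x.2
    have hy := mem_M55.1 y.2
    show L.α5 (x.1.1 * y.1.1) * L.β5 (tw5 (x.1.2 * y.1.2)) =
      L.α5 x.1.1 * L.β5 (tw5 x.1.2) * (L.α5 y.1.1 * L.β5 (tw5 y.1.2))
    have hq := tw5_sign x.1.2
    rcases Int.units_eq_one_or (sign y.1.1) with h | h
    · have h2 : sign y.1.2 = 1 := hy ▸ h
      have hw : tw5 (x.1.2 * y.1.2) = tw5 x.1.2 * y.1.2 := by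
        rcases Int.units_eq_one_or (sign x.1.2) with e | e
        · rw [tw5_even (by rw [map_mul, e, h2]; rfl), tw5_even e]
        · rw [tw5_odd (by rw [map_mul, e, h2]; rfl), tw5_odd e, mul_assoc]
      rw [hw, map_mul, map_mul, tw5_even h2,
        show L.α5 x.1.1 * L.β5 (tw5 x.1.2) * (L.α5 y.1.1 * L.β5 y.1.2) =
          L.α5 x.1.1 * (L.β5 (tw5 x.1.2) * L.α5 y.1.1) * L.β5 y.1.2 by group, ← (B.comm h hq).eq]
      group
    · have h2 : sign y.1.2 = -1 := hy ▸ h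
      have hev := par_even _ h
      have hw : tw5 (x.1.2 * y.1.2) = swap 1 2 * tw5 x.1.2 * swap 1 2 * (swap 1 2 * y.1.2) := by
        rw [show swap 1 2 * tw5 x.1.2 * swap 1 2 * (swap 1 2 * y.1.2) =
          swap 1 2 * tw5 x.1.2 * ((swap 1 2 : Perm (Fin 5)) * swap 1 2) * y.1.2 by group, swap_mul_self, mul_one]
        rcases Int.units_eq_one_or (sign x.1.2) with e | e
        · rw [tw5_odd (by rw [map_mul, e, h2]; rfl), tw5_even e, mul_assoc]
        · rw [tw5_even (by rw [map_mul, e, h2]; rfl), tw5_odd e, ← mul_assoc (swap 1 2 : Perm (Fin 5)), swap_mul_self,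
            one_mul]
      have ey : L.α5 y.1.1 = L.α5 (y.1.1 * swap 1 2) * L.j := by
        rw [map_mul, L.α5_τ, mul_assoc, L.j_sq, mul_one]
      rw [hw, map_mul, map_mul, map_mul, L.β5_τ, tw5_odd h2, map_mul L.β5 (swap 1 2) y.1.2, L.β5_τ, map_mul]
      conv_rhs =>
        rw [ey, show L.α5 x.1.1 * L.β5 (tw5 x.1.2) * (L.α5 (y.1.1 * swap 1 2) * L.j * (L.j * L.β5 y.1.2)) =
          L.α5 x.1.1 * (L.β5 (tw5 x.1.2) * L.α5 (y.1.1 * swap 1 2)) * (L.j * L.j) * L.β5 y.1.2 by group,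
          ← (B.comm hev hq).eq, map_mul, L.α5_τ]
      simp only [mul_assoc, L.β5_τ])

theorem BCase.φ_apply (B : L.BCase) (m : M55) : B.φ m = L.α5 m.1.1 * L.β5 (tw5 m.1.2) := rfl

theorem BCase.φ_even (B : L.BCase) (p q : Perm (Fin 5)) (h : sign p = sign q) (hq : sign q = 1) :
    B.φ (e55 p q h) = L.α5 p * L.β5 q := by
  rw [B.φ_apply]
  show L.α5 p * L.β5 (tw5 q) = _
  rw [tw5_even hq]

theorem BCase.inj (B : L.BCase) : Function.Injective B.φ := by
  rw [injective_iff_map_eq_one]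
  rintro ⟨⟨p, q⟩, hm⟩ h
  rw [B.φ_apply, mul_eq_one_iff_eq_inv, ← map_inv] at h
  simp only at h
  have hq' : sign (tw5 q)⁻¹ = 1 := by rw [map_inv, tw5_sign]; rfl
  have hβ : L.β5 p = L.α5 (tw5 q)⁻¹ := by rw [← L.σ_α5, h, L.σ_β5]
  have hp : p = 1 := by
    obtain ⟨h1, h2, h3, -, -, -, -⟩ := even_gens
    have key : ∀ e : Perm (Fin 5), sign e = 1 → p * e = e * p := fun e he => by
      refine congrArg Prod.snd (L.inj ?_ : ((1, p) : N35) * (1, e) = (1, e) * (1, p))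
      rw [map_mul, map_mul, ← L.β5_apply, ← L.β5_apply, hβ]
      exact (B.comm hq' he).eq
    exact cent_all p (key _ h2) (key _ h3) (key _ h1)
  have hq1 : tw5 q = 1 := by
    have h' : L.β5 (tw5 q)⁻¹ = 1 := by rw [← h, hp, map_one]
    have := congrArg Prod.snd (L.inj (h'.trans (map_one L.ι).symm) : ((1, (tw5 q)⁻¹) : N35) = 1)
    exact inv_eq_one.1 this
  have hs : sign q = 1 := by rw [← mem_M55.1 hm, hp, map_one]
  rw [tw5_even hs] at hq1
  exact Subtype.ext (Prod.ext hp hq1)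

theorem BCase.swap_φ (B : L.BCase) (m : M55) : L.σ * B.φ m * L.σ = B.φ (sw55 m) := by
  obtain ⟨⟨p, q⟩, hm⟩ := m
  rw [B.φ_apply, B.φ_apply]
  show L.σ * (L.α5 p * L.β5 (tw5 q)) * L.σ = L.α5 q * L.β5 (tw5 p)
  have hs : sign p = sign q := mem_M55.1 hm
  rw [σ_mul, L.σ_α5, L.σ_β5]
  rcases Int.units_eq_one_or (sign p) with h | h
  · have h2 : sign q = 1 := hs ▸ h
    rw [tw5_even h, tw5_even h2, (B.comm h2 h).eq]
  · have h2 : sign q = -1 := hs ▸ h
    have e1 : L.β5 p = L.β5 (p * swap 1 2) * L.j := by rw [map_mul, L.β5_τ, mul_assoc, L.j_sq, mul_one]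
    have e2 : L.α5 q = L.α5 (q * swap 1 2) * L.j := by rw [map_mul, L.α5_τ, mul_assoc, L.j_sq, mul_one]
    rw [tw5_odd h, tw5_odd h2, map_mul, map_mul, L.α5_τ, L.β5_τ]
    calc L.β5 p * (L.j * L.α5 q) = L.β5 (p * swap 1 2) * (L.j * L.j) * (L.α5 (q * swap 1 2) * L.j) := by
          rw [e1, e2]; group
      _ = L.α5 (q * swap 1 2) * L.β5 (p * swap 1 2) * L.j := by
          rw [L.j_sq, mul_one, ← mul_assoc, ← (B.comm (par_even _ h2) (par_even _ h)).eq]
      _ = L.α5 (q * swap 1 2) * L.β5 p := by rw [mul_assoc, ← e1]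
      _ = L.α5 q * (L.j * L.β5 p) := by rw [map_mul, L.α5_τ, mul_assoc]

theorem BCase.ι_mem (B : L.BCase) (m : N35) : L.ι m ∈ B.φ.range := by
  have hz : L.z ∈ B.φ.range := ⟨e55 c034 1 (by rw [even_gens.1, map_one]), by
    rw [B.φ_even _ _ _ (map_one _), map_one, mul_one, L.α5_apply]
    exact L.σ_u⟩
  have ht : L.t ∈ B.φ.range := ⟨e55 a5 1 (by rw [even_gens.2.1, map_one]), by
    rw [B.φ_even _ _ _ (map_one _), map_one, mul_one, L.α5_apply]
    exact (caseB_maps B.hB).1⟩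
  rw [show m = (m.1, 1) * (1, m.2) by rw [Prod.mk_mul_mk, mul_one, one_mul], map_mul]
  refine mul_mem ?_ ?_
  · obtain ⟨i, e, h⟩ := three_word m.1
    rw [h, map_mul, map_pow, map_pow]
    exact mul_mem (pow_mem hz _) (pow_mem ht _)
  · rcases Int.units_eq_one_or (sign m.2) with h | h
    · refine ⟨e55 1 m.2 (by rw [map_one, h]), ?_⟩
      rw [B.φ_even _ _ _ h, map_one, one_mul]; rfl
    · refine ⟨e55 (swap 1 2) m.2 (by rw [h, sign_swap (by decide)]), ?_⟩
      rw [B.φ_apply]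
      show L.α5 (swap 1 2) * L.β5 (tw5 m.2) = _
      rw [tw5_odd h, map_mul, L.α5_τ, L.β5_τ, ← mul_assoc, L.j_sq, one_mul]; rfl

/-- The subgroup of order fourteen thousand four hundred. -/
noncomputable def BCase.H (B : L.BCase) : Subgroup G where
  carrier := {g | g ∈ B.φ.range ∨ g * L.σ ∈ B.φ.range}
  one_mem' := Or.inl (one_mem _)
  mul_mem' := by
    have hσ : ∀ x ∈ B.φ.range, L.σ * x * L.σ ∈ B.φ.range := by
      rintro _ ⟨m, rfl⟩
      exact ⟨sw55 m, (B.swap_φ m).symm⟩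
    rintro x y (hx | hx) (hy | hy)
    · exact Or.inl (mul_mem hx hy)
    · exact Or.inr (by rw [mul_assoc]; exact mul_mem hx hy)
    · refine Or.inr ?_
      rw [show x * y * L.σ = (x * L.σ) * (L.σ⁻¹ * y * L.σ) by group, L.σ_inv]
      exact mul_mem hx (hσ _ hy)
    · refine Or.inl ?_
      rw [show x * y = (x * L.σ) * (L.σ⁻¹ * (y * L.σ) * L.σ⁻¹) by group, L.σ_inv]
      exact mul_mem hx (hσ _ hy)
  inv_mem' := by
    rintro x (hx | hx)
    · exact Or.inl (inv_mem hx)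
    · refine Or.inr ?_
      rw [show x⁻¹ * L.σ = L.σ * (x * L.σ)⁻¹ * L.σ by rw [mul_inv_rev, L.σ_inv, ← mul_assoc L.σ, L.σ_sq, one_mul]]
      obtain ⟨m, hm⟩ := inv_mem hx
      exact ⟨sw55 m, by rw [← B.swap_φ m, hm]⟩

theorem BCase.range_le (B : L.BCase) : B.φ.range ≤ B.H := fun _ h => Or.inl h

theorem BCase.σ_mem (B : L.BCase) : L.σ ∈ B.H := Or.inr (by rw [L.σ_sq]; exact one_mem _)

theorem BCase.σ_conj_mem (B : L.BCase) {x : G} (h : x ∈ B.φ.range) : L.σ * x * L.σ ∈ B.φ.range := by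
  obtain ⟨m, rfl⟩ := h
  exact ⟨sw55 m, (B.swap_φ m).symm⟩

theorem BCase.φ_vals (B : L.BCase) : B.φ (e55 1 a5 (by decide +kernel)) = L.a ∧
    B.φ (e55 1 b5 (by decide +kernel)) = L.b ∧ B.φ (e55 a5 1 (by decide +kernel)) = L.t ∧
    B.φ (e55 a5 a5 rfl) = L.t * L.a ∧ B.φ (e55 (swap 1 2) (swap 1 2) rfl) = L.j ∧
    B.φ (e55 c034 1 (by decide +kernel)) = L.z ∧ B.φ (e55 1 c034 (by decide +kernel)) = L.u := by
  obtain ⟨h1, h2, h3, -, -, -, -⟩ := even_gens
  have hαa : L.α5 a5 = L.t := by rw [L.α5_apply]; exact (caseB_maps B.hB).1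
  refine ⟨?_, ?_, ?_, ?_, ?_, ?_, ?_⟩
  · rw [B.φ_even _ _ _ h2, map_one, one_mul]; rfl
  · rw [B.φ_even _ _ _ h3, map_one, one_mul]; rfl
  · rw [B.φ_even _ _ _ (map_one _), map_one L.β5, mul_one, hαa]
  · rw [B.φ_even _ _ _ h2, hαa]; rfl
  · rw [B.φ_apply]
    show L.α5 (swap 1 2) * L.β5 (tw5 (swap 1 2)) = L.j
    rw [tw5_odd (sign_swap (by decide)), swap_mul_self, map_one, mul_one, L.α5_τ]
  · rw [B.φ_even _ _ _ (map_one _), map_one L.β5, mul_one, L.α5_apply]; exact L.σ_u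
  · rw [B.φ_even _ _ _ h1, map_one, one_mul]; rfl

variable [Finite G]

/-- The centraliser of `a` and `b`. -/
theorem BCase.centV (B : L.BCase) {g : G} (ha : Commute g L.a) (hb : Commute g L.b) :
    ∃ p v, ∃ h : sign p = sign v, sign p = 1 ∧ v ∈ ([1, a5, b5, a5 * b5] : List (Perm (Fin 5))) ∧
      g = B.φ (e55 p v h) := by
  obtain ⟨m, hm, x, hx, rfl⟩ := L.decomp ha hb
  obtain ⟨q, hq, rfl⟩ := B.Xall x hx
  obtain ⟨v, hv, hv1, rfl⟩ : ∃ v, v ∈ ([1, a5, b5, a5 * b5] : List (Perm (Fin 5))) ∧ sign v = 1 ∧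
      m = ((1, v) : N35) := by
    obtain ⟨-, h2, h3, -, -, -, -⟩ := even_gens
    rcases hm with rfl | rfl | rfl | rfl
    · exact ⟨1, by simp, map_one _, rfl⟩
    · exact ⟨a5, by simp, h2, rfl⟩
    · exact ⟨b5, by simp, h3, rfl⟩
    · exact ⟨a5 * b5, by simp, by rw [map_mul, h2, h3]; rfl, rfl⟩
  have hp : sign (swap 1 2 * q * swap 1 2) = 1 := by rw [map_mul, map_mul, hq, sign_swap (by decide)]; rfl
  refine ⟨swap 1 2 * q * swap 1 2, v, by rw [hp, hv1], hp, hv, ?_⟩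
  have hhN : L.ι hN = B.φ (e55 (swap 1 2) (swap 0 2) (by rw [sign_swap (by decide), sign_swap (by decide)])) := by
    rw [B.φ_apply]
    show L.β5 (swap 0 2) = L.α5 (swap 1 2) * L.β5 (tw5 (swap 0 2))
    rw [tw5_odd (sign_swap (by decide)), map_mul, L.α5_τ, L.β5_τ, ← mul_assoc, L.j_sq, one_mul]
  have hq' : L.α5 q = B.φ (e55 q 1 (by rw [hq, map_one])) := by
    rw [B.φ_even _ _ _ (map_one _), map_one, mul_one]
  have hv' : L.ι ((1, v) : N35) = B.φ (e55 1 v (by rw [map_one, hv1])) := by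
    rw [B.φ_even _ _ _ hv1, map_one, one_mul]; rfl
  rw [L.ψ_one, hhN, hq', hv', ← map_mul, ← map_mul, ← map_mul]
  refine congrArg B.φ (Subtype.ext (Prod.ext ?_ ?_))
  · show 1 * (swap 1 2 * q * swap 1 2) = swap 1 2 * q * swap 1 2
    rw [one_mul]
  · show v * (swap 0 2 * 1 * swap 0 2) = v
    rw [mul_one, swap_mul_self, mul_one]

theorem BCase.centV_range (B : L.BCase) {g : G} (ha : Commute g L.a) (hb : Commute g L.b) : g ∈ B.φ.range := by
  obtain ⟨p, v, h, -, -, rfl⟩ := B.centV ha hb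
  exact ⟨_, rfl⟩

/-- The normaliser of `⟨a, b⟩`. -/
theorem BCase.normV (B : L.BCase) {g : G} (ha : ∃ x ∈ [aN, bN, aN * bN], g * L.a * g⁻¹ = L.ι x)
    (hb : ∃ y ∈ [aN, bN, aN * bN], g * L.b * g⁻¹ = L.ι y) : g ∈ B.φ.range := by
  obtain ⟨x, hx, ex⟩ := ha
  obtain ⟨y, hy, ey⟩ := hb
  have hne : x ≠ y := by
    intro e
    rw [e, ← ey] at ex
    exact absurd (L.inj (mul_left_cancel (mul_right_cancel ex))) (by decide +kernel)
  obtain ⟨n, -, -, hna, hnb⟩ := four_move x hx y hy hne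
  have hc : ∀ q q' : N35, n * q * n⁻¹ = q' → g * L.ι q * g⁻¹ = L.ι q' → Commute ((L.ι n)⁻¹ * g) (L.ι q) := by
    intro q q' e1 e2
    refine mul_inv_eq_iff_eq_mul.1 ?_
    rw [show (L.ι n)⁻¹ * g * L.ι q * ((L.ι n)⁻¹ * g)⁻¹ = (L.ι n)⁻¹ * (g * L.ι q * g⁻¹) * L.ι n by group, e2, ← e1,
      map_mul, map_mul, map_inv]
    group
  have h := mul_mem (B.ι_mem n) (B.centV_range (hc aN x hna ex) (hc bN y hnb ey))
  rwa [mul_inv_cancel_left] at h

end Data

end CfsgLib.S8ThreeLocal
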