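import Cfsg.Agent.Lib.S8ThreeLocal.Setup

/-!
First consequences of the local data.
-/

set_option autoImplicit false
set_option maxRecDepth 8000
set_option synthInstance.maxSize 1024

namespace CfsgLib.S8ThreeLocal

open Equiv Equiv.Perm CfsgLib.A8ThreeLocal

universe u

variable {G : Type u} [Group G]

/-- Conjugation of a power in a product of two commuting elements. -/
theorem conj_mul_eq {g a b a' b' : G} (ha : g * a * g⁻¹ = a') (hb : g * b * g⁻¹ = b') :
    g * (a * b) * g⁻¹ = a' * b' := by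
  rw [← ha, ← hb]; group

/-- A three-element of a subgroup containing a subgroup of order nine is conjugate into it. -/
theorem conj_into [Finite G] (h27 : ¬ 27 ∣ Nat.card G) {K R : Subgroup G} (hR : Nat.card R = 9) (hRK : R ≤ K) {w : G}
    (hw : w ∈ K) (hw3 : w ^ 3 = 1) : ∃ c ∈ K, c * w * c⁻¹ ∈ R := by
  haveI := Fact.mk Nat.prime_three
  have hRp : IsPGroup 3 (R.subgroupOf K) := IsPGroup.of_card (n := 2) (by
    rw [Nat.card_congr (Subgroup.subgroupOfEquivOfLe hRK).toEquiv, hR]; norm_num)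
  obtain ⟨P, hP⟩ := hRp.exists_le_sylow
  have hwp : IsPGroup 3 (Subgroup.zpowers (⟨w, hw⟩ : K)) := by
    intro x
    obtain ⟨k, hk⟩ := Subgroup.mem_zpowers_iff.1 x.2
    refine ⟨1, Subtype.ext ?_⟩
    rw [pow_one, SubmonoidClass.coe_pow, ← hk, ← zpow_natCast, ← zpow_mul, mul_comm, zpow_mul, zpow_natCast,
      show (⟨w, hw⟩ : K) ^ 3 = 1 from Subtype.ext hw3, one_zpow, Subgroup.coe_one]
  obtain ⟨Q, hQ⟩ := hwp.exists_le_sylow
  obtain ⟨c, hc⟩ := MulAction.exists_smul_eq K Q P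
  have hPR : (P : Subgroup K) = R.subgroupOf K := by
    refine (Subgroup.eq_of_le_of_card_ge hP ?_).symm
    obtain ⟨k, hk⟩ := IsPGroup.iff_card.1 P.2
    rw [hk, Nat.card_congr (Subgroup.subgroupOfEquivOfLe hRK).toEquiv, hR]
    have hk2 : k ≤ 2 := by
      by_contra hk'
      exact h27 ((dvd_trans (by norm_num) (pow_dvd_pow 3 (show 3 ≤ k by omega))).trans
        ((hk ▸ Subgroup.card_subgroup_dvd_card _).trans (Subgroup.card_subgroup_dvd_card K)))
    calc 3 ^ k ≤ 3 ^ 2 := Nat.pow_le_pow_right (by norm_num) hk2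
      _ = 9 := by norm_num
  have hmem : c * ⟨w, hw⟩ * c⁻¹ ∈ (P : Subgroup K) := by
    rw [← hc, Sylow.coe_subgroup_smul, Subgroup.mem_smul_pointwise_iff_exists]
    exact ⟨_, hQ (Subgroup.mem_zpowers _), by simp [MulAut.conj_apply]⟩
  rw [hPR, Subgroup.mem_subgroupOf] at hmem
  exact ⟨c, c.2, hmem⟩

theorem cz_table : ∀ p : Perm (Fin 3), p * c3 = c3 * p → p = 1 ∨ p = c3 ∨ p = c3⁻¹ :=
  fun p h => (cent_c3 p h).2

theorem zu_list_inj : ∀ x y : Fin 3 × Fin 3 × Fin 2,
    zN ^ x.1.val * uN ^ x.2.1.val * jN ^ x.2.2.val = zN ^ y.1.val * uN ^ y.2.1.val * jN ^ y.2.2.val → x = y := by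
  decide +kernel

theorem jN_comm : ∀ i l : Fin 3, ∀ e : Fin 2, Commute (zN ^ i.val * uN ^ l.val * jN ^ e.val) jN := by
  simp only [commute_iff_eq]; decide +kernel

theorem zu_comm : ∀ i l : Fin 3, ∀ e : Fin 2, Commute (zN ^ i.val * uN ^ l.val * jN ^ e.val) (zN * uN) := by
  simp only [commute_iff_eq]; decide +kernel

theorem zj_conj : ∀ m : N35, m.2.sign = 1 → m * jN * m⁻¹ ≠ aN := by
  intro m _ h
  have := congrArg (fun w : N35 => sign w.2) h
  revert this
  simp [jN, aN]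

theorem a_conj_j : ∀ q : Perm (Fin 5), q * swap 1 2 * q⁻¹ ≠ a5 := by
  intro q h
  have := congrArg sign h
  revert this
  simp [a5, sign_swap (show (1 : Fin 5) ≠ 2 by decide), sign_swap (show (3 : Fin 5) ≠ 4 by decide)]

namespace Data

variable (L : Data G)

/-- The distinguished element of order three. -/
abbrev z : G := L.ι zN
/-- The second element of order three. -/
abbrev u : G := L.ι uN
/-- The involution of the centraliser of the Sylow subgroup. -/
abbrev j : G := L.ι jN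
/-- The transposition of the first factor. -/
abbrev t : G := L.ι tN
/-- A transposition of the second factor. -/
abbrev k : G := L.ι kN
/-- An even involution of the second factor. -/
abbrev a : G := L.ι aN
/-- A second even involution of the second factor. -/
abbrev b : G := L.ι bN

theorem ι_eq {x y : N35} (h : x = y) : L.ι x = L.ι y := congrArg L.ι h

theorem z_ne_one : L.z ≠ 1 := fun e => zN_spec.2.1 (L.inj (e.trans (map_one _).symm))

theorem z_pow : L.z ^ 3 = 1 := by rw [← map_pow, zN_spec.1, map_one]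

theorem sq_one {m : N35} (h : m * m = 1) : L.ι m * L.ι m = 1 := by rw [← map_mul, h, map_one]

theorem ne_one {m : N35} (h : m ≠ 1) : L.ι m ≠ 1 := fun e => h (L.inj (e.trans (map_one _).symm))

theorem a_sq : L.a * L.a = 1 := L.sq_one zN_spec.2.2.2.2.2.2.2.2.2.2.1

theorem a_ne_one : L.a ≠ 1 := L.ne_one zN_spec.2.2.2.2.2.2.2.2.2.2.2

theorem j_sq : L.j * L.j = 1 := L.sq_one zN_spec.2.2.2.2.2.1

theorem j_ne_one : L.j ≠ 1 := L.ne_one zN_spec.2.2.2.2.2.2.1

theorem σ_inv : L.σ⁻¹ = L.σ := inv_eq_of_mul_eq_one_right L.σ_sq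

theorem σ_conj (x : G) : L.σ * x * L.σ⁻¹ = L.σ * x * L.σ := by rw [L.σ_inv]

theorem σ_σ (x : G) : L.σ * (L.σ * x * L.σ) * L.σ = x := by
  calc L.σ * (L.σ * x * L.σ) * L.σ = L.σ * L.σ * x * (L.σ * L.σ) := by group
    _ = x := by rw [L.σ_sq, one_mul, mul_one]

theorem σ_u : L.σ * L.u * L.σ = L.z := by
  rw [show L.u = L.σ * L.z * L.σ from L.σ_z.symm]; exact L.σ_σ _

theorem σ_comm_j : Commute L.σ L.j := by
  refine mul_inv_eq_iff_eq_mul.1 ?_
  rw [L.σ_conj]; exact L.σ_j

theorem σ_comm_zu : Commute L.σ (L.ι (zN * uN)) := by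
  refine mul_inv_eq_iff_eq_mul.1 ?_
  rw [map_mul, conj_mul_eq ((L.σ_conj _).trans L.σ_z) ((L.σ_conj _).trans L.σ_u), ← map_mul, ← map_mul,
    zN_spec.2.2.2.2.1]

theorem σ_notMem : ∀ m, L.ι m ≠ L.σ := by
  intro m e
  have h : L.ι (m * zN * m⁻¹) = L.ι uN := by
    rw [map_mul, map_mul, map_inv, e, L.σ_conj]; exact L.σ_z
  have := congrArg Prod.snd (L.inj h)
  revert this
  show m.2 * 1 * m.2⁻¹ = c034 → False
  rw [mul_one, mul_inv_cancel]
  decide

/-- The centraliser of `z` in coordinates. -/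
theorem mem_cz {g : G} (h : Commute g L.z) : ∃ m : N35, L.ι m = g ∧ (m.1 = 1 ∨ m.1 = c3 ∨ m.1 = c3⁻¹) := by
  obtain ⟨m, rfl⟩ := L.cover g (Or.inl (by rw [h.eq, mul_inv_cancel_right]))
  exact ⟨m, rfl, cz_table _ (congrArg Prod.fst (L.inj (by rw [map_mul, map_mul]; exact h.eq) : m * zN = zN * m))⟩

/-- The centraliser of the Sylow subgroup. -/
theorem mem_cd {g : G} (hz : Commute g L.z) (hu : Commute g L.u) :
    ∃ i l : Fin 3, ∃ e : Fin 2, g = L.ι (zN ^ i.val * uN ^ l.val * jN ^ e.val) := by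
  obtain ⟨m, rfl, hp⟩ := L.mem_cz hz
  obtain ⟨l, e, he⟩ := cent_uN m.2 (congrArg Prod.snd (L.inj (by rw [map_mul, map_mul]; exact hu.eq) : m * uN = uN * m))
  obtain ⟨i, hi⟩ : ∃ i : Fin 3, m.1 = c3 ^ i.val := by
    rcases hp with h | h | h <;> rw [h]
    · exact ⟨0, rfl⟩
    · exact ⟨1, (pow_one _).symm⟩
    · exact ⟨2, by decide⟩
  exact ⟨i, l, e, L.ι_eq (Prod.ext (by show m.1 = c3 ^ i.val * 1 ^ l.val * 1 ^ e.val; simp [hi])
    (by show m.2 = 1 ^ i.val * c034 ^ l.val * (swap 1 2) ^ e.val; simp [he]))⟩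

/-- An involution centralising the Sylow subgroup is the distinguished one. -/
theorem invol_cd {g : G} (h2 : g * g = 1) (h1 : g ≠ 1) (hz : Commute g L.z) (hu : Commute g L.u) : g = L.j := by
  obtain ⟨i, l, e, rfl⟩ := L.mem_cd hz hu
  rcases cd_invol i l e (L.inj (by rw [map_mul L.ι (zN ^ i.val * uN ^ l.val * jN ^ e.val), map_one]; exact h2)) with h | h
  · exact absurd (by rw [h, map_one]) h1
  · rw [h]

theorem z_mem : L.z ∈ L.D := (L.memD _).2 ⟨1, 0, by simp⟩

theorem u_mem : L.u ∈ L.D := (L.memD _).2 ⟨0, 1, by simp⟩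

/-- An involution centralising the Sylow subgroup. -/
theorem invol_cD {g : G} (h2 : g * g = 1) (h1 : g ≠ 1) (h : ∀ d ∈ L.D, Commute g d) : g = L.j :=
  L.invol_cd h2 h1 (h _ L.z_mem) (h _ L.u_mem)

theorem comm_j_D {d : G} (hd : d ∈ L.D) : Commute d L.j := by
  obtain ⟨i, l, rfl⟩ := (L.memD d).1 hd
  have h := Commute.map (jN_comm i l 0) L.ι
  simpa using h

variable [Finite G]

theorem card_u : Nat.card (Subgroup.centralizer ({L.u} : Set G)) =
    Nat.card (Subgroup.centralizer ({L.z} : Set G)) := by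
  rw [← L.σ_u, ← L.σ_conj, card_cent_conj]

theorem card_z : 360 ≤ Nat.card (Subgroup.centralizer ({L.z} : Set G)) := by
  let f : {p : Perm (Fin 3) // p * c3 = c3 * p} × Perm (Fin 5) → Subgroup.centralizer ({L.z} : Set G) := fun x =>
    ⟨L.ι (x.1.1, x.2), Subgroup.mem_centralizer_singleton_iff.2 (by
      rw [← map_mul, ← map_mul]
      exact L.ι_eq (Prod.ext x.1.2 (by show x.2 * 1 = 1 * x.2; simp)))⟩
  have hf : Function.Injective f := fun x y e => by
    have h := L.inj (congrArg Subtype.val e)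
    exact Prod.ext (Subtype.ext (congrArg Prod.fst h)) (congrArg (fun m : N35 => m.2) h)
  have h := Nat.card_le_card_of_injective f hf
  rwa [Nat.card_prod, Nat.card_perm, Nat.card_fin, Nat.card_eq_fintype_card (α := {p : Perm (Fin 3) // _}),
    show Fintype.card {p : Perm (Fin 3) // p * c3 = c3 * p} = 3 by decide +kernel,
    show 3 * Nat.factorial 5 = 360 from rfl] at h

/-- The centraliser of the diagonal element. -/
theorem mem_czu {g : G} (h : Commute g (L.ι (zN * uN))) :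
    ∃ i l : Fin 3, ∃ e : Fin 2, g = L.ι (zN ^ i.val * uN ^ l.val * jN ^ e.val) ∨
      g = L.ι (zN ^ i.val * uN ^ l.val * jN ^ e.val) * L.σ := by
  let f : (Fin 3 × Fin 3 × Fin 2) × Fin 2 → Subgroup.centralizer ({L.ι (zN * uN)} : Set G) := fun x =>
    ⟨L.ι (zN ^ x.1.1.val * uN ^ x.1.2.1.val * jN ^ x.1.2.2.val) * L.σ ^ x.2.val,
      Subgroup.mem_centralizer_singleton_iff.2 (((Commute.map (zu_comm x.1.1 x.1.2.1 x.1.2.2) L.ι).mul_left
        (L.σ_comm_zu.pow_left _)).eq)⟩
  have hf : Function.Injective f := by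
    rintro ⟨x, e⟩ ⟨y, e'⟩ h
    have h' : L.ι (zN ^ x.1.val * uN ^ x.2.1.val * jN ^ x.2.2.val) * L.σ ^ e.val =
        L.ι (zN ^ y.1.val * uN ^ y.2.1.val * jN ^ y.2.2.val) * L.σ ^ e'.val := congrArg Subtype.val h
    have key : ∀ {p q : N35}, L.ι p = L.ι q * L.σ → False := fun {p q} hh =>
      L.σ_notMem (q⁻¹ * p) (by rw [map_mul, map_inv, hh, inv_mul_cancel_left])
    fin_cases e <;> fin_cases e' <;> simp at h' ⊢
    · exact zu_list_inj x y (L.inj (by simpa using h'))
    · exact absurd h' fun hh => key (p := zN ^ x.1.val * uN ^ x.2.1.val * jN ^ x.2.2.val)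
        (q := zN ^ y.1.val * uN ^ y.2.1.val * jN ^ y.2.2.val) (by simpa using hh)
    · exact absurd h'.symm fun hh => key (p := zN ^ y.1.val * uN ^ y.2.1.val * jN ^ y.2.2.val)
        (q := zN ^ x.1.val * uN ^ x.2.1.val * jN ^ x.2.2.val) (by simpa using hh)
    · exact zu_list_inj x y (L.inj (by simpa using h'))
  have hb : Function.Bijective f := (Nat.bijective_iff_injective_and_card f).2
    ⟨hf, by rw [L.card36, Nat.card_prod, Nat.card_prod, Nat.card_prod]; simp⟩
  obtain ⟨⟨⟨i, l, e⟩, s⟩, hx⟩ := hb.2 ⟨g, Subgroup.mem_centralizer_singleton_iff.2 h.eq⟩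
  have hx' := congrArg Subtype.val hx
  refine ⟨i, l, e, ?_⟩
  fin_cases s
  · exact Or.inl (by simpa [f] using hx'.symm)
  · exact Or.inr (by simpa [f] using hx'.symm)

/-- The centraliser of the diagonal element centralises `j`. -/
theorem czu_j {g : G} (h : Commute g (L.ι (zN * uN))) : Commute g L.j := by
  obtain ⟨i, l, e, rfl | rfl⟩ := L.mem_czu h
  · exact Commute.map (jN_comm i l e) L.ι
  · exact (Commute.map (jN_comm i l e) L.ι).mul_left L.σ_comm_j

/-- The centralisers of the elements of `D` outside the two distinguished lines centralise `j`. -/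
theorem diag_cases {d : G} (hd : d ∈ L.D) (hd1 : d ≠ 1) :
    (∃ n : G, Commute n L.j ∧ n * L.z * n⁻¹ = d) ∨
      (Nat.card (Subgroup.centralizer ({d} : Set G)) = 36 ∧ ∀ g : G, Commute g d → Commute g L.j) := by
  obtain ⟨i, l, rfl⟩ := (L.memD d).1 hd
  have htj : Commute L.t L.j := Commute.map (by rw [commute_iff_eq]; decide +kernel : Commute tN jN) L.ι
  by_cases hl : l = 0
  · by_cases hi : i = 0
    · rw [(d_cases i l).1 hi hl, map_one] at hd1; exact absurd rfl hd1
    left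
    rcases (d_cases i l).2.1 hi hl with e | e <;> rw [e]
    · exact ⟨1, Commute.one_left _, by simp⟩
    · refine ⟨L.t, htj, ?_⟩
      rw [← map_inv, ← map_mul, ← map_mul]
      exact L.ι_eq (by decide +kernel)
  by_cases hi : i = 0
  · left
    rcases (d_cases i l).2.2.1 hi hl with e | e <;> rw [e]
    · exact ⟨L.σ, L.σ_comm_j, (L.σ_conj _).trans L.σ_z⟩
    · refine ⟨L.σ * L.t, L.σ_comm_j.mul_left htj, ?_⟩
      calc L.σ * L.t * L.z * (L.σ * L.t)⁻¹ = L.σ * L.ι (tN * zN * tN⁻¹) * L.σ⁻¹ := by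
            rw [map_mul, map_mul, map_inv]; group
        _ = L.ι uN⁻¹ := by
          rw [show tN * zN * tN⁻¹ = zN⁻¹ by decide +kernel, map_inv, ← conj_inv, L.σ_conj, L.σ_z, map_inv]
  right
  have hinv : ∀ g v : G, Commute g v⁻¹ → Commute g v := fun g v h => by simpa using h.inv_right
  have key : ∀ g, Commute g (L.ι (tN * (zN * uN) * tN⁻¹)) → Commute g L.j := by
    intro g hg
    have h1 := L.czu_j (g := L.t⁻¹ * g * L.t) (by
      have := hg.map (MulAut.conj L.t⁻¹).toMonoidHom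
      simp only [MulEquiv.coe_toMonoidHom, MulAut.conj_apply, inv_inv] at this
      rwa [map_mul L.ι (tN * (zN * uN)), map_mul L.ι tN, map_inv,
        show L.t⁻¹ * (L.t * L.ι (zN * uN) * L.t⁻¹) * L.t = L.ι (zN * uN) by group] at this)
    have := h1.map (MulAut.conj L.t).toMonoidHom
    simp only [MulEquiv.coe_toMonoidHom, MulAut.conj_apply] at this
    rwa [show L.t * (L.t⁻¹ * g * L.t) * L.t⁻¹ = g by group, htj.eq, mul_inv_cancel_right] at this
  rcases (d_cases i l).2.2.2 hi hl with e | e | e | e <;> rw [e]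
  · exact ⟨L.card36, fun g => L.czu_j⟩
  · exact ⟨by rw [map_inv, card_cent_inv, L.card36], fun g h => L.czu_j (hinv _ _ (by rwa [← map_inv]))⟩
  · exact ⟨by rw [map_mul, map_mul L.ι tN, map_inv, card_cent_conj, L.card36], key⟩
  · refine ⟨by rw [map_mul, map_mul L.ι tN, map_inv L.ι tN, map_inv, card_cent_conj, card_cent_inv, L.card36],
      fun g h => key g (hinv _ _ ?_)⟩
    rwa [← map_inv, show (tN * (zN * uN) * tN⁻¹)⁻¹ = tN * (zN * uN)⁻¹ * tN⁻¹ by group]

/-- Elements with centraliser of order thirty-six centralising a conjugate of `j`. -/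
theorem card36_cent {g w : G} (hw3 : w ^ 3 = 1) (hw : Nat.card (Subgroup.centralizer ({w} : Set G)) = 36)
    (hc : Commute (g * L.j * g⁻¹) w) (v : G) (hv : Commute v w) : Commute v (g * L.j * g⁻¹) := by
  set K := Subgroup.centralizer ({L.j} : Set G) with hK
  have hconj : ∀ {x y : G}, Commute x y → Commute (g⁻¹ * x * g) (g⁻¹ * y * g) := fun h => by
    have := h.map (MulAut.conj g⁻¹).toMonoidHom
    simpa using this
  have hw' : g⁻¹ * w * g ∈ K := Subgroup.mem_centralizer_singleton_iff.2 (by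
    have := hconj hc
    rw [show g⁻¹ * (g * L.j * g⁻¹) * g = L.j by group] at this
    exact this.symm.eq)
  obtain ⟨c, hc', hd⟩ := conj_into L.notdvd L.cardD
    (fun d hd => Subgroup.mem_centralizer_singleton_iff.2 (L.comm_j_D hd).eq) hw'
    (by rw [show g⁻¹ * w * g = g⁻¹ * w * g⁻¹⁻¹ by group, conj_pow, hw3]; group)
  have hcard : Nat.card (Subgroup.centralizer ({c * (g⁻¹ * w * g) * c⁻¹} : Set G)) = 36 := by
    rw [card_cent_conj, show g⁻¹ * w * g = g⁻¹ * w * g⁻¹⁻¹ by group, card_cent_conj, hw]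
  have hne : c * (g⁻¹ * w * g) * c⁻¹ ≠ 1 := fun e => by
    rw [e, show Subgroup.centralizer ({(1 : G)} : Set G) = ⊤ from
      eq_top_iff.2 fun x _ => Subgroup.mem_centralizer_singleton_iff.2 (by simp), Subgroup.card_top] at hcard
    have := L.card_z.trans (Subgroup.card_le_card_group _)
    omega
  rcases L.diag_cases hd hne with ⟨n, -, hn⟩ | ⟨-, hcomm⟩
  · rw [← hn, card_cent_conj] at hcard
    have := L.card_z
    omega
  · have h1 : Commute (c * (g⁻¹ * v * g) * c⁻¹) L.j := hcomm _ ((hconj hv).map (MulAut.conj c).toMonoidHom)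
    have hcj : Commute c L.j := Subgroup.mem_centralizer_singleton_iff.1 hc'
    have h2 : Commute (g⁻¹ * v * g) L.j := by
      have := h1.map (MulAut.conj c⁻¹).toMonoidHom
      simp only [MulEquiv.coe_toMonoidHom, MulAut.conj_apply, inv_inv] at this
      rwa [show c⁻¹ * (c * (g⁻¹ * v * g) * c⁻¹) * c = g⁻¹ * v * g by group, mul_assoc c⁻¹, ← hcj.eq,
        inv_mul_cancel_left] at this
    have := h2.map (MulAut.conj g).toMonoidHom
    simpa [mul_assoc] using this

/-- The distinguished involutions are not conjugate. -/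
theorem a_ne_j (g : G) : g * L.j * g⁻¹ ≠ L.a := by
  intro e
  set K := Subgroup.centralizer ({L.j} : Set G) with hK
  have hza : Commute L.z L.a := Commute.map (by rw [commute_iff_eq]; decide +kernel : Commute zN aN) L.ι
  have hz' : g⁻¹ * L.z * g ∈ K := Subgroup.mem_centralizer_singleton_iff.2 (by
    have := hza.map (MulAut.conj g⁻¹).toMonoidHom
    simp only [MulEquiv.coe_toMonoidHom, MulAut.conj_apply, inv_inv] at this
    rw [← e, show g⁻¹ * (g * L.j * g⁻¹) * g = L.j by group] at this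
    exact this.eq)
  obtain ⟨c, hc, hd⟩ := conj_into L.notdvd L.cardD
    (fun d hd => Subgroup.mem_centralizer_singleton_iff.2 (L.comm_j_D hd).eq) hz'
    (by rw [show g⁻¹ * L.z * g = g⁻¹ * L.z * g⁻¹⁻¹ by group, conj_pow, L.z_pow]; group)
  have hcj : Commute c L.j := Subgroup.mem_centralizer_singleton_iff.1 hc
  rcases L.diag_cases hd (fun h => L.z_ne_one ((conj_eq_one_iff (a := g⁻¹)).1 (by
    rw [inv_inv]; exact conj_eq_one_iff.1 h))) with ⟨n, hn, hnz⟩ | ⟨h36, -⟩
  · have hm : Commute (g * c⁻¹ * n) L.z := by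
      refine mul_inv_eq_iff_eq_mul.1 ?_
      calc g * c⁻¹ * n * L.z * (g * c⁻¹ * n)⁻¹ = g * c⁻¹ * (n * L.z * n⁻¹) * c * g⁻¹ := by group
        _ = L.z := by rw [hnz]; group
    obtain ⟨m, hm', -⟩ := L.mem_cz hm
    have h : L.ι (m * jN * m⁻¹) = L.a := by
      rw [map_mul, map_mul, map_inv, hm']
      calc g * c⁻¹ * n * L.j * (g * c⁻¹ * n)⁻¹ = g * c⁻¹ * (n * L.j) * n⁻¹ * c * g⁻¹ := by group
        _ = g * (c⁻¹ * L.j) * c * g⁻¹ := by rw [hn.eq]; group
        _ = L.a := by rw [hcj.inv_left.eq, ← e]; group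
    exact a_conj_j m.2 (congrArg Prod.snd (L.inj h))
  · rw [card_cent_conj, show g⁻¹ * L.z * g = g⁻¹ * L.z * g⁻¹⁻¹ by group, card_cent_conj] at h36
    have := L.card_z
    omega

/-- The order of the centraliser of `a` is not divisible by nine. -/
theorem not_nine : ¬ 9 ∣ Nat.card (Subgroup.centralizer ({L.a} : Set G)) := by
  haveI := Fact.mk Nat.prime_three
  intro h
  obtain ⟨Q, hQ⟩ := Sylow.exists_subgroup_card_pow_prime 3 (n := 2) (show 3 ^ 2 ∣ _ from h)
  set Q' := Q.map (Subgroup.centralizer ({L.a} : Set G)).subtype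
  have hQ' : Nat.card Q' = 9 := by rw [Subgroup.card_map_of_injective (Subgroup.subtype_injective _), hQ]; norm_num
  obtain ⟨P, hP⟩ := (IsPGroup.of_card (p := 3) (n := 2) (G := Q') (by rw [hQ']; norm_num)).exists_le_sylow
  obtain ⟨P', hP'⟩ := (IsPGroup.of_card (p := 3) (n := 2) (G := L.D) (by rw [L.cardD]; norm_num)).exists_le_sylow
  have hfull : ∀ (R : Subgroup G) (S : Sylow 3 G), Nat.card R = 9 → R ≤ (S : Subgroup G) → (S : Subgroup G) = R := by
    intro R S hR hle
    refine (Subgroup.eq_of_le_of_card_ge hle ?_).symm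
    obtain ⟨k, hk⟩ := IsPGroup.iff_card.1 S.2
    rw [hk, hR]
    have hk2 : k ≤ 2 := by
      by_contra hk'
      exact L.notdvd ((dvd_trans (by norm_num) (pow_dvd_pow 3 (show 3 ≤ k by omega))).trans
        (hk ▸ Subgroup.card_subgroup_dvd_card _))
    calc 3 ^ k ≤ 3 ^ 2 := Nat.pow_le_pow_right (by norm_num) hk2
      _ = 9 := by norm_num
  obtain ⟨g, hg⟩ := MulAction.exists_smul_eq G P' P
  have hcomm : ∀ d ∈ L.D, Commute (g⁻¹ * L.a * g) d := by
    intro d hd
    have h1 : g * d * g⁻¹ ∈ Q' := by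
      rw [← hfull Q' P hQ' hP, ← hg, Sylow.coe_subgroup_smul, Subgroup.mem_smul_pointwise_iff_exists]
      exact ⟨d, hP' hd, by simp [MulAut.conj_apply]⟩
    obtain ⟨w, -, hw⟩ := h1
    have h2 : Commute (g * d * g⁻¹) L.a := by
      rw [← hw]; exact Subgroup.mem_centralizer_singleton_iff.1 w.2
    have := h2.symm.map (MulAut.conj g⁻¹).toMonoidHom
    simpa [mul_assoc] using this
  have hj := L.invol_cD (g := g⁻¹ * L.a * g)
    (by rw [show g⁻¹ * L.a * g * (g⁻¹ * L.a * g) = g⁻¹ * (L.a * L.a) * g by group, L.a_sq]; group)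
    (fun e => L.a_ne_one ((conj_eq_one_iff (a := g⁻¹)).1 (by rw [inv_inv]; exact e))) hcomm
  exact L.a_ne_j g (by rw [← hj]; group)

/-- An involution centralising an element whose centraliser has order thirty-six is not conjugate to `a`. -/
theorem sep_a {x w : G} (hw3 : w ^ 3 = 1) (hw : Nat.card (Subgroup.centralizer ({w} : Set G)) = 36)
    (hc : Commute x w) (g : G) : g * L.a * g⁻¹ ≠ x := by
  haveI := Fact.mk Nat.prime_three
  intro e
  set C := Subgroup.centralizer ({L.a} : Set G)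
  have hwC : g⁻¹ * w * g ∈ C := Subgroup.mem_centralizer_singleton_iff.2 (by
    have := hc.map (MulAut.conj g⁻¹).toMonoidHom
    simp only [MulEquiv.coe_toMonoidHom, MulAut.conj_apply, inv_inv] at this
    rw [← e, show g⁻¹ * (g * L.a * g⁻¹) * g = L.a by group] at this
    exact this.symm.eq)
  have hzC : L.z ∈ C := Subgroup.mem_centralizer_singleton_iff.2
    (Commute.map (by rw [commute_iff_eq]; decide +kernel : Commute zN aN) L.ι).eq
  have hw'3 : (g⁻¹ * w * g) ^ 3 = 1 := by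
    rw [show g⁻¹ * w * g = g⁻¹ * w * g⁻¹⁻¹ by group, conj_pow, hw3]; group
  have hzord : orderOf (⟨L.z, hzC⟩ : C) = 3 := orderOf_eq_prime (Subtype.ext L.z_pow)
    fun e' => L.z_ne_one (congrArg Subtype.val e')
  have hz3p : IsPGroup 3 (Subgroup.zpowers (⟨L.z, hzC⟩ : C)) := IsPGroup.of_card (n := 1) (by
    rw [Nat.card_zpowers, hzord, pow_one])
  obtain ⟨P, hP⟩ := hz3p.exists_le_sylow
  have hPz : (P : Subgroup C) = Subgroup.zpowers ⟨L.z, hzC⟩ := by
    refine (Subgroup.eq_of_le_of_card_ge hP ?_).symm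
    obtain ⟨k, hk⟩ := IsPGroup.iff_card.1 P.2
    rw [hk, Nat.card_zpowers, hzord]
    have hk1 : k ≤ 1 := by
      by_contra hk'
      exact L.not_nine ((dvd_trans (by norm_num) (pow_dvd_pow 3 (show 2 ≤ k by omega))).trans
        (hk ▸ Subgroup.card_subgroup_dvd_card _))
    calc 3 ^ k ≤ 3 ^ 1 := Nat.pow_le_pow_right (by norm_num) hk1
      _ = 3 := by norm_num
  have hwp : IsPGroup 3 (Subgroup.zpowers (⟨_, hwC⟩ : C)) := by
    intro v
    obtain ⟨k, hk⟩ := Subgroup.mem_zpowers_iff.1 v.2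
    refine ⟨1, Subtype.ext ?_⟩
    rw [pow_one, SubmonoidClass.coe_pow, ← hk, ← zpow_natCast, ← zpow_mul, mul_comm, zpow_mul, zpow_natCast,
      show (⟨_, hwC⟩ : C) ^ 3 = 1 from Subtype.ext hw'3, one_zpow, Subgroup.coe_one]
  obtain ⟨Q, hQ⟩ := hwp.exists_le_sylow
  obtain ⟨c, hc'⟩ := MulAction.exists_smul_eq C Q P
  have hmem : c * ⟨_, hwC⟩ * c⁻¹ ∈ (P : Subgroup C) := by
    rw [← hc', Sylow.coe_subgroup_smul, Subgroup.mem_smul_pointwise_iff_exists]
    exact ⟨_, hQ (Subgroup.mem_zpowers _), by simp [MulAut.conj_apply]⟩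
  rw [hPz, Subgroup.mem_zpowers_iff] at hmem
  obtain ⟨k, hk⟩ := hmem
  have hk' : L.z ^ (k % 3) = (c : G) * (g⁻¹ * w * g) * (c : G)⁻¹ := by
    have h' : L.z ^ k = (c : G) * (g⁻¹ * w * g) * (c : G)⁻¹ := by simpa using congrArg Subtype.val hk
    rwa [← Int.emod_add_mul_ediv k 3, zpow_add, zpow_mul,
      show L.z ^ (3 : ℤ) = 1 from by rw [show (3 : ℤ) = ((3 : ℕ) : ℤ) from rfl, zpow_natCast, L.z_pow],
      one_zpow, mul_one] at h'
  have h36 : Nat.card (Subgroup.centralizer ({L.z ^ (k % 3)} : Set G)) = 36 := by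
    rw [hk', card_cent_conj, show g⁻¹ * w * g = g⁻¹ * w * g⁻¹⁻¹ by group, card_cent_conj, hw]
  have hz := L.card_z
  obtain h | h | h : k % 3 = 0 ∨ k % 3 = 1 ∨ k % 3 = 2 := by omega
  · rw [h, zpow_zero, show Subgroup.centralizer ({(1 : G)} : Set G) = ⊤ from
      eq_top_iff.2 fun x _ => Subgroup.mem_centralizer_singleton_iff.2 (by simp), Subgroup.card_top] at h36
    have := hz.trans (Subgroup.card_le_card_group _)
    omega
  · rw [h, zpow_one] at h36; omega
  · rw [h, show L.z ^ (2 : ℤ) = L.z⁻¹ by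
      rw [eq_inv_iff_mul_eq_one, show (2 : ℤ) = ((2 : ℕ) : ℤ) from rfl, zpow_natCast, ← pow_succ, L.z_pow],
      card_cent_inv] at h36
    omega

/-- An involution centralising the diagonal element and not its whole centraliser is not conjugate to `j`. -/
theorem sep_j {x v : G} (hc : Commute x (L.ι (zN * uN))) (hv : Commute v (L.ι (zN * uN))) (hn : ¬ Commute v x)
    (g : G) : g * L.j * g⁻¹ ≠ x := by
  intro e
  refine hn (e ▸ L.card36_cent ?_ L.card36 (e ▸ hc) v hv)
  rw [← map_pow, show (zN * uN) ^ 3 = 1 by decide +kernel, map_one]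

theorem σ_ne_a (g : G) : g * L.a * g⁻¹ ≠ L.σ ∧ g * L.a * g⁻¹ ≠ L.σ * L.j := by
  have h3 : L.ι (zN * uN) ^ 3 = 1 := by
    rw [← map_pow, show (zN * uN) ^ 3 = 1 by decide +kernel, map_one]
  refine ⟨L.sep_a h3 L.card36 L.σ_comm_zu g, L.sep_a h3 L.card36 (L.σ_comm_zu.mul_left ?_) g⟩
  exact Commute.map (by rw [commute_iff_eq]; decide +kernel : Commute jN (zN * uN)) L.ι

end Data

end CfsgLib.S8ThreeLocal
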