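import Cfsg.Agent.Lib.S8ThreeLocal.LCases

/-!
The big shape is impossible.
-/

set_option autoImplicit false
set_option maxRecDepth 8000
set_option synthInstance.maxSize 1024

namespace CfsgLib.S8ThreeLocal

open Equiv Equiv.Perm CfsgLib.A8ThreeLocal CfsgLib.SelfCentThree

universe u

theorem B35_mul_conj : ∀ m : N35, (m = 1 ∨ m = aN ∨ m = jN ∨ m = kN ∨ m = tN ∨ m = tN * aN ∨ m = tN * jN ∨
    m = tN * kN) → m * (bN * m * bN) = 1 ∨ m * (bN * m * bN) = aN := by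
  rintro m (rfl | rfl | rfl | rfl | rfl | rfl | rfl | rfl) <;> decide +kernel

variable {G : Type u} [Group G] [Finite G]

/-- A second fixed coset of an involutory automorphism on a two-group. -/
theorem second_fixed_coset {R S : Subgroup G} {b : G} (hb : b * b = 1) (hSR : S ≤ R) (hR : ∀ x ∈ R, b * x * b ∈ R)
    (hS : ∀ x ∈ S, b * x * b ∈ S) (h2 : 2 ∣ S.relIndex R) : ∃ g ∈ R, g ∉ S ∧ g⁻¹ * (b * g * b) ∈ S := by
  have hbi : b⁻¹ = b := inv_eq_of_mul_eq_one_right hb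
  have hbb : ∀ x : G, b * (b * x * b) * b = x := fun x => by
    calc b * (b * x * b) * b = b * b * x * (b * b) := by group
      _ = x := by rw [hb, one_mul, mul_one]
  let f : R ⧸ S.subgroupOf R → R ⧸ S.subgroupOf R :=
    Quotient.map' (fun x => (⟨b * x * b, hR x x.2⟩ : R)) (by
      intro x y hxy
      rw [QuotientGroup.leftRel_apply, Subgroup.mem_subgroupOf] at hxy ⊢
      show (b * (x : G) * b)⁻¹ * (b * y * b) ∈ S
      rw [show (b * (x : G) * b)⁻¹ * (b * y * b) = b⁻¹ * ((x : G)⁻¹ * y) * b by group, hbi]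
      exact hS _ hxy)
  have hff : ∀ q, f (f q) = q := by
    intro q
    induction q using Quotient.inductionOn' with
    | _ x =>
      show Quotient.mk'' _ = _
      exact congrArg _ (Subtype.ext (hbb x))
  have h1 : f ((1 : R) : R ⧸ S.subgroupOf R) = ((1 : R) : R ⧸ S.subgroupOf R) := by
    show Quotient.mk'' _ = _
    exact congrArg _ (Subtype.ext (show b * 1 * b = 1 by rw [mul_one, hb]))
  obtain ⟨q, hne, hq⟩ := exists_second_fixed hff h2 h1
  obtain ⟨x, rfl⟩ := QuotientGroup.mk_surjective q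
  refine ⟨x, x.2, fun hx => hne (QuotientGroup.eq.2 (by simpa [Subgroup.mem_subgroupOf] using hx)), ?_⟩
  have h := QuotientGroup.eq.1 hq.symm
  simpa [Subgroup.mem_subgroupOf] using h

namespace Data

variable {L : Data G}

theorem exists_R : ∃ R : Subgroup G, R ≤ L.CB ∧ IsPGroup 2 R ∧ L.Bp ≤ R ∧ ¬ 2 ∣ R.relIndex L.CB ∧
    ∀ x ∈ R, L.b * x * L.b ∈ R := by
  classical
  haveI := Fact.mk Nat.prime_two
  set M := Subgroup.normalizer (L.CB : Set G)
  have hbM : L.b ∈ M := CfsgLib.A8ThreeLocal.Loc.normalises_of fun x hx => by rw [L.b_inv]; exact L.b_CB hx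
  have hBM : L.Bp ≤ M := L.Bp_le_CB.trans Subgroup.le_normalizer
  have hbB : L.b ∈ Subgroup.normalizer (L.Bp : Set G) := CfsgLib.A8ThreeLocal.Loc.normalises_of (by
    rintro _ ⟨m, hm, rfl⟩
    refine ⟨bN * m * bN, ?_, ?_⟩
    · obtain ⟨ht, hj, ha, hk⟩ := B35_gens
      have hmul : bN * m * bN = m ∨ bN * m * bN = m * aN := by
        rcases B35_list hm with rfl | rfl | rfl | rfl | rfl | rfl | rfl | rfl <;> decide +kernel
      rcases hmul with e | e <;> rw [e]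
      exacts [hm, mul_mem hm ha]
    · rw [L.b_inv, map_mul, map_mul])
  have hbp : IsPGroup 2 (Subgroup.zpowers L.b) := fun x => ⟨1, Subtype.ext (by
    obtain ⟨n, hn⟩ := Subgroup.mem_zpowers_iff.1 x.2
    rw [pow_one, SubmonoidClass.coe_pow, ← hn, ← zpow_natCast, ← zpow_mul, mul_comm, zpow_mul, zpow_natCast,
      pow_two, L.b_sq, one_zpow, Subgroup.coe_one])⟩
  have hBp : IsPGroup 2 L.Bp := IsPGroup.of_card (n := 3) (by rw [L.Bp_card]; norm_num)
  have hsup := hbp.to_sup_of_normal_right' hBp (Subgroup.zpowers_le.2 hbB)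
  have hle : Subgroup.zpowers L.b ⊔ L.Bp ≤ M := sup_le (Subgroup.zpowers_le.2 hbM) hBM
  obtain ⟨Q, hQ⟩ := (hsup.of_equiv (Subgroup.subgroupOfEquivOfLe hle).symm).exists_le_sylow
  haveI : (L.CB.subgroupOf M).Normal := Subgroup.normal_in_normalizer
  have hodd := sylow_inf_normal Q (L.CB.subgroupOf M)
  set R := ((Q : Subgroup M) ⊓ L.CB.subgroupOf M).map M.subtype with hR
  refine ⟨R, ?_, (Q.2.to_le inf_le_left).map _, ?_, ?_, ?_⟩
  · rintro _ ⟨x, hx, rfl⟩; exact hx.2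
  · intro x hx
    exact ⟨⟨x, hBM hx⟩, ⟨hQ (Subgroup.mem_subgroupOf.2 ((le_sup_right : L.Bp ≤ _) hx)),
      Subgroup.mem_subgroupOf.2 (L.Bp_le_CB hx)⟩, rfl⟩
  · have e : (L.CB.subgroupOf M).map M.subtype = L.CB := by
      rw [Subgroup.subgroupOf_map_subtype, inf_eq_left.2 Subgroup.le_normalizer]
    have h := Subgroup.relIndex_map_map_of_injective ((Q : Subgroup M) ⊓ L.CB.subgroupOf M) (L.CB.subgroupOf M)
      M.subtype_injective
    rw [e] at h
    rwa [hR, h]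
  · rintro _ ⟨x, hx, rfl⟩
    have hbQ : (⟨L.b, hbM⟩ : M) ∈ (Q : Subgroup M) :=
      hQ (Subgroup.mem_subgroupOf.2 ((le_sup_left : Subgroup.zpowers L.b ≤ _) (Subgroup.mem_zpowers L.b)))
    refine ⟨⟨L.b, hbM⟩ * x * ⟨L.b, hbM⟩, ⟨mul_mem (mul_mem hbQ hx.1) hbQ, ?_⟩, rfl⟩
    exact Subgroup.mem_subgroupOf.2 (L.b_CB hx.2)

theorem conj_a_V {y : G} (h : y = L.b ∨ y = L.a * L.b) : ∃ g, g * L.a * g⁻¹ = y := by
  rcases h with rfl | rfl
  · refine ⟨L.ι rN, ?_⟩
    rw [← map_inv, ← map_mul, ← map_mul]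
    exact L.ι_eq (by decide +kernel)
  · refine ⟨L.ι rN⁻¹, ?_⟩
    rw [← map_inv, ← map_mul, ← map_mul, ← map_mul]
    exact L.ι_eq (by decide +kernel)

theorem big_false (hK : L.SmallK) (hB : L.Big) : False := by
  classical
  haveI := Fact.mk Nat.prime_two
  obtain ⟨R, hRCB, hRp, hBR, hRodd, hRb⟩ := exists_R (L := L)
  have hR32 := hB R hRCB hRp hRodd
  have hdel : ∀ g ∈ L.CB, g⁻¹ * (L.b * g * L.b) ∈ L.Bp → g⁻¹ * (L.b * g * L.b) = 1 ∨
      g⁻¹ * (L.b * g * L.b) = L.a ∨ g⁻¹ * (L.b * g * L.b) = L.t ∨ g⁻¹ * (L.b * g * L.b) = L.t * L.a := by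
    intro g hg h
    refine L.Bp_comm_b h (twist_comm L.b_sq ?_ (L.Bp_sq h))
    rw [show g⁻¹ * (L.b * g * L.b) * L.b = g⁻¹ * L.b * g * (L.b * L.b) by group, L.b_sq, mul_one,
      show g⁻¹ * L.b * g * (g⁻¹ * L.b * g) = g⁻¹ * (L.b * L.b) * g by group, L.b_sq]
    group
  have hsmall : ∀ g ∈ L.CB, (g⁻¹ * (L.b * g * L.b) = 1 ∨ g⁻¹ * (L.b * g * L.b) = L.a) → g ∈ L.Bp := by
    intro g hg h
    have hZ : g⁻¹ * (L.b * g * L.b) ∈ L.Zp := by
      rcases h with e | e <;> rw [e]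
      exacts [one_mem _, ⟨aN, Or.inr (Or.inl rfl), rfl⟩]
    obtain ⟨m, rfl, hm⟩ := fix_b hK hg.1 hZ
    exact coord_CB hg hm
  have hcen : ∀ g ∈ L.CB, ∀ e ∈ L.Bp, g * e = e * g := fun g hg e he => (L.comm_Bp hg he).eq
  have hprod : ∀ g h : G, h ∈ L.CB → g⁻¹ * (L.b * g * L.b) ∈ L.Bp →
      (g * h)⁻¹ * (L.b * (g * h) * L.b) = g⁻¹ * (L.b * g * L.b) * (h⁻¹ * (L.b * h * L.b)) := by
    intro g h hh he
    calc (g * h)⁻¹ * (L.b * (g * h) * L.b) = h⁻¹ * g⁻¹ * (L.b * g * (L.b * L.b) * h * L.b) := by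
          rw [L.b_sq]; group
      _ = h⁻¹ * (g⁻¹ * (L.b * g * L.b)) * (L.b * h * L.b) := by group
      _ = g⁻¹ * (L.b * g * L.b) * h⁻¹ * (L.b * h * L.b) := by rw [hcen _ (inv_mem hh) _ he]
      _ = _ := by group
  let S : Subgroup G :=
    { carrier := {g | g ∈ R ∧ g⁻¹ * (L.b * g * L.b) ∈ L.Bp}
      one_mem' := ⟨one_mem _, by rw [mul_one, L.b_sq, inv_one, one_mul]; exact one_mem _⟩
      mul_mem' := by
        rintro g h ⟨hg, hg'⟩ ⟨hh, hh'⟩
        refine ⟨mul_mem hg hh, ?_⟩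
        rw [hprod g h (hRCB hh) hg']
        exact mul_mem hg' hh'
      inv_mem' := by
        rintro g ⟨hg, hg'⟩
        refine ⟨inv_mem hg, ?_⟩
        have e : g⁻¹⁻¹ * (L.b * g⁻¹ * L.b) = g * (g⁻¹ * (L.b * g * L.b))⁻¹ * g⁻¹ := by
          rw [mul_inv_rev, mul_inv_rev, mul_inv_rev, L.b_inv]; group
        rw [e, hcen g (hRCB hg) _ (inv_mem hg'), mul_inv_cancel_right]
        exact inv_mem hg' }
  have hSR : S ≤ R := fun x hx => hx.1
  have hBS : L.Bp ≤ S := fun x hx => by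
    refine ⟨hBR hx, mul_mem (inv_mem hx) ?_⟩
    obtain ⟨m, hm, rfl⟩ := hx
    refine ⟨bN * m * bN, ?_, by rw [map_mul, map_mul]⟩
    obtain ⟨-, -, ha, -⟩ := B35_gens
    have hmul : bN * m * bN = m ∨ bN * m * bN = m * aN := by
      rcases B35_list hm with rfl | rfl | rfl | rfl | rfl | rfl | rfl | rfl <;> decide +kernel
    rcases hmul with e | e <;> rw [e]
    exacts [hm, mul_mem hm ha]
  have hbb : ∀ x : G, L.b * (L.b * x * L.b) * L.b = x := fun x => by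
    calc L.b * (L.b * x * L.b) * L.b = L.b * L.b * x * (L.b * L.b) := by group
      _ = x := by rw [L.b_sq, one_mul, mul_one]
  have hBb : ∀ x ∈ L.Bp, L.b * x * L.b ∈ L.Bp := fun x hx => by
    have := mul_mem hx (hBS hx).2
    rwa [mul_inv_cancel_left] at this
  have hev : ∀ (U : Subgroup G), U ≤ R → Nat.card U < Nat.card R → 2 ∣ U.relIndex R := by
    intro U hU hlt
    have h := Subgroup.relIndex_mul_relIndex ⊥ U R bot_le hU
    rw [Subgroup.relIndex_bot_left, Subgroup.relIndex_bot_left] at h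
    obtain ⟨k, hk⟩ := IsPGroup.iff_card.1 hRp
    obtain ⟨i, -, hi⟩ := (Nat.dvd_prime_pow Nat.prime_two).1 (hk ▸ Dvd.intro_left _ h : U.relIndex R ∣ 2 ^ k)
    rw [hi]
    refine dvd_pow_self 2 ?_
    rintro rfl
    rw [hi, pow_zero, mul_one] at h
    omega
  obtain ⟨g, hgR, hgB, hgd⟩ := second_fixed_coset L.b_sq hBR hRb hBb (hev _ hBR (by rw [L.Bp_card]; omega))
  have hgCB := hRCB hgR
  have hgt : g⁻¹ * (L.b * g * L.b) = L.t ∨ g⁻¹ * (L.b * g * L.b) = L.t * L.a := by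
    rcases hdel g hgCB hgd with h | h | h | h
    · exact absurd (hsmall g hgCB (Or.inl h)) hgB
    · exact absurd (hsmall g hgCB (Or.inr h)) hgB
    · exact Or.inl h
    · exact Or.inr h
  have hta : L.t * L.a * (L.t * L.a) = 1 := L.Bp_sq (mul_mem ⟨tN, B35_gens.1, rfl⟩ ⟨aN, B35_gens.2.2.1, rfl⟩)
  have hat : L.t * L.a = L.a * L.t := (L.comm_Bp (L.Bp_le_CB ⟨tN, B35_gens.1, rfl⟩) ⟨aN, B35_gens.2.2.1, rfl⟩).eq
  have hS16 : ∀ x ∈ S, x ∈ L.Bp ∨ g⁻¹ * x ∈ L.Bp := by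
    rintro x ⟨hxR, hx⟩
    rcases hdel x (hRCB hxR) hx with h | h | h | h
    · exact Or.inl (hsmall x (hRCB hxR) (Or.inl h))
    · exact Or.inl (hsmall x (hRCB hxR) (Or.inr h))
    all_goals
      right
      refine hsmall _ (mul_mem (inv_mem hgCB) (hRCB hxR)) ?_
      have hgi : g⁻¹⁻¹ * (L.b * g⁻¹ * L.b) ∈ L.Bp := (inv_mem (show g ∈ S from ⟨hgR, hgd⟩)).2
      rw [hprod g⁻¹ x (hRCB hxR) hgi, h]
      have e : g⁻¹⁻¹ * (L.b * g⁻¹ * L.b) = (g⁻¹ * (L.b * g * L.b))⁻¹ := by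
        rw [show g⁻¹⁻¹ * (L.b * g⁻¹ * L.b) = g * (g⁻¹ * (L.b * g * L.b))⁻¹ * g⁻¹ by
          rw [mul_inv_rev, mul_inv_rev, mul_inv_rev, L.b_inv]; group,
          hcen g hgCB _ (inv_mem hgd), mul_inv_cancel_right]
      rw [e]
      rcases hgt with h' | h' <;> rw [h']
    · exact Or.inl (inv_mul_cancel _)
    · exact Or.inr (by rw [mul_inv_rev, inv_eq_of_mul_eq_one_right L.a_sq, mul_assoc, inv_mul_cancel, mul_one])
    · exact Or.inr (inv_mul_cancel_left _ _)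
    · exact Or.inl (inv_mul_cancel _)
  have hScard : Nat.card S ≤ 16 := by
    let f : S → L.Bp × Fin 2 := fun x =>
      if h : (x : G) ∈ L.Bp then (⟨x, h⟩, 0) else (⟨g⁻¹ * x, (hS16 x x.2).resolve_left h⟩, 1)
    have hf : Function.Injective f := by
      intro x y e
      by_cases hx : (x : G) ∈ L.Bp <;> by_cases hy : (y : G) ∈ L.Bp <;>
        simp only [f, dif_pos, dif_neg, hx, hy, not_false_iff, Prod.mk.injEq] at e
      · exact Subtype.ext (congrArg (fun v : L.Bp => (v : G)) e.1 :)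
      · exact absurd e.2 (by decide)
      · exact absurd e.2 (by decide)
      · exact Subtype.ext (mul_left_cancel (congrArg (fun v : L.Bp => (v : G)) e.1 :))
    have := Nat.card_le_card_of_injective f hf
    rwa [Nat.card_prod, L.Bp_card, Nat.card_fin] at this
  have hSb : ∀ x ∈ S, L.b * x * L.b ∈ S := fun x hx => by
    have := mul_mem hx (hBS hx.2)
    rwa [mul_inv_cancel_left] at this
  obtain ⟨h, hhR, hhS, hhd⟩ := second_fixed_coset L.b_sq hSR hRb hSb (hev _ hSR (by omega))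
  have hhCB := hRCB hhR
  have hδh : h⁻¹ * (L.b * h * L.b) ∉ L.Bp := fun e => hhS ⟨hhR, e⟩
  obtain ⟨μ, hμCB, hμd, hμS⟩ : ∃ μ ∈ L.CB, μ⁻¹ * (L.b * μ * L.b) = L.t ∧ μ⁻¹ * g ∈ L.Bp := by
    rcases hgt with h' | h'
    · exact ⟨g, hgCB, h', by rw [inv_mul_cancel]; exact one_mem _⟩
    · have hjB : L.j ∈ L.Bp := ⟨jN, B35_gens.2.1, rfl⟩
      refine ⟨g * L.j, mul_mem hgCB (L.Bp_le_CB hjB), ?_, ?_⟩
      · rw [hprod g L.j (L.Bp_le_CB hjB) hgd, h', L.bjb, inv_eq_of_mul_eq_one_right L.j_sq]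
        rw [show L.j * L.k = L.a by rw [← map_mul]; exact L.ι_eq (by decide +kernel), mul_assoc, L.a_sq, mul_one]
      · rw [mul_inv_rev, inv_mul_cancel_right]; exact inv_mem hjB
  obtain ⟨e, heB, hye⟩ : ∃ e ∈ L.Bp, h⁻¹ * (L.b * h * L.b) = μ * e := by
    refine ⟨μ⁻¹ * g * (g⁻¹ * (h⁻¹ * (L.b * h * L.b))), mul_mem hμS ((hS16 _ hhd).resolve_left hδh), by group⟩
  set y := h⁻¹ * L.b * h with hy
  have hyμ : y = μ * e * L.b := by
    rw [← hye, hy, show h⁻¹ * (L.b * h * L.b) * L.b = h⁻¹ * L.b * h * (L.b * L.b) by group, L.b_sq, mul_one]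
  have hy2 : y * y = 1 := by
    rw [hy, show h⁻¹ * L.b * h * (h⁻¹ * L.b * h) = h⁻¹ * (L.b * L.b) * h by group, L.b_sq]; group
  have htB : L.t ∈ L.Bp := ⟨tN, B35_gens.1, rfl⟩
  have hμb' : L.b * μ * L.b = μ * L.t := by rw [← hμd, mul_inv_cancel_left]
  have hμt : Commute μ L.t := L.comm_Bp hμCB htB
  have htt : L.t * L.t = 1 := L.Bp_sq htB
  have hμb : μ * L.b * μ⁻¹ = L.t * L.b := by
    calc μ * L.b * μ⁻¹ = L.b * (L.b * μ * L.b) * μ⁻¹ := by
          rw [show L.b * (L.b * μ * L.b) * μ⁻¹ = L.b * L.b * μ * L.b * μ⁻¹ by group, L.b_sq, one_mul]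
      _ = L.b * L.t := by rw [hμb', hμt.eq]; group
      _ = L.t * L.b := by rw [← map_mul, ← map_mul]; exact L.ι_eq (by decide +kernel)
  have hμsq : μ * μ = L.t ∨ μ * μ = L.t * L.a := by
    obtain ⟨m, hm, hme⟩ := heB
    obtain ⟨v, hv, hvv⟩ : ∃ v, (v = 1 ∨ v = L.a) ∧ e * (L.b * e * L.b) = v := by
      refine ⟨_, ?_, rfl⟩
      rw [← hme, ← map_mul, ← map_mul, ← map_mul]
      rcases B35_mul_conj m (B35_list hm) with e' | e' <;> rw [e']
      exacts [Or.inl (map_one _), Or.inr rfl]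
    have h1 : μ * μ * (L.t * v) = 1 := by
      rw [← hvv, ← hy2, hyμ]
      calc μ * μ * (L.t * (e * (L.b * e * L.b))) = μ * (μ * L.t * e) * (L.b * e * L.b) := by group
        _ = μ * (e * (μ * L.t)) * (L.b * e * L.b) := by
          rw [(L.comm_Bp (mul_mem hμCB (L.Bp_le_CB htB)) ⟨m, hm, hme⟩).eq]
        _ = μ * e * (L.b * μ * L.b) * (L.b * e * L.b) := by rw [hμb']; group
        _ = μ * e * L.b * μ * (L.b * L.b) * e * L.b := by group
        _ = μ * e * L.b * (μ * e * L.b) := by rw [L.b_sq, mul_one]; group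
    rw [mul_eq_one_iff_eq_inv] at h1
    rcases hv with rfl | rfl
    · exact Or.inl (by rw [h1, mul_one, inv_eq_of_mul_eq_one_right htt])
    · exact Or.inr (by rw [h1, inv_eq_of_mul_eq_one_right hta])
  obtain ⟨i, gg, hx⟩ := x_conj hK hμt (L.mem_CB.1 hμCB).1 hμb (Or.inl (by
    rw [mul_assoc, L.comm_Bp hμCB ⟨kN, B35_gens.2.2.2, rfl⟩, ← mul_assoc, L.sq_one (by decide +kernel : kN * kN = 1),
      one_mul]))
  have hx2 : gg * L.j * gg⁻¹ * (gg * L.j * gg⁻¹) = 1 := by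
    rw [show gg * L.j * gg⁻¹ * (gg * L.j * gg⁻¹) = gg * (L.j * L.j) * gg⁻¹ by group, L.j_sq]; group
  have hkt : ∀ n : ℕ, Commute μ (L.k * L.t ^ n) := fun n =>
    (L.comm_Bp hμCB ⟨kN, B35_gens.2.2.2, rfl⟩).mul_right (hμt.pow_right n)
  rcases hμsq with hsq | hsq
  · -- the square cannot be `t`
    rw [hsq] at hx
    have hrt : (L.ι rN⁻¹ * L.t * L.ι rN)⁻¹ = L.t := by
      rw [← map_mul, ← map_mul, ← map_inv]; exact L.ι_eq (by decide +kernel)
    rw [hrt] at hx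
    set w := L.t * L.k * L.t ^ i.val with hw
    have hwμ : Commute μ⁻¹ w := by
      rw [hw, mul_assoc]; exact (hμt.mul_right (hkt _)).inv_left
    have hx' : gg * L.j * gg⁻¹ = μ⁻¹ * w := by rw [hx, hw]; group
    rw [hx', show μ⁻¹ * w * (μ⁻¹ * w) = μ⁻¹ * (w * μ⁻¹) * w by group, ← hwμ.eq,
      show μ⁻¹ * (μ⁻¹ * w) * w = (μ * μ)⁻¹ * (w * w) by group, hsq] at hx2
    have hww : w * w = 1 := L.Bp_sq (mul_mem (mul_mem htB ⟨kN, B35_gens.2.2.2, rfl⟩) (pow_mem htB _))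
    rw [hww, mul_one, inv_eq_one] at hx2
    exact L.ne_one zN_spec.2.2.2.2.2.2.2.2.1 hx2
  · -- the square `ta`
    rw [hsq] at hx
    have hμi : μ⁻¹ = μ * (L.t * L.a) := by
      rw [inv_eq_iff_mul_eq_one, ← mul_assoc, hsq, hta]
    have hrta : (L.ι rN⁻¹ * (L.t * L.a) * L.ι rN)⁻¹ = L.t * (L.a * L.b) := by
      rw [← map_mul, ← map_mul, ← map_mul, ← map_mul, ← map_inv, ← map_mul]; exact L.ι_eq (by decide +kernel)
    rw [hrta, hμi] at hx
    set e'' := L.j * L.t ^ i.val * e with he''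
    have he''B : e'' ∈ L.Bp := mul_mem (mul_mem ⟨jN, B35_gens.2.1, rfl⟩ (pow_mem htB _)) heB
    have hxy : gg * L.j * gg⁻¹ = e'' * y := by
      rw [hx, hyμ]
      have hee : e * e = 1 := L.Bp_sq heB
      calc μ * (L.t * L.a) * (L.t * (L.a * L.b)) * L.k * L.t ^ i.val
          = μ * ((L.t * L.a * (L.t * L.a)) * (L.b * L.k)) * L.t ^ i.val := by group
        _ = μ * L.j * (L.b * L.t ^ i.val) := by
            rw [hta, one_mul, show L.b * L.k = L.j * L.b by rw [← map_mul, ← map_mul]; exact L.ι_eq (by decide +kernel)]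
            group
        _ = μ * (L.j * L.t ^ i.val) * L.b := by
            rw [(Commute.pow_right (show Commute L.b L.t by
              rw [commute_iff_eq, ← map_mul, ← map_mul]; exact L.ι_eq (by decide +kernel)) _).eq]
            group
        _ = e'' * (μ * e * L.b) := by
            have h1 : e'' * μ = μ * e'' := (L.comm_Bp hμCB he''B).symm.eq
            calc μ * (L.j * L.t ^ i.val) * L.b = μ * (L.j * L.t ^ i.val * (e * e)) * L.b := by rw [hee, mul_one]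
              _ = μ * e'' * (e * L.b) := by rw [he'']; group
              _ = e'' * μ * (e * L.b) := by rw [h1]
              _ = _ := by group
    rw [hxy] at hx2
    have hcy := twist_comm hy2 hx2 (L.Bp_sq he''B)
    have hcb : Commute e'' L.b := by
      have := hcy.map (MulAut.conj h).toMonoidHom
      simp only [MulEquiv.coe_toMonoidHom, MulAut.conj_apply] at this
      rwa [(L.comm_Bp hhCB he''B).eq, mul_inv_cancel_right, hy,
        show h * (h⁻¹ * L.b * h) * h⁻¹ = L.b by group] at this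
    have hback : ∀ n z : G, z = e'' * L.b → n * L.a * n⁻¹ = z →
        (gg⁻¹ * (h⁻¹ * n)) * L.a * (gg⁻¹ * (h⁻¹ * n))⁻¹ = L.j := by
      intro n z hz hn
      calc gg⁻¹ * (h⁻¹ * n) * L.a * (gg⁻¹ * (h⁻¹ * n))⁻¹ = gg⁻¹ * (h⁻¹ * (n * L.a * n⁻¹) * h) * gg := by group
        _ = gg⁻¹ * (h⁻¹ * (e'' * L.b) * h) * gg := by rw [hn, hz]
        _ = gg⁻¹ * (e'' * y) * gg := by
          rw [hy, show h⁻¹ * (e'' * L.b) * h = h⁻¹ * e'' * (L.b * h) by group,
            (L.comm_Bp (inv_mem hhCB) he''B).eq]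
          group
        _ = L.j := by rw [← hxy]; group
    have hfin : ∀ n : G, n * L.a * n⁻¹ = e'' * L.b → False := fun n hn => by
      have h' := hback n _ rfl hn
      refine L.a_ne_j (gg⁻¹ * (h⁻¹ * n))⁻¹ ?_
      rw [← h']; group
    have hab := conj_a_V (L := L) (y := L.a * L.b) (Or.inr rfl)
    have hb' := conj_a_V (L := L) (y := L.b) (Or.inl rfl)
    obtain ⟨nb, hnb⟩ := hb'
    obtain ⟨nab, hnab⟩ := hab
    rcases L.Bp_comm_b he''B hcb with h' | h' | h' | h'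
    · exact hfin nb (by rw [h', one_mul, hnb])
    · exact hfin nab (by rw [h', hnab])
    · refine hfin (μ * nb) ?_
      rw [h', ← hμb]
      rw [show μ * nb * L.a * (μ * nb)⁻¹ = μ * (nb * L.a * nb⁻¹) * μ⁻¹ by group, hnb]
    · refine hfin (μ * nab) ?_
      rw [h', show μ * nab * L.a * (μ * nab)⁻¹ = μ * (nab * L.a * nab⁻¹) * μ⁻¹ by group, hnab,
        conj_mul_eq (show μ * L.a * μ⁻¹ = L.a by rw [(L.mem_CB.1 hμCB).1.eq, mul_inv_cancel_right]) hμb,
        ← mul_assoc, hat]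

end Data

end CfsgLib.S8ThreeLocal
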