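import Cfsg.Agent.Lib.S8ThreeLocal.Thin

/-!
The shape of the alternating group of degree five is impossible.
-/

set_option autoImplicit false
set_option maxRecDepth 8000
set_option synthInstance.maxSize 1024

namespace CfsgLib.S8ThreeLocal

open Equiv Equiv.Perm CfsgLib.A8ThreeLocal CfsgLib.SelfCentThree

universe u

/-- A coordinate of a vector of the four-dimensional space over the field of two elements. -/
def bit4 (i : ℕ) (v : Fin 16) : Fin 2 := ⟨v.val / 2 ^ i % 2, Nat.mod_lt _ (by norm_num)⟩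

/-- The element of the known part belonging to the first three coordinates. -/
def mN (v : Fin 16) : N35 := aN ^ (bit4 0 v).val * jN ^ (bit4 1 v).val * tN ^ (bit4 2 v).val

/-- A scalar multiple. -/
def sel4 : Fin 2 → Fin 16 → Fin 16
  | 0, _ => 0
  | 1, f => f

/-- The linear map with given images of the four basis vectors. -/
def app4 (F : Fin 16 × Fin 16 × Fin 16 × Fin 16) (v : Fin 16) : Fin 16 :=
  sel4 (bit4 0 v) F.1 ^^^ sel4 (bit4 1 v) F.2.1 ^^^ sel4 (bit4 2 v) F.2.2.1 ^^^ sel4 (bit4 3 v) F.2.2.2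

theorem bit4_xor : ∀ x y : Fin 16, bit4 3 (x ^^^ y) = bit4 3 x + bit4 3 y := by decide +kernel

theorem mN_xor : ∀ x y : Fin 16, mN (x ^^^ y) = mN x * mN y := by decide +kernel

theorem mN_one : ∀ v : Fin 16, bit4 3 v = 0 → mN v = 1 → v = 0 := by decide +kernel

theorem xor_eq : ∀ x y : Fin 16, x ^^^ y = 0 → x = y := by decide +kernel

theorem xor_self4 : ∀ x : Fin 16, x ^^^ x = 0 := by decide +kernel

theorem bit4_small : ∀ e : Fin 16, e ∈ ([0, 1, 2, 3] : List (Fin 16)) → bit4 3 e = 0 := by decide +kernel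

theorem app4_words : ∀ v : Fin 16, ∀ e : Fin 16, e ∈ ([0, 1, 2, 3] : List (Fin 16)) →
    (v = e ∨ v = 4 ^^^ e ∨ v = 8 ^^^ e ∨ v = 12 ^^^ e) →
      (mN e = 1 ∨ mN e = aN ∨ mN e = jN ∨ mN e = kN) := by decide +kernel

/-- The action of `b`. -/
def mapB (e : Fin 16) : Fin 16 × Fin 16 × Fin 16 × Fin 16 := (1, 3, 4, 12 ^^^ e)
/-- The action of the element of order three. -/
def mapC (e₀ : Fin 16) : Fin 16 × Fin 16 × Fin 16 × Fin 16 := (1, 2, 8, 12 ^^^ e₀)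
/-- The action of `σ` in the first case. -/
def mapSA (s : Fin 16) : Fin 16 × Fin 16 × Fin 16 × Fin 16 := (6, 2, 3, s)
/-- The action of `σ` in the second case. -/
def mapSB (s : Fin 16) : Fin 16 × Fin 16 × Fin 16 × Fin 16 := (4, 2, 1, s)

/-- The words used. -/
def fiveWords : List (List (Fin 3)) :=
  [[0, 1, 0], [2, 0, 2, 0, 2, 0], [2, 1, 2, 1, 1, 2], [2, 1, 1, 2, 1, 2], [1, 0, 2, 1], [1, 2, 0, 1], [1, 2, 1]]

/-- The map of a word. -/
def wordMap (B C S : Fin 16 × Fin 16 × Fin 16 × Fin 16) (w : List (Fin 3)) (v : Fin 16) : Fin 16 :=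
  w.foldr (fun i x => app4 (![B, C, S] i) x) v

/-- The first kind of contradiction given by a word. -/
def badStab (C : Fin 16 × Fin 16 × Fin 16 × Fin 16) (h : Fin 16 → Fin 16) : Prop :=
  h 1 = 1 ∧ h 2 = 2 ∧ ¬ (h 4 = 4 ∧ h 8 = 8) ∧ ¬ (h 4 = app4 C 4 ∧ h 8 = app4 C 8) ∧
    ¬ (h 4 = app4 C (app4 C 4) ∧ h 8 = app4 C (app4 C 8))

/-- The second kind of contradiction given by a word. -/
def badType (at' jt : List (Fin 16)) (h : Fin 16 → Fin 16) : Prop :=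
  (∃ v ∈ at', h v ∈ jt) ∨ ∃ v ∈ jt, h v ∈ at'

/-- Some word gives a contradiction. -/
def someBad (at' jt : List (Fin 16)) (B C S : Fin 16 × Fin 16 × Fin 16 × Fin 16) : Bool :=
  fiveWords.any fun w =>
    let h := wordMap B C S w
    decide (h 1 = 1 ∧ h 2 = 2 ∧ ¬ (h 4 = 4 ∧ h 8 = 8) ∧ ¬ (h 4 = app4 C 4 ∧ h 8 = app4 C 8) ∧
      ¬ (h 4 = app4 C (app4 C 4) ∧ h 8 = app4 C (app4 C 8))) ||
    (at'.any (fun v => jt.contains (h v)) || jt.any (fun v => at'.contains (h v)))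

theorem finite_A : ∀ e₀ ∈ ([0, 1, 2, 3] : List (Fin 16)), ∀ e ∈ ([0, 1] : List (Fin 16)), ∀ s : Fin 16,
    app4 (mapSA s) s = 8 → (e₀ = 1 ∧ e = 1 ∧ s = 13) ∨
      someBad [1, 6, 7] [2, 3, 4] (mapB e) (mapC e₀) (mapSA s) = true := by decide +kernel

theorem finite_B : ∀ e₀ ∈ ([0, 1, 2, 3] : List (Fin 16)), ∀ e ∈ ([0, 1] : List (Fin 16)), ∀ s : Fin 16,
    app4 (mapSB s) s = 8 → (e₀ = 1 ∧ e = 1 ∧ s = 13) ∨
      someBad [1, 4] [2, 3, 6, 7] (mapB e) (mapC e₀) (mapSB s) = true := by decide +kernel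

theorem exception_A : (∀ v : Fin 16, app4 (mapB 1) (app4 (mapSA 13) (app4 (mapB 1) (app4 (mapSA 13)
    (app4 (mapB 1) (app4 (mapSA 13) v))))) = v) ∧
    ∀ v : Fin 16, app4 (mapSA 13) v = v → v ∈ ([0, 2, 5, 7] : List (Fin 16)) := by decide +kernel

theorem ZN_b : ∀ m : N35, (m = 1 ∨ m = aN ∨ m = jN ∨ m = kN) → m * (bN * m * bN) = 1 →
    m = 1 ∨ m = aN := by
  rintro m (rfl | rfl | rfl | rfl) <;> decide +kernel

theorem growth_line : ∀ x ∈ [aN, bN, aN * bN, tN], ∀ y ∈ [aN, bN, aN * bN, tN],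
    x * y ∈ [aN, bN, aN * bN, tN] → x ∈ [aN, bN, aN * bN] ∧ y ∈ [aN, bN, aN * bN] := by decide +kernel

theorem four_move : ∀ x ∈ [aN, bN, aN * bN], ∀ y ∈ [aN, bN, aN * bN], x ≠ y →
    ∃ n ∈ ([(1, 1), rN, rN⁻¹, (1, swap 2 3), (1, swap 3 4), (1, swap 2 4)] : List N35),
      n.2 0 = 0 ∧ n * aN * n⁻¹ = x ∧ n * bN * n⁻¹ = y := by decide +kernel

theorem T35_invol : ∀ p : Perm (Fin 3), ∀ q : Perm (Fin 5), p 2 = 2 → q 0 = 0 → q * a5 = a5 * q → p * p = 1 →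
    q * q = 1 → (p, q) ∈ ([(1, 1), aN, bN, aN * bN, jN, kN, tN, tN * aN, tN * bN, tN * (aN * bN), tN * jN,
      tN * kN] : List N35) := by decide +kernel

theorem norm_T35 : (∀ p : Perm (Fin 3), (p * (swap 0 1 : Perm (Fin 3)) * p⁻¹) 2 = 2 → p 2 = 2) ∧
    ∀ q : Perm (Fin 5), q 0 = 0 → (q * (swap 1 2 : Perm (Fin 5)) * q⁻¹) * a5 = a5 * (q * (swap 1 2 : Perm (Fin 5)) * q⁻¹) → q * a5 = a5 * q := by
  refine ⟨by decide, ?_⟩
  decide +kernel

theorem VN_five : ∀ m : N35, ((1, m.2) : N35) ∈ VN → m.2 0 = 0 := by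
  intro m h
  rcases h with h | h | h | h <;> have h' := congrArg Prod.snd h <;> simp only at h' <;> rw [h'] <;>
    decide +kernel

namespace Data

variable {G : Type u} [Group G] {L : Data G}

/-- The coordinates on the elementary subgroup of order sixteen. -/
def φ4 (F : L.Five) (v : Fin 16) : G := L.ι (mN v) * F.g ^ (bit4 3 v).val

theorem mN_mem (v : Fin 16) : mN v ∈ B35 := by
  obtain ⟨ht, hj, ha, -⟩ := B35_gens
  exact mul_mem (mul_mem (pow_mem ha _) (pow_mem hj _)) (pow_mem ht _)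

theorem φ4_basis (F : L.Five) : φ4 F 1 = L.a ∧ φ4 F 2 = L.j ∧ φ4 F 4 = L.t ∧ φ4 F 8 = F.g ∧ φ4 F 3 = L.k ∧
    φ4 F 6 = L.t * L.j ∧ φ4 F 0 = 1 ∧ φ4 F 5 = L.t * L.a ∧ φ4 F 7 = L.t * L.k := by
  have h : ∀ v : Fin 16, ∀ m : N35, bit4 3 v = 0 → mN v = m → φ4 F v = L.ι m := by
    intro v m h1 h2
    rw [φ4, h1, h2]
    simp
  refine ⟨h 1 _ rfl (by decide +kernel), h 2 _ rfl (by decide +kernel), h 4 _ rfl (by decide +kernel), ?_,
    h 3 _ rfl (by decide +kernel), ?_, ?_, ?_, ?_⟩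
  · rw [φ4, show bit4 3 8 = 1 from rfl, show mN 8 = 1 by decide +kernel, map_one, one_mul]
    exact pow_one _
  · rw [← map_mul]; exact h 6 _ rfl (by decide +kernel)
  · rw [← map_one L.ι]; exact h 0 _ rfl (by decide +kernel)
  · rw [← map_mul]; exact h 5 _ rfl (by decide +kernel)
  · rw [← map_mul]; exact h 7 _ rfl (by decide +kernel)

theorem φ4_CB (F : L.Five) (v : Fin 16) : φ4 F v ∈ L.CB :=
  mul_mem (L.Bp_le_CB ⟨_, mN_mem v, rfl⟩) (pow_mem F.hg _)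

theorem φ4_xor (F : L.Five) (x y : Fin 16) : φ4 F (x ^^^ y) = φ4 F x * φ4 F y := by
  have hc : Commute (F.g ^ (bit4 3 x).val) (L.ι (mN y)) :=
    (L.comm_Bp F.hg ⟨_, mN_mem y, rfl⟩).pow_left _
  rw [φ4, φ4, φ4, mN_xor, map_mul, bit4_xor,
    show L.ι (mN x) * F.g ^ (bit4 3 x).val * (L.ι (mN y) * F.g ^ (bit4 3 y).val) =
      L.ι (mN x) * (F.g ^ (bit4 3 x).val * L.ι (mN y)) * F.g ^ (bit4 3 y).val by group, hc.eq]
  generalize bit4 3 x = i
  generalize bit4 3 y = l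
  fin_cases i <;> fin_cases l <;> simp [F.hg2, mul_assoc]

theorem φ4_comm (F : L.Five) (x y : Fin 16) : Commute (φ4 F x) (φ4 F y) := by
  rw [commute_iff_eq, ← φ4_xor, ← φ4_xor, Fin.xor_comm]

theorem φ4_inj (F : L.Five) : Function.Injective (φ4 F) := by
  intro x y h
  refine xor_eq x y ?_
  have h0 : φ4 F (x ^^^ y) = 1 := by
    rw [φ4_xor, h, ← φ4_xor, xor_self4, (φ4_basis F).2.2.2.2.2.2.1]
  generalize x ^^^ y = v at h0 ⊢
  rw [φ4] at h0
  rcases Fin.exists_fin_two.1 ⟨bit4 3 v, rfl⟩ with hv | hv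
  · rw [hv] at h0
    refine mN_one v hv (L.inj ?_)
    rw [map_one]
    simpa using h0
  · exfalso
    rw [hv] at h0
    refine F.hgB ?_
    rw [show F.g = (L.ι (mN v))⁻¹ * (L.ι (mN v) * F.g ^ (1 : Fin 2).val) by simp, h0, mul_one]
    exact inv_mem ⟨_, mN_mem v, rfl⟩

theorem φ4_surj (F : L.Five) {x : G} (hx : x ∈ L.CB) : ∃ v, φ4 F v = x ∧
    ∃ e ∈ ([0, 1, 2, 3] : List (Fin 16)), v = e ∨ v = 4 ^^^ e ∨ v = 8 ^^^ e ∨ v = 12 ^^^ e := by
  obtain ⟨-, -, h4, h8, -, -, -, -, -⟩ := φ4_basis F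
  obtain ⟨m, hm, h⟩ := F.cover x hx
  obtain ⟨e, he, hem⟩ : ∃ e ∈ ([0, 1, 2, 3] : List (Fin 16)), φ4 F e = L.ι m := by
    obtain ⟨h1, h2, -, -, h3, -, h0, -, -⟩ := φ4_basis F
    rcases hm with rfl | rfl | rfl | rfl
    · exact ⟨0, by simp, h0.trans (map_one _).symm⟩
    · exact ⟨1, by simp, h1⟩
    · exact ⟨2, by simp, h2⟩
    · exact ⟨3, by simp, h3⟩
  rcases h with rfl | rfl | rfl | rfl
  · exact ⟨e, hem, e, he, Or.inl rfl⟩
  · exact ⟨4 ^^^ e, by rw [φ4_xor, h4, hem], e, he, Or.inr (Or.inl rfl)⟩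
  · exact ⟨8 ^^^ e, by rw [φ4_xor, h8, hem], e, he, Or.inr (Or.inr (Or.inl rfl))⟩
  · exact ⟨12 ^^^ e, by
      rw [φ4_xor, show (12 : Fin 16) = 4 ^^^ 8 by decide +kernel, φ4_xor, h4, h8, hem], e, he,
      Or.inr (Or.inr (Or.inr rfl))⟩

/-- An element realises a linear map. -/
def Realises (F : L.Five) (y : G) (f : Fin 16 → Fin 16) : Prop := ∀ v, y * φ4 F v * y⁻¹ = φ4 F (f v)

theorem realises_of (F : L.Five) {y : G} {f : Fin 16 × Fin 16 × Fin 16 × Fin 16}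
    (h1 : y * L.a * y⁻¹ = φ4 F f.1) (h2 : y * L.j * y⁻¹ = φ4 F f.2.1) (h3 : y * L.t * y⁻¹ = φ4 F f.2.2.1)
    (h4 : y * F.g * y⁻¹ = φ4 F f.2.2.2) : Realises F y (app4 f) := by
  have hsel : ∀ (i : Fin 2) (x : Fin 16), φ4 F (sel4 i x) = φ4 F x ^ i.val := by
    intro i x
    fin_cases i
    · exact (φ4_basis F).2.2.2.2.2.2.1.trans (pow_zero _).symm
    · exact (pow_one _).symm
  intro v
  rw [app4, φ4_xor, φ4_xor, φ4_xor, hsel, hsel, hsel, hsel, ← h1, ← h2, ← h3, ← h4, conj_pow, conj_pow, conj_pow,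
    conj_pow, φ4, mN, map_mul, map_mul, map_pow, map_pow, map_pow]
  group

theorem realises_word (F : L.Five) {fb fc fs : Fin 16 × Fin 16 × Fin 16 × Fin 16} {c : G}
    (hb : Realises F L.b (app4 fb)) (hc : Realises F c (app4 fc)) (hs : Realises F L.σ (app4 fs))
    (w : List (Fin 3)) : Realises F (evalW ![L.b, c, L.σ] w) (wordMap fb fc fs w) := by
  induction w with
  | nil => intro v; simp [evalW, wordMap]
  | cons i w ih =>
    intro v
    have e : evalW ![L.b, c, L.σ] (i :: w) = ![L.b, c, L.σ] i * evalW ![L.b, c, L.σ] w := by simp [evalW]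
    rw [e, show ![L.b, c, L.σ] i * evalW ![L.b, c, L.σ] w * φ4 F v * (![L.b, c, L.σ] i * evalW ![L.b, c, L.σ] w)⁻¹ =
      ![L.b, c, L.σ] i * (evalW ![L.b, c, L.σ] w * φ4 F v * (evalW ![L.b, c, L.σ] w)⁻¹) * (![L.b, c, L.σ] i)⁻¹
      by group, ih v]
    fin_cases i
    exacts [hb _, hc _, hs _]

variable [Finite G]

/-- No word gives a contradiction. -/
theorem word_false (F : L.Five) {e₀ e : Fin 16} {S : Fin 16 × Fin 16 × Fin 16 × Fin 16} {at' jt : List (Fin 16)}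
    (hat : ∀ v ∈ at', L.AT (φ4 F v)) (hjt : ∀ v ∈ jt, ¬ L.AT (φ4 F v))
    (hb : Realises F L.b (app4 (mapB e))) (hc : Realises F F.c (app4 (mapC e₀))) (hs : Realises F L.σ (app4 S))
    (h : someBad at' jt (mapB e) (mapC e₀) S = true) : False := by
  obtain ⟨w, -, hw⟩ := List.any_eq_true.1 h
  set y := evalW ![L.b, F.c, L.σ] w with hy
  set f := wordMap (mapB e) (mapC e₀) S w with hf
  have hR : Realises F y f := realises_word F hb hc hs w
  simp only [Bool.or_eq_true, decide_eq_true_eq, List.any_eq_true, List.contains_iff_mem] at hw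
  obtain ⟨h1, h2, h4, h8, -, -, h0, -, -⟩ := φ4_basis F
  rcases hw with ⟨ha, hj, n0, n1, n2⟩ | ⟨v, hv, hv'⟩ | ⟨v, hv, hv'⟩
  · -- the word fixes `a` and `j`
    have hyL : y ∈ L.La := L.mem_La.2
      ⟨mul_inv_eq_iff_eq_mul.1 (by have := hR 1; rwa [ha, h1] at this),
        mul_inv_eq_iff_eq_mul.1 (by have := hR 2; rwa [hj, h2] at this)⟩
    have key : ∀ k : ℕ, (∃ m ∈ ZN, (F.c ^ k)⁻¹ * (y * L.t * y⁻¹) * F.c ^ k = L.t * L.ι m) →
        ∀ v, φ4 F (f v) = F.c ^ k * φ4 F v * (F.c ^ k)⁻¹ := by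
      intro k hk v
      have hu : (F.c ^ k)⁻¹ * y ∈ L.CB := F.fix _ (mul_mem (inv_mem (pow_mem F.hc k)) hyL) (by
        obtain ⟨m, hm, e'⟩ := hk
        exact ⟨m, hm, by rw [← e']; group⟩)
      obtain ⟨u, hu', -⟩ := φ4_surj F hu
      rw [← hR v, show y = F.c ^ k * φ4 F u by rw [hu']; group,
        show F.c ^ k * φ4 F u * φ4 F v * (F.c ^ k * φ4 F u)⁻¹ =
          F.c ^ k * (φ4 F u * φ4 F v * (φ4 F u)⁻¹) * (F.c ^ k)⁻¹ by group, (φ4_comm F u v).eq,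
        mul_inv_cancel_right]
    have hC : ∀ v, φ4 F (app4 (mapC e₀) v) = F.c * φ4 F v * F.c⁻¹ := fun v => (hc v).symm
    obtain ⟨v, hvt, e', he', hv'⟩ := φ4_surj F (x := y * L.t * y⁻¹) (by
      have := hR 4
      rw [h4] at this
      rw [this]
      exact φ4_CB F _)
    obtain ⟨m, hm, hme⟩ : ∃ m ∈ ZN, φ4 F e' = L.ι m := by
      refine ⟨mN e', app4_words v e' he' hv', ?_⟩
      rw [φ4, bit4_small e' he']
      simp
    have hct := F.hct
    rcases hv' with rfl | rfl | rfl | rfl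
    · -- impossible
      have e1 : L.t = y⁻¹ * L.ι m * y := by rw [← hme, hvt]; group
      rw [mul_assoc, ← (L.comm_Z hyL ⟨m, hm, rfl⟩).eq, inv_mul_cancel_left] at e1
      exact absurd ((L.inj e1).symm) (by rcases hm with rfl | rfl | rfl | rfl <;> decide +kernel)
    · rw [φ4_xor, h4, hme] at hvt
      have hfix := key 0 ⟨m, hm, by simpa using hvt.symm⟩
      exact n0 ⟨φ4_inj F (by simpa using hfix 4), φ4_inj F (by simpa using hfix 8)⟩
    · rw [φ4_xor, h8, hme] at hvt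
      have hfix := key 1 ⟨m, hm, by
        rw [pow_one, ← hvt, ← hct, show F.c⁻¹ * (F.c * L.t * F.c⁻¹ * L.ι m) * F.c = L.t * (F.c⁻¹ * L.ι m * F.c)
          by group, mul_assoc F.c⁻¹, ← (L.comm_Z F.hc ⟨m, hm, rfl⟩).eq, inv_mul_cancel_left]⟩
      refine n1 ⟨φ4_inj F ?_, φ4_inj F ?_⟩ <;> rw [hfix, hC, pow_one]
    · rw [φ4_xor, show (12 : Fin 16) = 4 ^^^ 8 by decide +kernel, φ4_xor, h4, h8, hme] at hvt
      have hfix := key 2 ⟨(F.e₀)⁻¹ * m, mul_mem (inv_mem F.he₀) hm, by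
        have hz : (F.c ^ 2)⁻¹ * L.ι ((F.e₀)⁻¹ * m) * F.c ^ 2 = L.ι ((F.e₀)⁻¹ * m) := by
          rw [mul_assoc, ← (L.comm_Z (pow_mem F.hc 2) ⟨_, mul_mem (inv_mem F.he₀) hm, rfl⟩).eq,
            inv_mul_cancel_left]
        have htg : L.t * F.g = F.c ^ 2 * L.t * (F.c ^ 2)⁻¹ * (L.ι F.e₀)⁻¹ := by
          rw [eq_mul_inv_iff_mul_eq, ← F.hcg, ← hct, pow_two]; group
        rw [← hvt, htg, mul_assoc _ (L.ι F.e₀)⁻¹, ← map_inv, ← map_mul,
          show (F.c ^ 2)⁻¹ * (F.c ^ 2 * L.t * (F.c ^ 2)⁻¹ * L.ι ((F.e₀)⁻¹ * m)) * F.c ^ 2 =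
            L.t * ((F.c ^ 2)⁻¹ * L.ι ((F.e₀)⁻¹ * m) * F.c ^ 2) by group, hz]⟩
      refine n2 ⟨φ4_inj F ?_, φ4_inj F ?_⟩ <;>
        rw [hfix, hC, hC, pow_two, mul_inv_rev, mul_assoc F.c F.c] <;> group
  · exact hjt _ hv' (hR v ▸ (hat v hv).conj y)
  · refine hjt v hv ?_
    have := (hat _ hv').conj y⁻¹
    rw [← hR v] at this
    simpa [mul_assoc] using this

theorem five_b (hK : L.SmallK) (F : L.Five) : ∃ e ∈ ([0, 1] : List (Fin 16)), Realises F L.b (app4 (mapB e)) := by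
  obtain ⟨h1, h2, h4, h8, h3, -, h0, -, -⟩ := φ4_basis F
  have htB : L.t ∈ L.Bp := ⟨tN, B35_gens.1, rfl⟩
  have hbb : ∀ x : G, L.b * (L.b * x * L.b) * L.b = x := fun x => by
    calc L.b * (L.b * x * L.b) * L.b = L.b * L.b * x * (L.b * L.b) := by group
      _ = x := by rw [L.b_sq, one_mul, mul_one]
  obtain ⟨m, hm, h⟩ := F.cover _ (L.b_CB F.hg)
  have hmB : L.ι m ∈ L.Bp := L.Zp_le_Bp ⟨m, hm, rfl⟩
  have hout : L.b * F.g * L.b ∉ L.Bp := fun e => F.hgB (by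
    have := b_normB _ e
    rwa [hbb] at this)
  rcases h with h | h | h | h
  · exact absurd (h ▸ hmB) hout
  · exact absurd (h ▸ mul_mem htB hmB) hout
  · exfalso
    obtain ⟨n, hn, hn'⟩ := fix_b hK F.hg.1 (by rw [h, inv_mul_cancel_left]; exact ⟨m, hm, rfl⟩)
    exact F.hgB (hn ▸ coord_CB (hn ▸ F.hg) hn')
  · have hv : m * (bN * m * bN) = 1 := L.inj (by
      have hgt : Commute F.g L.t := L.comm_Bp F.hg htB
      have htt := L.Bp_sq htB
      have e : F.g = F.g * (L.ι m * L.ι (bN * m * bN)) := by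
        conv_lhs => rw [← hbb F.g, h]
        rw [map_mul, map_mul,
          show L.b * (L.t * F.g * L.ι m) * L.b =
            L.b * L.t * L.b⁻¹ * (L.b * F.g * L.b⁻¹) * (L.b * L.ι m * L.b) by group, L.b_inv, L.btb, h,
          show L.t * (L.t * F.g * L.ι m) * (L.b * L.ι m * L.b) =
            L.t * L.t * F.g * (L.ι m * (L.b * L.ι m * L.b)) by group, htt, one_mul]
      rw [map_mul, map_one]
      exact left_eq_mul.1 e)
    obtain ⟨e, he, hem⟩ : ∃ e ∈ ([0, 1] : List (Fin 16)), φ4 F e = L.ι m := by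
      rcases ZN_b m hm hv with rfl | rfl
      exacts [⟨0, by simp, h0.trans (map_one _).symm⟩, ⟨1, by simp, h1⟩]
    refine ⟨e, he, realises_of F ?_ ?_ ?_ ?_⟩ <;> simp only [mapB] <;> rw [L.b_inv]
    · rw [L.bab, h1]
    · rw [L.bjb, h3]
    · rw [L.btb, h4]
    · rw [φ4_xor, show (12 : Fin 16) = 4 ^^^ 8 by decide +kernel, φ4_xor, h4, h8, hem, h]

theorem five_c (F : L.Five) : ∃ e₀ ∈ ([0, 1, 2, 3] : List (Fin 16)), Realises F F.c (app4 (mapC e₀)) := by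
  obtain ⟨h1, h2, h4, h8, h3, -, h0, -, -⟩ := φ4_basis F
  obtain ⟨e, he, hem⟩ : ∃ e ∈ ([0, 1, 2, 3] : List (Fin 16)), φ4 F e = L.ι F.e₀ := by
    rcases F.he₀ with h | h | h | h <;> rw [h]
    exacts [⟨0, by simp, h0.trans (map_one _).symm⟩, ⟨1, by simp, h1⟩, ⟨2, by simp, h2⟩, ⟨3, by simp, h3⟩]
  obtain ⟨ca, cj⟩ := L.mem_La.1 F.hc
  refine ⟨e, he, realises_of F ?_ ?_ ?_ ?_⟩ <;> simp only [mapC]
  · rw [ca.eq, mul_inv_cancel_right, h1]
  · rw [cj.eq, mul_inv_cancel_right, h2]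
  · rw [F.hct, h8]
  · rw [F.hcg, φ4_xor, show (12 : Fin 16) = 4 ^^^ 8 by decide +kernel, φ4_xor, h4, h8, hem]

theorem five_σ (F : L.Five) {x y : Fin 16} (hx : L.σ * L.a * L.σ = φ4 F x) (hy : L.σ * L.t * L.σ = φ4 F y)
    (hCB : ∀ u : G, Commute u (φ4 F x) → Commute u L.j → Commute u (φ4 F y) → u ∈ L.CB) :
    ∃ s, Realises F L.σ (app4 (x, 2, y, s)) ∧ app4 (x, 2, y, s) s = 8 := by
  obtain ⟨-, h2, -, h8, -, -, -, -, -⟩ := φ4_basis F
  obtain ⟨ga, gj, gt⟩ := L.mem_CB.1 F.hg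
  have conjσ : ∀ u v : G, Commute u v → Commute (L.σ * u * L.σ) (L.σ * v * L.σ) := fun u v h => by
    rw [commute_iff_eq, ← σ_mul, ← σ_mul, h.eq]
  obtain ⟨s, hs, -⟩ := φ4_surj F (hCB (L.σ * F.g * L.σ) (hx ▸ conjσ _ _ ga)
    (by have := conjσ _ _ gj; rwa [L.σ_j] at this) (hy ▸ conjσ _ _ gt))
  have hR : Realises F L.σ (app4 (x, 2, y, s)) :=
    realises_of F (by rw [L.σ_inv, hx]) (by rw [L.σ_inv, L.σ_j, h2]) (by rw [L.σ_inv, hy])
      (by rw [L.σ_inv, hs])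
  refine ⟨s, hR, φ4_inj F ?_⟩
  rw [← hR s, hs, L.σ_inv, L.σ_σ, h8]

theorem five_false_A (hA : L.σ * L.t * L.σ = L.k) (hK : L.SmallK) (F : L.Five) : False := by
  obtain ⟨h1, h2, h4, h8, h3, h6, h0, h5, h7⟩ := φ4_basis F
  obtain ⟨hk, ha, -, -, -⟩ := caseA_maps hA
  obtain ⟨e, he, hb⟩ := five_b hK F
  obtain ⟨e₀, he₀, hc⟩ := five_c F
  obtain ⟨atj, atk⟩ := AT_tj_A hA
  obtain ⟨s, hs, hss⟩ := five_σ F (x := 6) (y := 3) (ha.trans h6.symm) (hA.trans h3.symm) (fun u u1 u2 u3 => by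
    rw [h6] at u1; rw [h3] at u3
    have ua : Commute u L.a := by
      rw [show L.a = L.k * L.j by rw [← map_mul]; exact L.ι_eq zN_spec.2.2.2.2.2.2.2.2.2.1]
      exact u3.mul_right u2
    have ut : Commute u L.t := by
      rw [show L.t = L.t * L.j * L.j by rw [mul_assoc, L.j_sq, mul_one]]
      exact u1.mul_right u2
    exact L.mem_CB.2 ⟨ua, u2, ut⟩)
  rcases finite_A e₀ he₀ e he s hss with ⟨rfl, rfl, rfl⟩ | h
  · -- the exception
    obtain ⟨hcube, hfix⟩ := exception_A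
    set n := L.b * L.σ with hn
    have hn1 : ∀ v, n * φ4 F v * n⁻¹ = φ4 F (app4 (mapB 1) (app4 (mapSA 13) v)) := by
      intro v
      rw [hn, show L.b * L.σ * φ4 F v * (L.b * L.σ)⁻¹ = L.b * (L.σ * φ4 F v * L.σ⁻¹) * L.b⁻¹ by group, hs v, hb]
      rfl
    have hn3 : ∀ v, n * (n * (n * φ4 F v * n⁻¹) * n⁻¹) * n⁻¹ = φ4 F v := by
      intro v
      rw [hn1, hn1, hn1, hcube]
    set w := n * n * n with hw
    have hwv : ∀ v, w * φ4 F v * w⁻¹ = φ4 F v := fun v => by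
      conv_rhs => rw [← hn3 v]
      rw [hw]; group
    have hwL : w ∈ L.La := L.mem_La.2 ⟨mul_inv_eq_iff_eq_mul.1 (h1 ▸ hwv 1), mul_inv_eq_iff_eq_mul.1 (h2 ▸ hwv 2)⟩
    have hwCB : w ∈ L.CB := F.fix w hwL ⟨1, one_mem _, by rw [map_one, mul_one, ← h4]; exact hwv 4⟩
    obtain ⟨v, hv, -⟩ := φ4_surj F hwCB
    have htw : w * L.σ = L.b * L.σ * L.b * L.σ * L.b := by
      rw [hw, hn, show L.b * L.σ * (L.b * L.σ) * (L.b * L.σ) * L.σ = L.b * L.σ * L.b * L.σ * L.b * (L.σ * L.σ) by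
        group, L.σ_sq, mul_one]
    have hAT : L.AT (w * L.σ) := by
      rw [htw]
      obtain ⟨n', hn'⟩ := conj_a_V (L := L) (y := L.b) (Or.inl rfl)
      have := (AT.sigma ⟨n', hn'⟩ : L.AT (L.σ * L.b * L.σ)).bconj
      rwa [← mul_assoc, ← mul_assoc] at this
    have h2' : w * L.σ * (w * L.σ) = 1 := by
      obtain ⟨q, hq⟩ := hAT
      rw [← hq, show q * L.a * q⁻¹ * (q * L.a * q⁻¹) = q * (L.a * L.a) * q⁻¹ by group, L.a_sq]
      group
    have hw2 : w * w = 1 := by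
      rw [← hv, ← φ4_xor, xor_self4, h0]
    have hvfix : app4 (mapSA 13) v = v := φ4_inj F (by
      rw [← show L.σ * φ4 F v * L.σ⁻¹ = φ4 F (app4 (mapSA 13) v) from hs v, hv, L.σ_inv]
      rw [show w * L.σ * (w * L.σ) = w * (L.σ * w * L.σ) by group] at h2'
      exact mul_left_cancel (h2'.trans hw2.symm))
    refine not_AT_twist hA ?_ (hv ▸ hAT)
    have hmem := hfix v hvfix
    simp only [List.mem_cons, List.not_mem_nil, or_false] at hmem
    rcases hmem with rfl | rfl | rfl | rfl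
    exacts [Or.inl h0, Or.inr (Or.inl h2), Or.inr (Or.inr (Or.inl h5)), Or.inr (Or.inr (Or.inr h7))]
  · refine word_false F ?_ ?_ hb hc hs h
    · intro v hv
      simp only [List.mem_cons, List.not_mem_nil, or_false] at hv
      rcases hv with rfl | rfl | rfl
      exacts [h1 ▸ AT_a, h6 ▸ atj, h7 ▸ atk]
    · intro v hv
      simp only [List.mem_cons, List.not_mem_nil, or_false] at hv
      rcases hv with rfl | rfl | rfl
      · rw [h2]; simpa using not_AT_j (L := L) 1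
      · rw [h3]; exact not_AT_k
      · rw [h4]
        intro hat
        exact not_AT_k (L := L) (hA ▸ hat.sigma)

theorem growth_false (hK : L.SmallK) (F : L.Five) (hta : ¬ L.AT (L.t * L.a)) (htA : ¬ L.AT (L.t * L.j))
    (htK : ¬ L.AT (L.t * L.k)) : False := by
  classical
  haveI := Fact.mk Nat.prime_two
  set T := T35.map L.ι with hT
  have hTc : Nat.card T = 16 := by rw [hT, Subgroup.card_map_of_injective L.inj, T35_card]
  have hTp : IsPGroup 2 T := IsPGroup.of_card (n := 4) (by rw [hTc]; norm_num)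
  obtain ⟨P, hTP⟩ := hTp.exists_le_sylow
  have hne : T ≠ P := by
    intro e
    let W : Subgroup G :=
      { carrier := Set.range (φ4 F)
        one_mem' := ⟨0, (φ4_basis F).2.2.2.2.2.2.1⟩
        mul_mem' := by rintro _ _ ⟨x, rfl⟩ ⟨y, rfl⟩; exact ⟨x ^^^ y, φ4_xor F x y⟩
        inv_mem' := by
          rintro _ ⟨x, rfl⟩
          refine ⟨x, (inv_eq_of_mul_eq_one_right ?_).symm⟩
          rw [← φ4_xor, xor_self4, (φ4_basis F).2.2.2.2.2.2.1] }
    have hW : Nat.card W = 16 := by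
      show Nat.card (Set.range (φ4 F)) = 16
      rw [Nat.card_range_of_injective (φ4_inj F), Nat.card_fin]
    obtain ⟨Q, hWQ⟩ := (IsPGroup.of_card (p := 2) (n := 4) (by rw [hW]; norm_num) : IsPGroup 2 W).exists_le_sylow
    obtain ⟨h, hh⟩ := MulAction.exists_smul_eq G Q P
    have hQc : Nat.card (Q : Subgroup G) = 16 := by
      rw [Q.card_eq_multiplicity, ← P.card_eq_multiplicity, ← e, hTc]
    have hWQ' := Subgroup.eq_of_le_of_card_ge hWQ (by rw [hW, hQc])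
    have hcomm : ∀ x ∈ T, ∀ y ∈ T, x * y = y * x := by
      intro x hx y hy
      rw [e, ← hh, Sylow.coe_subgroup_smul, ← hWQ'] at hx hy
      obtain ⟨_, ⟨a', rfl⟩, rfl⟩ := hx
      obtain ⟨_, ⟨b', rfl⟩, rfl⟩ := hy
      show MulAut.conj h (φ4 F a') * MulAut.conj h (φ4 F b') = MulAut.conj h (φ4 F b') * MulAut.conj h (φ4 F a')
      rw [← map_mul, ← map_mul, (φ4_comm F a' b').eq]
    have hmem : ∀ m : N35, m ∈ [aN, bN, jN, kN, tN] → L.ι m ∈ T := fun m hm => ⟨m, T35_mem m hm, rfl⟩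
    have := hcomm _ (hmem jN (by simp)) _ (hmem bN (by simp))
    rw [← map_mul, ← map_mul] at this
    exact absurd (L.inj this) (by decide +kernel)
  obtain ⟨g, hgP, hgT, hgn⟩ := exists_norm_step P.isPGroup' hTP hne
  have htt := L.sq_one zN_spec.2.2.2.2.2.2.2.1
  have hr : ∀ m n : N35, rN * m * rN⁻¹ = n → ¬ L.AT (L.ι m) → ¬ L.AT (L.ι n) := by
    intro m n e hm hn
    refine hm ?_
    have := hn.conj (L.ι rN)⁻¹
    rwa [← e, map_mul, map_mul, map_inv, show (L.ι rN)⁻¹ * (L.ι rN * L.ι m * (L.ι rN)⁻¹) * (L.ι rN)⁻¹⁻¹ = L.ι m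
      by group] at this
  have hta' : ¬ L.AT (L.ι (tN * aN)) := by rwa [map_mul]
  have htb : ¬ L.AT (L.ι (tN * bN)) := hr (tN * aN) _ (by decide +kernel) hta'
  have htab : ¬ L.AT (L.ι (tN * (aN * bN))) := hr (tN * bN) _ (by decide +kernel) htb
  have hcand : ∀ x ∈ T, L.AT x → ∃ m ∈ [aN, bN, aN * bN, tN], x = L.ι m := by
    rintro _ ⟨m, hm, rfl⟩ hat
    refine ⟨m, ?_, rfl⟩
    have hmm : m * m = 1 := L.inj (by
      obtain ⟨q, hq⟩ := hat
      rw [map_mul, map_one, ← hq, show q * L.a * q⁻¹ * (q * L.a * q⁻¹) = q * (L.a * L.a) * q⁻¹ by group, L.a_sq]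
      group)
    have := T35_invol m.1 m.2 hm.1 hm.2.1 hm.2.2 (congrArg Prod.fst hmm) (congrArg Prod.snd hmm)
    simp only [List.mem_cons, List.not_mem_nil, or_false, Prod.mk.eta] at this
    rcases this with rfl | rfl | rfl | rfl | rfl | rfl | rfl | rfl | rfl | rfl | rfl | rfl
    · obtain ⟨q, hq⟩ := hat
      rw [show ((1, 1) : N35) = 1 from rfl, map_one] at hq
      exact absurd (conj_eq_one_iff.1 hq) L.a_ne_one
    · simp
    · simp
    · simp
    · exact absurd (by simpa using hat) (not_AT_j (L := L) 1)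
    · exact absurd hat not_AT_k
    · simp
    · exact absurd hat hta'
    · exact absurd hat htb
    · exact absurd hat htab
    · exact absurd (by rwa [map_mul] at hat) htA
    · exact absurd (by rwa [map_mul] at hat) htK
  have haT : L.a ∈ T := ⟨aN, T35_mem _ (by simp), rfl⟩
  have hbT : L.b ∈ T := ⟨bN, T35_mem _ (by simp), rfl⟩
  obtain ⟨x, hx, ex⟩ := hcand _ (hgn _ haT) (AT_a.conj g)
  obtain ⟨y, hy, ey⟩ := hcand _ (hgn _ hbT) (AT.conj (conj_a_V (Or.inl rfl)) g)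
  obtain ⟨w, hw, ew⟩ := hcand _ (hgn _ (mul_mem haT hbT)) (AT.conj (conj_a_V (Or.inr rfl)) g)
  have hxy : x * y = w := L.inj (by rw [map_mul, ← ex, ← ey, ← ew]; group)
  obtain ⟨hx3, hy3⟩ := growth_line x hx y hy (hxy ▸ hw)
  have hne' : x ≠ y := by
    intro e
    rw [e, ← ey] at ex
    exact absurd (L.inj (mul_left_cancel (mul_right_cancel ex))) (by decide +kernel)
  obtain ⟨n, -, hn0, hna, hnb⟩ := four_move x hx3 y hy3 hne'
  have hc : ∀ q q' : N35, n * q * n⁻¹ = q' → g * L.ι q * g⁻¹ = L.ι q' →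
      Commute ((L.ι n)⁻¹ * g) (L.ι q) := by
    intro q q' e1 e2
    refine mul_inv_eq_iff_eq_mul.1 ?_
    rw [show (L.ι n)⁻¹ * g * L.ι q * ((L.ι n)⁻¹ * g)⁻¹ = (L.ι n)⁻¹ * (g * L.ι q * g⁻¹) * L.ι n by group, e2, ← e1,
      map_mul, map_mul, map_inv]
    group
  obtain ⟨m, hm, hmV⟩ := hK _ (hc aN x hna ex) (hc bN y hnb ey)
  have hgm : g = L.ι (n * m) := by rw [map_mul, ← hm, mul_inv_cancel_left]
  have hm0 : (n * m).2 0 = 0 := by rw [Prod.snd_mul, Equiv.Perm.mul_apply, VN_five m hmV, hn0]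
  have hnorm : ∀ q : N35, q ∈ [aN, bN, jN, kN, tN] → (n * m) * q * (n * m)⁻¹ ∈ T35 := by
    intro q hq
    obtain ⟨q', hq', e⟩ := hgn _ ⟨q, T35_mem q hq, rfl⟩
    have : q' = (n * m) * q * (n * m)⁻¹ := L.inj (by rw [e, hgm, map_mul (L.ι) _ _⁻¹, map_mul L.ι _ q, map_inv])
    exact this ▸ hq'
  refine hgT ?_
  rw [hgm]
  exact ⟨_, ⟨norm_T35.1 _ (hnorm tN (by simp)).1, hm0, norm_T35.2 _ hm0 (hnorm jN (by simp)).2.2⟩, rfl⟩

theorem five_false_B (hB : L.σ * L.t * L.σ = L.a) (hK : L.SmallK) (F : L.Five) : False := by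
  obtain ⟨h1, h2, h4, h8, h3, h6, h0, h5, h7⟩ := φ4_basis F
  obtain ⟨ha, hk, -⟩ := caseB_maps hB
  obtain ⟨e, he, hb⟩ := five_b hK F
  obtain ⟨e₀, he₀, hc⟩ := five_c F
  have att : L.AT L.t := by rw [← ha]; exact AT_a.sigma
  have ntj : ¬ L.AT (L.t * L.j) := fun h => by
    have := h.sigma
    rw [← hk, L.σ_σ] at this
    exact not_AT_k this
  have ntk : ¬ L.AT (L.t * L.k) := fun h => ntj (by
    rw [show L.t * L.j = L.b * (L.t * L.k) * L.b by
      rw [← map_mul, ← map_mul, ← map_mul, ← map_mul]; exact L.ι_eq (by decide +kernel)]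
    exact h.bconj)
  obtain ⟨s, hs, hss⟩ := five_σ F (x := 4) (y := 1) (ha.trans h4.symm) (hB.trans h1.symm) (fun u u1 u2 u3 => by
    rw [h4] at u1; rw [h1] at u3
    exact L.mem_CB.2 ⟨u3, u2, u1⟩)
  rcases finite_B e₀ he₀ e he s hss with ⟨rfl, rfl, rfl⟩ | h
  · -- the exception
    obtain ⟨gna, gnj, gnt⟩ := L.mem_CB.1 F.hg
    have hg13 : L.σ * F.g * L.σ = F.g * L.a * L.t := by
      have := hs 8
      rw [h8, L.σ_inv] at this
      rw [this, show app4 (4, 2, 1, 13) 8 = 8 ^^^ 1 ^^^ 4 by decide +kernel, φ4_xor, φ4_xor, h8, h1, h4]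
    have hATg : L.AT F.g := F.hct ▸ att.conj F.c
    set μ := F.g * L.j with hμ
    have hjB : L.j ∈ L.Bp := ⟨jN, B35_gens.2.1, rfl⟩
    have hμCB : μ ∈ L.CB := mul_mem F.hg (L.Bp_le_CB hjB)
    have hμ2 : μ * μ = 1 := by
      rw [hμ, show F.g * L.j * (F.g * L.j) = F.g * (L.j * F.g) * L.j by group, ← gnj.eq, ← mul_assoc, F.hg2,
        one_mul, L.j_sq]
    have hgbg : L.b * F.g * L.b = L.t * F.g * L.a := by
      have := hb 8
      rw [h8, L.b_inv] at this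
      rw [this, show app4 (mapB 1) 8 = 4 ^^^ 8 ^^^ 1 by decide +kernel, φ4_xor, φ4_xor, h4, h8, h1]
    have hbg : F.g * L.b * F.g = L.t * L.a * L.b := by
      have e : L.b * F.g = L.t * F.g * L.a * L.b := by rw [← hgbg, mul_assoc _ L.b L.b, L.b_sq, mul_one]
      rw [mul_assoc F.g L.b, e, ← mul_assoc, ← mul_assoc, ← mul_assoc, gnt.eq, mul_assoc L.t F.g F.g, F.hg2,
        mul_one]
    have hμb : μ * L.b * μ⁻¹ = L.t * L.b := by
      rw [inv_eq_of_mul_eq_one_right hμ2, hμ,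
        show F.g * L.j * L.b * (F.g * L.j) = F.g * (L.j * L.b) * F.g * L.j by group,
        show L.j * L.b = L.b * L.k by rw [← map_mul, ← map_mul]; exact L.ι_eq (by decide +kernel),
        show F.g * (L.b * L.k) * F.g * L.j = F.g * L.b * (L.k * F.g) * L.j by group,
        ← (L.comm_Bp F.hg ⟨kN, B35_gens.2.2.2, rfl⟩).eq,
        show F.g * L.b * (F.g * L.k) * L.j = F.g * L.b * F.g * (L.k * L.j) by group, hbg, ← map_mul, ← map_mul,
        ← map_mul, ← map_mul, ← map_mul]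
      exact L.ι_eq (by decide +kernel)
    obtain ⟨i, q, hx⟩ := x_conj hK (μ := μ) (L.mem_CB.1 hμCB).2.2 (L.mem_CB.1 hμCB).1 hμb (Or.inl (by
      rw [mul_assoc, L.comm_Bp hμCB ⟨kN, B35_gens.2.2.2, rfl⟩, ← mul_assoc, L.sq_one (by decide +kernel : kN * kN = 1),
        one_mul]))
    rw [hμ2, mul_one, ← map_mul, inv_mul_cancel, map_one, inv_one, mul_one, inv_eq_of_mul_eq_one_right hμ2, hμ,
      mul_assoc F.g L.j L.k, show L.j * L.k = L.a by rw [← map_mul]; exact L.ι_eq (by decide +kernel)] at hx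
    fin_cases i
    · have hx' : q * L.j * q⁻¹ = F.c * (L.t * L.a) * F.c⁻¹ := by
        rw [hx, conj_mul_eq F.hct (show F.c * L.a * F.c⁻¹ = L.a by
          rw [(L.mem_La.1 F.hc).1.eq, mul_inv_cancel_right])]
        simp
      refine growth_false hK F (fun hta => not_AT_j (L := L) q ?_) ntj ntk
      rw [hx']
      exact hta.conj F.c
    · refine not_AT_j (L := L) q ?_
      rw [hx]
      simp only [pow_one]
      rw [← hg13]
      exact hATg.sigma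
  · refine word_false F ?_ ?_ hb hc hs h
    · intro v hv
      simp only [List.mem_cons, List.not_mem_nil, or_false] at hv
      rcases hv with rfl | rfl
      exacts [h1 ▸ AT_a, h4 ▸ att]
    · intro v hv
      simp only [List.mem_cons, List.not_mem_nil, or_false] at hv
      rcases hv with rfl | rfl | rfl | rfl
      · rw [h2]; simpa using not_AT_j (L := L) 1
      · rw [h3]; exact not_AT_k
      · rw [h6]; exact ntj
      · rw [h7]; exact ntk

/-- The subgroup commuting with `a`, `b` and `r` is not small. -/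
theorem not_small : ¬ L.SmallX := by
  intro h
  have hK := L.smallK_of h
  rcases shapes hK with hT | ⟨⟨F⟩⟩ | hB
  · exact thin_false hK hT
  · rcases L.σ_t with hA | hB
    · exact five_false_A hA hK F
    · exact five_false_B hB hK F
  · exact big_false hK hB

end Data

end CfsgLib.S8ThreeLocal
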