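import Cfsg.Agent.Lib.SelfCentThree.Main

/-!
Facts about the symmetric group of degree three, the alternating group of degree five and `PSL(2,7)`
with a distinguished element of order three and an inverting involution.
-/

set_option autoImplicit false
set_option maxRecDepth 100000
set_option synthInstance.maxSize 2048

namespace CfsgLib.S8ThreeLocal

open Equiv Equiv.Perm CfsgLib.SelfCentThree

universe u v

/-- An element of order three, self-centralising, and an inverting involution. -/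
structure Pair {Q : Type u} [Group Q] (y t : Q) : Prop where
  /-- self-centralising of order three -/
  sc : SC3 y
  /-- an involution -/
  inv : t * t = 1
  /-- which inverts -/
  invert : t * y * t⁻¹ = y⁻¹

theorem Pair.map {Q : Type u} [Group Q] {R : Type v} [Group R] {y t : Q} (h : Pair y t) (e : Q ≃* R) :
    Pair (e y) (e t) where
  sc := ⟨(MulEquiv.orderOf_eq e y).trans h.sc.ord, fun w hw => by
    have hc : Commute y (e.symm w) := e.injective (by rw [map_mul, map_mul, e.apply_symm_apply]; exact hw.eq)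
    obtain ⟨k, hk⟩ := Subgroup.mem_zpowers_iff.1 (h.sc.cent _ hc)
    exact Subgroup.mem_zpowers_iff.2 ⟨k, by rw [← map_zpow, hk, e.apply_symm_apply]⟩⟩
  inv := by rw [← map_mul, h.inv, map_one]
  invert := by rw [← map_inv, ← map_mul, ← map_mul, h.invert, map_inv]

/-- Pairs in a group with a model can be moved to the model pair. -/
theorem Pair.normalise {Q : Type u} [Group Q] {R : Type v} [Group R] [Finite R] {y t : Q} (h : Pair y t) (e : Q ≃* R)
    (y₀ t₀ : R) (hy₀ : orderOf y₀ = 3)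
    (hinv : ∀ x : R, x * x = 1 → x * y₀ * x⁻¹ = y₀⁻¹ → ∃ k : Fin 3, y₀ ^ k.val * x * (y₀ ^ k.val)⁻¹ = t₀) :
    ∃ f : Q ≃* R, (f y = y₀ ∨ f y = y₀⁻¹) ∧ f t = t₀ := by
  have h' := h.map e
  obtain ⟨g, hg⟩ := h'.sc.conj_zpowers hy₀
  set f₁ := e.trans (MulAut.conj g) with hf₁
  have hy : f₁ y = y₀ ∨ f₁ y = y₀⁻¹ := by
    rcases hg with e' | e'
    · exact Or.inl e'.symm
    · right
      rw [hf₁, MulEquiv.trans_apply, MulAut.conj_apply, e', show (g * (e y)⁻¹ * g⁻¹)⁻¹ = g * e y * g⁻¹ by group]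
  have h'' := h.map f₁
  obtain ⟨k, hk⟩ := hinv (f₁ t) h''.inv (by
    rcases hy with e' | e'
    · rw [← e']; exact h''.invert
    · have := h''.invert
      rw [e', inv_inv] at this
      rw [← inv_inj, conj_inv, this, inv_inv])
  refine ⟨f₁.trans (MulAut.conj (y₀ ^ k.val)), ?_, ?_⟩
  · rcases hy with e' | e'
    · left; rw [MulEquiv.trans_apply, e', MulAut.conj_apply]; group
    · right; rw [MulEquiv.trans_apply, e', MulAut.conj_apply]; group
  · rw [MulEquiv.trans_apply, MulAut.conj_apply, hk]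

local notation "A5" => alternatingGroup (Fin 5)

/-- `(0 1 2)` -/
def yA : A5 := ⟨swap 0 2 * swap 0 1, Equiv.Perm.mem_alternatingGroup.2 (by decide)⟩
/-- `(1 2)(3 4)` -/
def tA : A5 := ⟨swap 1 2 * swap 3 4, Equiv.Perm.mem_alternatingGroup.2 (by decide)⟩
/-- `(1 3)(2 4)` -/
def pA : A5 := ⟨swap 1 3 * swap 2 4, Equiv.Perm.mem_alternatingGroup.2 (by decide)⟩

theorem yA_order : orderOf yA = 3 := by
  haveI := Fact.mk Nat.prime_three
  exact orderOf_eq_prime (by decide +kernel) (by decide +kernel)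

theorem a5_inv : ∀ x : A5, x * x = 1 → x * yA * x⁻¹ = yA⁻¹ →
    ∃ k : Fin 3, yA ^ k.val * x * (yA ^ k.val)⁻¹ = tA := by decide +kernel

theorem a5_roots : ∀ x : A5, x * tA = tA * x → x = 1 ∨ x = tA ∨ x = pA ∨ x = pA * tA := by decide +kernel

theorem a5_gen : ∀ q : A5, q ∈ ({yA * pA * tA, yA, pA, tA} : Finset A5) → q ^ 30 = 1 := by decide +kernel

theorem a5_orders : orderOf (yA * pA) = 5 ∧ orderOf pA = 2 ∧ orderOf tA = 2 := by
  haveI : Fact (Nat.Prime 5) := ⟨by norm_num⟩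
  haveI := Fact.mk Nat.prime_two
  exact ⟨orderOf_eq_prime (by decide +kernel) (by decide +kernel), orderOf_eq_prime (by decide +kernel) (by decide +kernel),
    orderOf_eq_prime (by decide +kernel) (by decide +kernel)⟩

theorem a5_facts : tA * pA = pA * tA ∧ pA ≠ 1 ∧ pA ≠ tA ∧ (∃ w, w * tA * w⁻¹ = pA) ∧
    (∃ w, w * tA * w⁻¹ = pA * tA) ∧ (∃ c, c ^ 3 = 1 ∧ c * tA * c⁻¹ = pA ∧ c * pA * c⁻¹ = pA * tA) ∧
    (∀ x : A5, x * tA * x⁻¹ = tA → x * pA * x⁻¹ ≠ pA * tA) := by decide +kernel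

/-- An element of order seven, and roots of the involution. -/
def yL : PSL27 := QuotientGroup.mk y7
/-- The model involution. -/
def tS : SL27 := ⟨!![0, 1; 6, 0], by decide⟩
/-- A square root of the involution. -/
def gS : SL27 := ⟨!![2, 2; 5, 2], by decide⟩
/-- A second involution. -/
def sS : SL27 := ⟨!![2, 3; 3, 5], by decide⟩
/-- A conjugating element. -/
def wS : SL27 := ⟨!![0, 2; 3, 1], by decide⟩
/-- A conjugating element. -/
def vS : SL27 := ⟨!![0, 3; 2, 1], by decide⟩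

theorem negOne_mk : (QuotientGroup.mk negOne : PSL27) = 1 := (QuotientGroup.eq_one_iff negOne).2 negOne_central

theorem center_cases : ∀ g : SL27, g * y7 = y7 * g → g * k7 = k7 * g → g = 1 ∨ g = negOne := by decide +kernel

theorem mk_iff (g h : SL27) : (QuotientGroup.mk g : PSL27) = QuotientGroup.mk h ↔ g = h ∨ g = negOne * h := by
  refine ⟨fun e => ?_, mk_eq⟩
  have hc := (QuotientGroup.eq (s := Subgroup.center SL27)).1 e
  rcases center_cases _ ((Subgroup.mem_center_iff.1 hc y7).symm) ((Subgroup.mem_center_iff.1 hc k7).symm) with h' | h'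
  · exact Or.inl (inv_mul_eq_one.1 h')
  · right
    rw [inv_mul_eq_iff_eq_mul] at h'
    rw [h', ← mul_assoc, show negOne * g = g * negOne from (Subgroup.mem_center_iff.1 negOne_central g).symm,
      mul_assoc, show negOne * negOne = 1 by decide +kernel, mul_one]

theorem yL_order : orderOf yL = 3 := by
  haveI := Fact.mk Nat.prime_three
  exact orderOf_eq_prime (mk_eq (b := 1) sl27_facts.1) (mk_ne sl27_facts.2.1)

theorem l27_inv_aux : ∀ x : SL27, (x * x = 1 ∨ x * x = negOne * 1) →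
    (x * y7 * x⁻¹ = y7⁻¹ ∨ x * y7 * x⁻¹ = negOne * y7⁻¹) →
    ∃ k : Fin 3, y7 ^ k.val * x * (y7 ^ k.val)⁻¹ = tS ∨ y7 ^ k.val * x * (y7 ^ k.val)⁻¹ = negOne * tS := by
  decide +kernel

theorem l27_root_aux : ∀ x : SL27, (x * x = tS ∨ x * x = negOne * tS) →
    (x = gS ∨ x = negOne * gS) ∨ (x = gS⁻¹ ∨ x = negOne * gS⁻¹) := by decide +kernel

theorem l27_facts_aux : (gS * gS = tS ∨ gS * gS = negOne * tS) ∧ (sS * tS = tS * sS ∨ sS * tS = negOne * (tS * sS)) ∧
    (sS * sS = 1 ∨ sS * sS = negOne * 1) ∧ (wS * tS * wS⁻¹ = sS ∨ wS * tS * wS⁻¹ = negOne * sS) ∧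
    (vS * tS * vS⁻¹ = sS * tS ∨ vS * tS * vS⁻¹ = negOne * (sS * tS)) ∧
    ((y7 * gS) ^ 7 = 1 ∨ (y7 * gS) ^ 7 = negOne * 1) ∧ ¬ (y7 * gS = 1 ∨ y7 * gS = negOne * 1) ∧
    ¬ (sS = 1 ∨ sS = negOne * 1) ∧ ¬ (sS = tS ∨ sS = negOne * tS) ∧ ¬ (sS = gS ∨ sS = negOne * gS) ∧
    ¬ (sS = gS⁻¹ ∨ sS = negOne * gS⁻¹) := by decide +kernel

theorem l27_inv : ∀ x : PSL27, x * x = 1 → x * yL * x⁻¹ = yL⁻¹ →
    ∃ k : Fin 3, yL ^ k.val * x * (yL ^ k.val)⁻¹ = QuotientGroup.mk tS := by
  intro q h1 h2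
  obtain ⟨x, rfl⟩ := QuotientGroup.mk_surjective q
  rw [yL, ← QuotientGroup.mk_inv, ← QuotientGroup.mk_inv, ← QuotientGroup.mk_mul, ← QuotientGroup.mk_mul, mk_iff] at h2
  rw [← QuotientGroup.mk_mul, ← QuotientGroup.mk_one, mk_iff] at h1
  obtain ⟨k, hk⟩ := l27_inv_aux x h1 h2
  refine ⟨k, ?_⟩
  rw [yL, ← QuotientGroup.mk_pow, ← QuotientGroup.mk_inv, ← QuotientGroup.mk_mul, ← QuotientGroup.mk_mul, mk_iff]
  exact hk

theorem l27_roots : ∀ x : PSL27, x * x = QuotientGroup.mk tS →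
    x = QuotientGroup.mk gS ∨ x = (QuotientGroup.mk gS)⁻¹ := by
  intro q h
  obtain ⟨x, rfl⟩ := QuotientGroup.mk_surjective q
  rw [← QuotientGroup.mk_mul, mk_iff] at h
  rw [← QuotientGroup.mk_inv, mk_iff, mk_iff]
  exact l27_root_aux x h

variable {Q : Type u} [Group Q]

/-- An automorphism of order three fixing both members of a pair is trivial on the symmetric group of degree three. -/
theorem s3_fix {y t : Q} (h : Pair y t) (hcard : Nat.card Q = 3 ∨ Nonempty (Q ≃* Perm (Fin 3))) (α : Q →* Q)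
    (hy : α y = y) (ht : α t = t) (x : Q) : α x = x := by
  haveI := Fact.mk Nat.prime_three
  rcases hcard with hcard | ⟨⟨e⟩⟩
  · haveI : Finite Q := Nat.finite_of_card_ne_zero (by rw [hcard]; norm_num)
    have htop : Subgroup.zpowers y = ⊤ := Subgroup.eq_top_of_card_eq _ (by rw [Nat.card_zpowers, h.sc.ord, hcard])
    obtain ⟨k, rfl⟩ := Subgroup.mem_zpowers_iff.1 (htop ▸ Subgroup.mem_top x : x ∈ Subgroup.zpowers y)
    rw [map_zpow, hy]
  · have h' := h.map e
    have key : ∀ a b w : Perm (Fin 3), a ^ 3 = 1 → a ≠ 1 → b * b = 1 → b * a * b⁻¹ = a⁻¹ →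
        ∃ i : Fin 3, ∃ l : Fin 2, w = a ^ i.val * b ^ l.val := by decide +kernel
    obtain ⟨i, l, hw⟩ := key (e y) (e t) (e x) (h'.sc.pow_three) h'.sc.ne_one h'.inv h'.invert
    have : x = y ^ i.val * t ^ l.val := e.injective (by rw [hw, map_mul, map_pow, map_pow])
    rw [this, map_mul, map_pow, map_pow, hy, ht]

theorem perm_two_fix {β : Type u} {f : β → β} (hf : Function.Injective f) {a b : β}
    (ha : f a = a ∨ f a = b) (hb : f b = a ∨ f b = b) (h3 : f (f (f a)) = a) : f a = a := by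
  rcases ha with e | e
  · exact e
  rcases hb with e' | e'
  · rw [e, e', e] at h3; exact e.trans h3
  · exact e.trans (hf (e.trans e'.symm)).symm

/-- An automorphism of order three fixing both members of a pair is trivial on the alternating group of degree five. -/
theorem a5_fix {y t : Q} (h : Pair y t) (hQ : Nonempty (Q ≃* A5)) (α : Q →* Q) (h3 : ∀ x, α (α (α x)) = x)
    (hy : α y = y) (ht : α t = t) (x : Q) : α x = x := by
  obtain ⟨e⟩ := hQ
  obtain ⟨f, hfy, hft⟩ := h.normalise e yA tA yA_order a5_inv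
  let β : A5 →* A5 := (f.toMonoidHom.comp α).comp f.symm.toMonoidHom
  have hβ3 : ∀ w, β (β (β w)) = w := fun w => by simp [β, h3]
  have hinj : Function.Injective β := fun v w e' => by rw [← hβ3 v, e', hβ3 w]
  have hβt : β tA = tA := by simp [β, ← hft, ht]
  have hβy : β yA = yA := by
    rcases hfy with e' | e'
    · simp [β, ← e', hy]
    · have : yA = f y⁻¹ := by rw [map_inv, e', inv_inv]
      simp [β, this, map_inv, hy]
  let F : Subgroup A5 := MonoidHom.eqLocus β (MonoidHom.id A5)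
  have hpt : ∀ w, w = pA ∨ w = pA * tA → β w = pA ∨ β w = pA * tA := by
    intro w hw
    have hwt : w * tA = tA * w ∧ w ≠ 1 ∧ w ≠ tA := by rcases hw with rfl | rfl <;> decide +kernel
    rcases a5_roots (β w) (by rw [← hβt, ← map_mul, ← map_mul, hwt.1]) with e' | e' | e' | e'
    · exact absurd (hinj (e'.trans (map_one β).symm)) hwt.2.1
    · exact absurd (hinj (e'.trans hβt.symm)) hwt.2.2
    · exact Or.inl e'
    · exact Or.inr e'
  have hp : pA ∈ F := perm_two_fix hinj (hpt _ (Or.inl rfl)) (hpt _ (Or.inr rfl)) (hβ3 _)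
  have hy' : yA ∈ F := hβy
  have hyp : yA * pA ∈ F := mul_mem hy' hp
  have ht' : tA ∈ F := hβt
  have h60 : Nat.card A5 = 60 := by rw [Nat.card_eq_fintype_card]; decide +kernel
  have hdvd : ∀ {w : A5}, w ∈ F → orderOf w ∣ Nat.card F := fun {w} hw =>
    Subgroup.orderOf_mk w hw ▸ orderOf_dvd_natCard _
  have h5 := hdvd hyp
  have h3' := hdvd hy'
  rw [a5_orders.1] at h5
  rw [yA_order] at h3'
  have h4 : 4 ∣ Nat.card F := by
    let V : Subgroup A5 :=
      { carrier := {w | w = 1 ∨ w = tA ∨ w = pA ∨ w = pA * tA}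
        one_mem' := Or.inl rfl
        inv_mem' := by rintro w (rfl | rfl | rfl | rfl) <;> simp only [Set.mem_setOf_eq] <;> decide +kernel
        mul_mem' := by
          rintro v w (rfl | rfl | rfl | rfl) (rfl | rfl | rfl | rfl) <;> simp only [Set.mem_setOf_eq] <;> decide +kernel }
    have hV : Nat.card V = 4 := by
      show Nat.card {w : A5 // w = 1 ∨ w = tA ∨ w = pA ∨ w = pA * tA} = 4
      rw [Nat.card_eq_fintype_card]; decide +kernel
    refine hV ▸ Subgroup.card_dvd_of_le ?_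
    rintro w (rfl | rfl | rfl | rfl)
    exacts [one_mem _, ht', hp, mul_mem hp ht']
  have htop : F = ⊤ := Subgroup.eq_top_of_card_eq _ (by
    refine le_antisymm (Subgroup.card_le_card_group F) (h60 ▸ Nat.le_of_dvd Nat.card_pos ?_)
    exact Nat.Coprime.mul_dvd_of_dvd_of_dvd (show Nat.Coprime 12 5 by norm_num)
      (Nat.Coprime.mul_dvd_of_dvd_of_dvd (show Nat.Coprime 4 3 by norm_num) h4 h3') h5)
  have hx : β (f x) = f x := (htop ▸ Subgroup.mem_top (f x) : f x ∈ F)
  simpa [β] using hx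

/-- An automorphism of order three fixing both members of a pair fixes an element of order seven of `PSL(2,7)`. -/
theorem l27_fix {y t : Q} (h : Pair y t) (hQ : Nonempty (Q ≃* PSL27)) (α : Q →* Q) (h3 : ∀ x, α (α (α x)) = x)
    (hy : α y = y) (ht : α t = t) : ∃ x, α x = x ∧ orderOf x = 7 := by
  obtain ⟨e⟩ := hQ
  obtain ⟨f, hfy, hft⟩ := h.normalise e yL (QuotientGroup.mk tS) yL_order l27_inv
  let β : PSL27 →* PSL27 := (f.toMonoidHom.comp α).comp f.symm.toMonoidHom
  have hβ3 : ∀ w, β (β (β w)) = w := fun w => by simp [β, h3]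
  have hinj : Function.Injective β := fun v w e' => by rw [← hβ3 v, e', hβ3 w]
  have hβt : β (QuotientGroup.mk tS) = QuotientGroup.mk tS := by simp [β, ← hft, ht]
  have hβy : β yL = yL := by
    rcases hfy with e' | e'
    · simp [β, ← e', hy]
    · have : yL = f y⁻¹ := by rw [map_inv, e', inv_inv]
      simp [β, this, map_inv, hy]
  obtain ⟨hg, -, -, -, -, h7, h71, -⟩ := l27_facts_aux
  set g : PSL27 := QuotientGroup.mk gS with hgdef
  have hgg : g * g = QuotientGroup.mk tS := by rw [hgdef, ← QuotientGroup.mk_mul]; exact mk_eq hg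
  have hroot : ∀ w, w * w = QuotientGroup.mk tS → β w = g ∨ β w = g⁻¹ := fun w hw =>
    l27_roots _ (by rw [← map_mul, hw, hβt])
  have hti : (QuotientGroup.mk tS : PSL27)⁻¹ = QuotientGroup.mk tS := by
    rw [← QuotientGroup.mk_inv]; exact mk_eq (by decide +kernel)
  have hg' : β g = g := perm_two_fix hinj (hroot _ hgg) (hroot _ (by rw [← mul_inv_rev, hgg, hti])) (hβ3 _)
  have hx : β (yL * g) = yL * g := by rw [map_mul, hβy, hg']
  refine ⟨f.symm (yL * g), ?_, ?_⟩
  · apply f.injective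
    rw [f.apply_symm_apply]
    simpa [β] using hx
  · haveI : Fact (Nat.Prime 7) := ⟨by norm_num⟩
    rw [MulEquiv.orderOf_eq, yL, hgdef, ← QuotientGroup.mk_mul]
    exact orderOf_eq_prime (by rw [← QuotientGroup.mk_pow, ← QuotientGroup.mk_one, mk_iff]; exact h7)
      (by rw [Ne, ← QuotientGroup.mk_one, mk_iff]; exact h71)

/-- The centraliser of the involution in `PSL(2,7)`. -/
theorem l27_cent {y t : Q} (h : Pair y t) (hQ : Nonempty (Q ≃* PSL27)) : ∃ g s w v : Q, g * g = t ∧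
    (∀ x, x * x = t → x = g ∨ x = g⁻¹) ∧ s * t = t * s ∧ s ≠ 1 ∧ s ≠ t ∧ s ≠ g ∧ s ≠ g⁻¹ ∧
    w * t * w⁻¹ = s ∧ v * t * v⁻¹ = s * t := by
  obtain ⟨e⟩ := hQ
  obtain ⟨f, -, hft⟩ := h.normalise e yL (QuotientGroup.mk tS) yL_order l27_inv
  obtain ⟨hg, hst, -, hw, hv, -, -, n1, nt, ng, ngi⟩ := l27_facts_aux
  have ht : t = f.symm (QuotientGroup.mk tS) := by rw [← hft, f.symm_apply_apply]
  refine ⟨f.symm (QuotientGroup.mk gS), f.symm (QuotientGroup.mk sS), f.symm (QuotientGroup.mk wS),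
    f.symm (QuotientGroup.mk vS), ?_, fun x hx => ?_, ?_, ?_, ?_, ?_, ?_, ?_, ?_⟩
  all_goals subst ht
  on_goal 2 =>
    obtain ⟨x, rfl⟩ := f.symm.surjective x
    rw [← map_mul, f.symm.injective.eq_iff] at hx
    rcases l27_roots x hx with e | e
    · exact Or.inl (congrArg f.symm e)
    · exact Or.inr ((congrArg f.symm e).trans (map_inv _ _))
  all_goals simp only [← map_mul, ← map_inv, ne_eq, EmbeddingLike.apply_eq_iff_eq, EmbeddingLike.map_eq_one_iff,
    ← QuotientGroup.mk_mul, ← QuotientGroup.mk_inv, mk_iff]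
  all_goals first
    | assumption
    | (rw [← QuotientGroup.mk_one, mk_iff]; assumption)

/-- The centraliser of the involution in the alternating group of degree five. -/
theorem a5_cent {y t : Q} (h : Pair y t) (hQ : Nonempty (Q ≃* A5)) : ∃ p w v c : Q, p ≠ 1 ∧ p ≠ t ∧
    p * t = t * p ∧ w * t * w⁻¹ = p ∧ v * t * v⁻¹ = p * t ∧ c ^ 3 = 1 ∧ c * t * c⁻¹ = p ∧ c * p * c⁻¹ = p * t ∧
    (∀ x, x * t = t * x → x = 1 ∨ x = t ∨ x = p ∨ x = p * t) ∧
    (∀ x, x * t * x⁻¹ = t → x * p * x⁻¹ ≠ p * t) := by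
  obtain ⟨e⟩ := hQ
  obtain ⟨f, -, hft⟩ := h.normalise e yA tA yA_order a5_inv
  obtain ⟨hcomm, hp1, hpt, ⟨w, hw⟩, ⟨v, hv⟩, ⟨c, hc, hct, hcp⟩, hno⟩ := a5_facts
  have ht : t = f.symm tA := by rw [← hft, f.symm_apply_apply]
  refine ⟨f.symm pA, f.symm w, f.symm v, f.symm c, ?_, ?_, ?_, ?_, ?_, ?_, ?_, ?_, fun x hx => ?_, fun x h1 h2 => ?_⟩
  all_goals subst ht
  iterate 8
    · first
        | (simp only [← map_mul, ← map_inv, ← map_pow, ne_eq, EmbeddingLike.apply_eq_iff_eq,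
            EmbeddingLike.map_eq_one_iff]; first | assumption | exact hcomm.symm)
  · obtain ⟨x, rfl⟩ := f.symm.surjective x
    simp only [← map_mul, ← map_inv, EmbeddingLike.apply_eq_iff_eq, EmbeddingLike.map_eq_one_iff] at hx ⊢
    exact a5_roots x hx
  · obtain ⟨x, rfl⟩ := f.symm.surjective x
    simp only [← map_mul, ← map_inv, EmbeddingLike.apply_eq_iff_eq] at h1 h2
    exact hno x h1 h2

end CfsgLib.S8ThreeLocal
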