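import Cfsg.Agent.Lib.S8ThreeLocal.Options
import Cfsg.Agent.Lib.S8ThreeLocal.SCFacts
import Cfsg.Agent.Lib.CoprimeGen
import Cfsg.Agent.Lib.A8ThreeLocal.Exclude

/-!
The centraliser of the distinguished four-group.
-/

set_option autoImplicit false
set_option maxRecDepth 8000
set_option synthInstance.maxSize 1024

namespace CfsgLib.S8ThreeLocal

open Equiv Equiv.Perm CfsgLib.A8ThreeLocal CfsgLib.SelfCentThree

universe u

/-- The four-group in the second factor. -/
def VN : Subgroup N35 where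
  carrier := {m | m = 1 ∨ m = aN ∨ m = bN ∨ m = aN * bN}
  one_mem' := Or.inl rfl
  inv_mem' := by rintro m (rfl | rfl | rfl | rfl) <;> simp only [Set.mem_setOf_eq] <;> decide +kernel
  mul_mem' := by
    rintro m n (rfl | rfl | rfl | rfl) (rfl | rfl | rfl | rfl) <;> simp only [Set.mem_setOf_eq] <;> decide +kernel

theorem VN_sq : ∀ m : N35, (m = 1 ∨ m = aN ∨ m = bN ∨ m = aN * bN) → m * m = 1 := by
  rintro m (rfl | rfl | rfl | rfl) <;> decide +kernel

theorem zr_table : ∀ i j k l : Fin 3,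
    (zN ^ i.val * rN ^ j.val) * (zN ^ k.val * rN ^ l.val) = zN ^ (i + k).val * rN ^ (j + l).val ∧
    (zN ^ i.val * rN ^ j.val)⁻¹ = zN ^ (-i).val * rN ^ (-j).val ∧ (zN ^ i.val * rN ^ j.val) ^ 3 = 1 := by
  decide +kernel

theorem zr_inj : ∀ x y : Fin 3 × Fin 3, zN ^ x.1.val * rN ^ x.2.val = zN ^ y.1.val * rN ^ y.2.val → x = y := by
  decide +kernel

theorem zr_diag : ∀ i j : Fin 3, i ≠ 0 → j ≠ 0 →
    (zN ^ i.val * rN ^ j.val = zN * rN ∨ zN ^ i.val * rN ^ j.val = (zN * rN)⁻¹) ∨
    (zN ^ i.val * rN ^ j.val = zN * rN⁻¹ ∨ zN ^ i.val * rN ^ j.val = (zN * rN⁻¹)⁻¹) := by decide +kernel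

theorem zr_line : (∀ i : Fin 3, i ≠ 0 → zN ^ i.val = zN ∨ zN ^ i.val = zN⁻¹) ∧
    (∀ j : Fin 3, j ≠ 0 → rN ^ j.val = rN ∨ rN ^ j.val = rN⁻¹) := by decide +kernel

theorem s3_core : ∀ w : Perm (Fin 3), (∀ g : Perm (Fin 3), g * w * g⁻¹ = 1 ∨ g * w * g⁻¹ = w) → w = 1 := by
  decide +kernel

/-- The three possible quotients have no normal subgroups of order prime to three. -/
theorem core_trivial {Q : Type u} [Group Q] [Finite Q]
    (hQ : Nat.card Q = 3 ∨ Nonempty (Q ≃* Perm (Fin 3)) ∨ Nonempty (Q ≃* alternatingGroup (Fin 5)))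
    (W : Subgroup Q) [W.Normal] (h3 : ¬ 3 ∣ Nat.card W) : W = ⊥ := by
  rcases hQ with hc | ⟨⟨e⟩⟩ | ⟨⟨e⟩⟩
  · have h := hc ▸ Subgroup.card_subgroup_dvd_card W
    rcases (Nat.dvd_prime Nat.prime_three).1 h with e | e
    · exact Subgroup.eq_bot_of_card_eq W e
    · exact absurd (by rw [e]) h3
  · haveI := Fact.mk Nat.prime_two
    have h6 : Nat.card Q = 6 := by rw [Nat.card_congr e.toEquiv, Nat.card_perm, Nat.card_fin]; rfl
    have hle : Nat.card W ≤ 2 := by
      have h := h6 ▸ Subgroup.card_subgroup_dvd_card W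
      have hle := Nat.le_of_dvd (by norm_num) h
      interval_cases hv : Nat.card W <;> omega
    rw [Subgroup.eq_bot_iff_forall]
    intro w hw
    refine e.injective ((s3_core (e w) fun g => ?_).trans (map_one e).symm)
    obtain ⟨g, rfl⟩ := e.surjective g
    rw [← map_inv, ← map_mul, ← map_mul]
    have hconj := (inferInstance : W.Normal).conj_mem w hw g
    by_cases h1 : w = 1
    · left; rw [h1, mul_one, mul_inv_cancel, map_one]
    by_cases h2 : g * w * g⁻¹ = 1
    · left; rw [h2, map_one]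
    right
    congr 1
    by_contra hne
    have : 3 ≤ Nat.card W := by
      have hsub : ({1, w, g * w * g⁻¹} : Set Q) ⊆ (W : Set Q) := by
        rintro v (rfl | rfl | rfl)
        exacts [one_mem _, hw, hconj]
      have h := Set.ncard_le_ncard hsub (Set.toFinite _)
      rw [Set.ncard_insert_of_notMem (by simp [Ne.symm h1, Ne.symm h2]) (Set.toFinite _),
        Set.ncard_pair (Ne.symm hne)] at h
      simpa [← Nat.card_coe_set_eq] using h
    omega
  · haveI : Nontrivial Q := e.symm.injective.nontrivial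
    haveI : IsSimpleGroup Q := IsSimpleGroup.isSimpleGroup_of_surjective (G := alternatingGroup (Fin 5))
      e.symm.toMonoidHom e.symm.surjective
    rcases (inferInstance : W.Normal).eq_bot_or_eq_top with h | h
    · exact h
    · exfalso
      refine h3 ?_
      rw [h, Subgroup.card_top, Nat.card_congr e.toEquiv, nat_card_alternatingGroup, Nat.card_fin]
      decide

variable {G : Type u} [Group G] [Finite G]

/-- A coset of a subgroup of order prime to three, stable under an element of order three, has a fixed point. -/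
theorem fixed_lift {N : Subgroup G} {r g : G} (hr : r ^ 3 = 1) (hN : ∀ n ∈ N, r * n * r⁻¹ ∈ N)
    (h3 : ¬ 3 ∣ Nat.card N) (hg : g⁻¹ * (r * g * r⁻¹) ∈ N) : ∃ n ∈ N, Commute (g * n) r := by
  classical
  haveI := Fact.mk Nat.prime_three
  haveI : Fintype N := Fintype.ofFinite N
  let f : N → N := fun n => ⟨g⁻¹ * (r * g * r⁻¹) * (r * n * r⁻¹), mul_mem hg (hN _ n.2)⟩
  have hf : ∀ n : N, g * (f n : G) = r * (g * n) * r⁻¹ := fun n => by
    show g * (g⁻¹ * (r * g * r⁻¹) * (r * n * r⁻¹)) = _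
    group
  have h3f : ∀ n, f (f (f n)) = n := fun n => Subtype.ext (by
    refine mul_left_cancel (a := g) ?_
    rw [hf, hf, hf]
    calc r * (r * (r * (g * n) * r⁻¹) * r⁻¹) * r⁻¹ = r ^ 3 * (g * n) * (r ^ 3)⁻¹ := by
          rw [pow_three]; group
      _ = g * n := by rw [hr]; group)
  let σ : Equiv.Perm N := ⟨f, fun n => f (f n), h3f, h3f⟩
  have hσ : σ ^ (3 ^ 1) = 1 := by
    rw [pow_one, pow_three]
    ext n
    simp only [Equiv.Perm.mul_apply, Equiv.Perm.one_apply]
    exact congrArg Subtype.val (h3f n)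
  obtain ⟨n, hn⟩ := Equiv.Perm.exists_fixed_point_of_prime (p := 3) (n := 1) (by
    rwa [← Nat.card_eq_fintype_card]) hσ
  refine ⟨n, n.2, ?_⟩
  have h : r * (g * n) * r⁻¹ = g * n := by rw [← hf n, show f n = n from hn]
  exact (mul_inv_eq_iff_eq_mul.1 h).symm

namespace Data

variable (L : Data G)

/-- The distinguished four-group. -/
abbrev V : Subgroup G := VN.map L.ι

theorem X_comm {x : G} (hx : x ∈ L.X) {m : N35} (hm : m ∈ VN) : Commute x (L.ι m) := by
  obtain ⟨h1, h2, -⟩ := L.mem_X.1 hx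
  rcases hm with rfl | rfl | rfl | rfl
  · rw [map_one]; exact Commute.one_right x
  · exact h1
  · exact h2
  · rw [map_mul]; exact h1.mul_right h2

/-- An element commuting with a diagonal element of the acting group, with the four-group. -/
theorem diag_case {g : G} (hga : Commute g L.a) (hgb : Commute g L.b) {e : N35} (he : e * e = 1)
    (heu : e * uN * e = uN ∨ e * uN * e = uN⁻¹) (hd : Commute g (L.ι (hN * e * (zN * uN) * (hN * e)⁻¹)))
    (hez : hN * e * zN * (hN * e)⁻¹ = zN) : g ∈ Subgroup.zpowers L.z := by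
  set h := L.ι (hN * e) with hh
  have hc : Commute (h⁻¹ * g * h) (L.ι (zN * uN)) := by
    have := hd.map (MulAut.conj h⁻¹).toMonoidHom
    simp only [MulEquiv.coe_toMonoidHom, MulAut.conj_apply, inv_inv] at this
    rwa [map_mul L.ι (hN * e * (zN * uN)), map_mul L.ι (hN * e), map_inv, ← hh,
      show h⁻¹ * (h * L.ι (zN * uN) * h⁻¹) * h = L.ι (zN * uN) by group] at this
  obtain ⟨i, l, f, hg | hg⟩ := L.mem_czu hc
  · set n := hN * e * (zN ^ i.val * uN ^ l.val * jN ^ f.val) * (hN * e)⁻¹ with hn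
    have hgn : g = L.ι n := by
      rw [hn, map_mul L.ι (hN * e * _), map_mul L.ι (hN * e), map_inv, ← hg, ← hh]; group
    have hgz : Commute g L.z := by
      rw [hgn]
      refine Commute.map ?_ L.ι
      have hb : Commute (zN ^ i.val * uN ^ l.val * jN ^ f.val) zN := by
        rw [commute_iff_eq]; clear * -; revert i l f; decide +kernel
      have := hb.map (MulAut.conj (hN * e)).toMonoidHom
      simp only [MulEquiv.coe_toMonoidHom, MulAut.conj_apply] at this
      rwa [hez] at this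
    have hgr : Commute g (L.ι rN) := by
      have hzc : Commute (h⁻¹ * g * h) L.u := by
        rw [hg]
        refine Commute.map ?_ L.ι
        rw [commute_iff_eq]; clear * -; revert i l f; decide +kernel
      have := hzc.map (MulAut.conj h).toMonoidHom
      simp only [MulEquiv.coe_toMonoidHom, MulAut.conj_apply] at this
      rw [show h * (h⁻¹ * g * h) * h⁻¹ = g by group, hh, ← map_inv, ← map_mul, ← map_mul] at this
      have hei : e⁻¹ = e := inv_eq_of_mul_eq_one_right he
      have hhi : hN⁻¹ = hN := inv_eq_of_mul_eq_one_right hN_spec.1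
      rw [mul_inv_rev, hei, hhi, show hN * e * uN * (e * hN) = hN * (e * uN * e) * hN by group] at this
      rcases heu with e' | e' <;> rw [e'] at this
      · rwa [hN_spec.2.1] at this
      · rw [show hN * uN⁻¹ * hN = (hN * uN * hN)⁻¹ by rw [mul_inv_rev, mul_inv_rev, hhi]; group, hN_spec.2.1,
          map_inv] at this
        simpa using this.inv_right
    exact L.X_z (L.mem_X.2 ⟨hga, hgb, hgr⟩) hgz
  · exfalso
    set q := L.ι (zN ^ i.val * uN ^ l.val * jN ^ f.val) with hq
    have hqu : Commute q L.u := by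
      refine Commute.map ?_ L.ι
      rw [commute_iff_eq]; clear * -; revert i l f; decide +kernel
    have e1 : h⁻¹ * g * h * L.z * (h⁻¹ * g * h)⁻¹ = L.u := by
      rw [hg, show q * L.σ * L.z * (q * L.σ)⁻¹ = q * (L.σ * L.z * L.σ⁻¹) * q⁻¹ by group, L.σ_conj, L.σ_z,
        hqu.eq, mul_inv_cancel_right]
    have e2 : h * L.z * h⁻¹ = L.z := by rw [hh, ← map_inv, ← map_mul, ← map_mul, hez]
    have e3 : g * L.z * g⁻¹ = h * L.u * h⁻¹ := by
      rw [← e1]
      nth_rw 1 [← e2]
      group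
    have hz' : Commute (g * L.z * g⁻¹) L.a := by
      have hza : Commute L.z L.a := Commute.map (by rw [commute_iff_eq]; decide +kernel : Commute zN aN) L.ι
      exact ((hga.mul_left hza).mul_left hga.inv_left)
    rw [e3, hh, ← map_inv, ← map_mul, ← map_mul] at hz'
    have h2 := congrArg Prod.snd (L.inj (by rw [map_mul L.ι _ aN, map_mul L.ι aN]; exact hz'.eq) :
      hN * e * uN * (hN * e)⁻¹ * aN = aN * (hN * e * uN * (hN * e)⁻¹))
    have hei : e⁻¹ = e := inv_eq_of_mul_eq_one_right he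
    have hhi : hN⁻¹ = hN := inv_eq_of_mul_eq_one_right hN_spec.1
    rw [mul_inv_rev, hei, hhi, show hN * e * uN * (e * hN) = hN * (e * uN * e) * hN by group] at h2
    rcases heu with e' | e' <;> rw [e'] at h2 <;> revert h2 <;> decide +kernel

/-- **The centraliser of the four-group** is its product with the centraliser of the alternating group. -/
theorem decomp {g₀ : G} (ha₀ : Commute g₀ L.a) (hb₀ : Commute g₀ L.b) :
    ∃ m ∈ VN, ∃ x ∈ L.X, g₀ = L.ι m * x := by
  classical
  haveI := Fact.mk Nat.prime_three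
  set K := Subgroup.centralizer ({L.a} : Set G) ⊓ Subgroup.centralizer ({L.b} : Set G) with hK
  have memK : ∀ g, g ∈ K ↔ Commute g L.a ∧ Commute g L.b := fun g => by
    rw [hK, Subgroup.mem_inf, Subgroup.mem_centralizer_singleton_iff, Subgroup.mem_centralizer_singleton_iff]; rfl
  have hXK : L.X ≤ K := fun x hx => (memK x).2 ⟨(L.mem_X.1 hx).1, (L.mem_X.1 hx).2.1⟩
  let S : Subgroup G :=
    { carrier := {g | ∃ m ∈ VN, ∃ x ∈ L.X, g = L.ι m * x}
      one_mem' := ⟨1, one_mem _, 1, one_mem _, by simp⟩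
      mul_mem' := by
        rintro _ _ ⟨m, hm, x, hx, rfl⟩ ⟨m', hm', x', hx', rfl⟩
        refine ⟨m * m', mul_mem hm hm', x * x', mul_mem hx hx', ?_⟩
        rw [map_mul, mul_assoc, ← mul_assoc x, (L.X_comm hx hm').eq]
        group
      inv_mem' := by
        rintro _ ⟨m, hm, x, hx, rfl⟩
        refine ⟨m⁻¹, inv_mem hm, x⁻¹, inv_mem hx, ?_⟩
        rw [mul_inv_rev, map_inv, ((L.X_comm hx hm).inv_left.inv_right).eq] }
  suffices K ≤ S from this ((memK g₀).2 ⟨ha₀, hb₀⟩)
  have hVK : ∀ m ∈ VN, L.ι m ∈ K := by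
    intro m hm
    refine (memK _).2 ⟨Commute.map ?_ L.ι, Commute.map ?_ L.ι⟩ <;> rw [commute_iff_eq] <;>
      rcases hm with rfl | rfl | rfl | rfl <;> decide +kernel
  have hzK : L.z ∈ K := hXK L.z_mem_X
  have htK : L.t ∈ K := hXK L.t_mem_X
  let zK : K := ⟨L.z, hzK⟩
  let tK : K := ⟨L.t, htK⟩
  set VK := L.V.subgroupOf K with hVKdef
  have hVc : ∀ v : K, v ∈ VK → ∀ g : K, g * v = v * g := by
    intro v hv g
    obtain ⟨m, hm, hmv⟩ := hv
    refine Subtype.ext ?_
    show (g : G) * v = v * g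
    rw [show (v : G) = L.ι m from hmv.symm]
    obtain ⟨h1, h2⟩ := (memK _).1 g.2
    rcases hm with rfl | rfl | rfl | rfl
    · rw [map_one, one_mul, mul_one]
    · exact h1.eq
    · exact h2.eq
    · rw [map_mul]; exact (h1.mul_right h2).eq
  haveI hVn : VK.Normal := ⟨fun v hv g => by rw [hVc v hv g, mul_inv_cancel_right]; exact hv⟩
  have hV2 : ∀ v : K, v ∈ VK → v * v = 1 := by
    intro v hv
    obtain ⟨m, hm, hmv⟩ := hv
    refine Subtype.ext ?_
    show (v : G) * v = 1
    rw [show (v : G) = L.ι m from hmv.symm]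
    exact L.sq_one (VN_sq m hm)
  set π := QuotientGroup.mk' VK with hπ
  have hVmem : ∀ g : K, π g = 1 ↔ g ∈ VK := fun g => QuotientGroup.eq_one_iff g
  have hsc : SC3 (π zK) := by
    refine ⟨orderOf_eq_prime (by rw [← map_pow, show zK ^ 3 = 1 from Subtype.ext L.z_pow, map_one]) fun h => ?_,
      fun q hq => ?_⟩
    · have h2 := hV2 _ ((hVmem _).1 h)
      have h3 : zK ^ 3 = 1 := Subtype.ext L.z_pow
      rw [pow_three, h2, mul_one] at h3
      exact L.z_ne_one (congrArg Subtype.val h3)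
    obtain ⟨g, rfl⟩ := QuotientGroup.mk'_surjective VK q
    set v := zK⁻¹ * (g * zK * g⁻¹) with hv
    have hvV : v ∈ VK := by
      rw [← hVmem, hv, map_mul, map_inv, map_mul, map_mul, map_inv, ← hq.eq]
      show (π zK)⁻¹ * (π zK * π g * (π g)⁻¹) = 1
      group
    have h3 : (zK * v) ^ 3 = 1 := by
      rw [hv, mul_inv_cancel_left, conj_pow, show zK ^ 3 = 1 from Subtype.ext L.z_pow]; group
    have hzv : Commute zK v := hVc v hvV zK
    rw [hzv.mul_pow, show zK ^ 3 = 1 from Subtype.ext L.z_pow, one_mul, pow_three, hV2 v hvV, mul_one] at h3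
    have hgz : Commute (g : G) L.z := by
      have h' : zK = g * zK * g⁻¹ := by rwa [hv, inv_mul_eq_one] at h3
      exact mul_inv_eq_iff_eq_mul.1 (congrArg Subtype.val h'.symm)
    obtain ⟨m, hm, hp⟩ := L.mem_cz hgz
    obtain ⟨h1, h2⟩ := (memK _).1 g.2
    rw [← hm] at h1 h2
    have hqm := cent_four m.2 (congrArg Prod.snd (L.inj (by rw [map_mul, map_mul]; exact h1.eq) : m * aN = aN * m))
      (congrArg Prod.snd (L.inj (by rw [map_mul, map_mul]; exact h2.eq) : m * bN = bN * m))
    have hv' : ((1 : Perm (Fin 3)), m.2) ∈ VN := by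
      rcases hqm with e | e | e | e <;> rw [e]
      exacts [Or.inl rfl, Or.inr (Or.inl rfl), Or.inr (Or.inr (Or.inl rfl)), Or.inr (Or.inr (Or.inr rfl))]
    obtain ⟨k, hk⟩ : ∃ k : ℤ, (m.1, (1 : Perm (Fin 5))) = zN ^ k := by
      rcases hp with e | e | e <;> rw [e]
      exacts [⟨0, rfl⟩, ⟨1, (zpow_one _).symm⟩, ⟨-1, by rw [zpow_neg_one]; exact Prod.ext rfl inv_one.symm⟩]
    have hg' : g = zK ^ k * ⟨_, hVK _ hv'⟩ := Subtype.ext (by
      rw [Subgroup.coe_mul, Subgroup.coe_zpow, ← hm]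
      show L.ι m = L.z ^ k * L.ι (1, m.2)
      rw [← map_zpow, ← hk, ← map_mul]
      exact L.ι_eq (Prod.ext (mul_one _).symm (one_mul _).symm))
    refine Subgroup.mem_zpowers_iff.2 ⟨k, ?_⟩
    rw [hg', map_mul, map_zpow, (hVmem ⟨_, hVK _ hv'⟩).2 ⟨_, hv', rfl⟩, mul_one]
  -- the action of `r`
  set r := L.ι rN with hr
  have hr3 : r ^ 3 = 1 := by rw [hr, ← map_pow, show rN ^ 3 = 1 by decide +kernel, map_one]
  have hrV : ∀ m ∈ VN, rN⁻¹ * m * rN ∈ VN ∧ rN * m * rN⁻¹ ∈ VN := by
    rintro m (rfl | rfl | rfl | rfl) <;> exact ⟨by show _ ∨ _; decide +kernel, by show _ ∨ _; decide +kernel⟩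
  have hrK : ∀ g ∈ K, r * g * r⁻¹ ∈ K := by
    intro g hg
    obtain ⟨h1, h2⟩ := (memK g).1 hg
    have hall : ∀ m ∈ VN, Commute g (L.ι m) := by
      rintro m (rfl | rfl | rfl | rfl)
      · rw [map_one]; exact Commute.one_right g
      · exact h1
      · exact h2
      · rw [map_mul]; exact h1.mul_right h2
    have key : ∀ m ∈ VN, Commute (r * g * r⁻¹) (L.ι m) := by
      intro m hm
      have := (hall _ (hrV m hm).1).map (MulAut.conj r).toMonoidHom
      simp only [MulEquiv.coe_toMonoidHom, MulAut.conj_apply] at this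
      rwa [map_mul L.ι (rN⁻¹ * m), map_mul L.ι rN⁻¹, map_inv, ← hr,
        show r * (r⁻¹ * L.ι m * r) * r⁻¹ = L.ι m by group] at this
    exact (memK _).2 ⟨key aN (Or.inr (Or.inl rfl)), key bN (Or.inr (Or.inr (Or.inl rfl)))⟩
  let φ : K →* K :=
    { toFun := fun g => ⟨r * g * r⁻¹, hrK g g.2⟩
      map_one' := Subtype.ext (by simp)
      map_mul' := fun g h => Subtype.ext (by simp [mul_assoc]) }
  have hφ3 : ∀ g, φ (φ (φ g)) = g := fun g => Subtype.ext (by
    show r * (r * (r * g * r⁻¹) * r⁻¹) * r⁻¹ = g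
    calc r * (r * (r * (g : G) * r⁻¹) * r⁻¹) * r⁻¹ = r ^ 3 * g * (r ^ 3)⁻¹ := by rw [pow_three]; group
      _ = g := by rw [hr3]; group)
  have hφsurj : Function.Surjective φ := fun g => ⟨φ (φ g), hφ3 g⟩
  have hφz : φ zK = zK := Subtype.ext (mul_inv_eq_iff_eq_mul.2 ((L.mem_X.1 L.z_mem_X).2.2).symm.eq)
  have hφt : φ tK = tK := Subtype.ext (mul_inv_eq_iff_eq_mul.2 ((L.mem_X.1 L.t_mem_X).2.2).symm.eq)
  -- quotients of the centraliser
  have hpair : ∀ (N : Subgroup K) [N.Normal], SC3 (QuotientGroup.mk' N zK) →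
      Pair (QuotientGroup.mk' N zK) (QuotientGroup.mk' N tK) := by
    intro N _ h
    refine ⟨h, ?_, ?_⟩
    · rw [← map_mul, show tK * tK = 1 from Subtype.ext (L.sq_one zN_spec.2.2.2.2.2.2.2.1), map_one]
    · rw [← map_inv, ← map_mul, ← map_mul, ← map_inv]
      refine congrArg _ (Subtype.ext ?_)
      show L.t * L.z * L.t⁻¹ = L.z⁻¹
      rw [← map_inv, ← map_inv, ← map_mul, ← map_mul]
      exact L.ι_eq (by decide +kernel)
  have hfixed : ∀ (N : Subgroup K) [N.Normal] (hφN : N ≤ N.comap φ), ¬ 3 ∣ Nat.card N →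
      ∀ g : K, QuotientGroup.map N N φ hφN (g : K ⧸ N) = g → ∃ n ∈ N, Commute ((g * n : K) : G) r := by
    intro N _ hφN h3 g hg
    rw [QuotientGroup.map_mk] at hg
    have hmem : g⁻¹ * φ g ∈ N := QuotientGroup.eq.1 hg.symm
    obtain ⟨n, ⟨n', hn', rfl⟩, hn2⟩ := fixed_lift (N := N.map K.subtype) (r := r) (g := (g : G)) hr3
      (by rintro _ ⟨n, hn, rfl⟩; exact ⟨φ n, hφN hn, rfl⟩)
      (by rwa [Subgroup.card_map_of_injective K.subtype_injective]) ⟨_, hmem, rfl⟩
    exact ⟨n', hn', hn2⟩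
  have hinX : ∀ g : K, Commute (g : G) r → (g : G) ∈ L.X := fun g hg =>
    L.mem_X.2 ⟨((memK _).1 g.2).1, ((memK _).1 g.2).2, hg⟩
  -- the general argument from a radical
  have main : ∀ (N₀ : Subgroup (K ⧸ VK)) [N₀.Normal], (Nat.card N₀).Coprime 3 →
      (Nat.card ((K ⧸ VK) ⧸ N₀) = 3 ∨ Nonempty ((K ⧸ VK) ⧸ N₀ ≃* Perm (Fin 3)) ∨
        Nonempty ((K ⧸ VK) ⧸ N₀ ≃* alternatingGroup (Fin 5))) → K ≤ S := by
    intro N₀ _ hco hQ
    set Np := N₀.comap π with hNp
    set Ψ := (QuotientGroup.mk' N₀).comp π with hΨ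
    have hker : Ψ.ker = Np := by
      ext g; rw [MonoidHom.mem_ker, hΨ, MonoidHom.comp_apply, QuotientGroup.mk'_apply,
        QuotientGroup.eq_one_iff, hNp, Subgroup.mem_comap]
    have hΨsurj : Function.Surjective Ψ :=
      (QuotientGroup.mk'_surjective N₀).comp (QuotientGroup.mk'_surjective VK)
    let eqv : K ⧸ Np ≃* (K ⧸ VK) ⧸ N₀ :=
      (QuotientGroup.quotientMulEquivOfEq hker.symm).trans (QuotientGroup.quotientKerEquivOfSurjective Ψ hΨsurj)
    have hQ' : Nat.card (K ⧸ Np) = 3 ∨ Nonempty (K ⧸ Np ≃* Perm (Fin 3)) ∨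
        Nonempty (K ⧸ Np ≃* alternatingGroup (Fin 5)) := by
      rcases hQ with h | ⟨⟨e⟩⟩ | ⟨⟨e⟩⟩
      · exact Or.inl ((Nat.card_congr eqv.toEquiv).trans h)
      · exact Or.inr (Or.inl ⟨eqv.trans e⟩)
      · exact Or.inr (Or.inr ⟨eqv.trans e⟩)
    have hN3 : ¬ 3 ∣ Nat.card Np := by
      intro h
      obtain ⟨x, hx⟩ := exists_prime_orderOf_dvd_card' 3 h
      have hx3 : (x : K) ^ 3 = 1 := by
        have := pow_orderOf_eq_one x; rw [hx] at this; exact congrArg Subtype.val this
      have h1 : π x = 1 := orderOf_eq_one_iff.1 (Nat.eq_one_of_dvd_coprimes hco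
        (Subgroup.orderOf_mk (π x) x.2 ▸ orderOf_dvd_natCard _)
        (orderOf_dvd_of_pow_eq_one (by rw [← map_pow, hx3, map_one])))
      have h2 := hV2 _ ((hVmem _).1 h1)
      rw [pow_three, h2, mul_one] at hx3
      rw [show x = 1 from Subtype.ext hx3, orderOf_one] at hx
      norm_num at hx
    have hφN : Np ≤ Np.comap φ := by
      set W := (Np.map φ).map (QuotientGroup.mk' Np) with hW
      haveI : (Np.map φ).Normal := Subgroup.Normal.map inferInstance φ hφsurj
      haveI : W.Normal := Subgroup.Normal.map inferInstance _ (QuotientGroup.mk'_surjective Np)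
      have hW1 := core_trivial hQ' W (fun h => hN3 (h.trans
        ((Subgroup.card_map_dvd _ _).trans (Subgroup.card_map_dvd _ _))))
      intro n hn
      rw [Subgroup.mem_comap, ← QuotientGroup.eq_one_iff, ← Subgroup.mem_bot, ← hW1]
      exact ⟨φ n, ⟨n, hn, rfl⟩, rfl⟩
    set N := Np.map K.subtype with hNdef
    have hNK : N ≤ K := Subgroup.map_subtype_le _
    have hNS : N ≤ S := by
      let A₀ : Subgroup N35 :=
        { carrier := {m | ∃ i j : Fin 3, m = zN ^ i.val * rN ^ j.val}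
          one_mem' := ⟨0, 0, by simp⟩
          mul_mem' := by rintro _ _ ⟨i, j, rfl⟩ ⟨k, l, rfl⟩; exact ⟨_, _, (zr_table i j k l).1⟩
          inv_mem' := by rintro _ ⟨i, j, rfl⟩; exact ⟨_, _, (zr_table i j i j).2.1⟩ }
      set A := A₀.map L.ι with hA
      haveI hAc : IsMulCommutative A := ⟨⟨fun x y => by
        obtain ⟨_, _, ⟨i, j, rfl⟩, hx⟩ := x
        obtain ⟨_, _, ⟨k, l, rfl⟩, hy⟩ := y
        subst hx hy
        refine Subtype.ext ?_
        show L.ι _ * L.ι _ = L.ι _ * L.ι _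
        rw [← map_mul, ← map_mul, (zr_table i j k l).1, (zr_table k l i j).1, add_comm i, add_comm j]⟩⟩
      have hA9 : Nat.card A = 9 := by
        rw [hA, Subgroup.card_map_of_injective L.inj]
        let e : Fin 3 × Fin 3 → A₀ := fun x => ⟨_, x.1, x.2, rfl⟩
        have he : Function.Bijective e :=
          ⟨fun x y h => zr_inj x y (congrArg Subtype.val h), by
            rintro ⟨m, i, j, rfl⟩; exact ⟨(i, j), rfl⟩⟩
        rw [← Nat.card_congr (Equiv.ofBijective e he), Nat.card_prod, Nat.card_fin]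
      have hA3 : ∀ d ∈ A, d ^ 3 = 1 := by
        rintro _ ⟨_, ⟨i, j, rfl⟩, rfl⟩
        rw [← map_pow, (zr_table i j i j).2.2, map_one]
      have hAnc : ¬ IsCyclic A := by
        intro h
        obtain ⟨g, hg⟩ := IsCyclic.exists_generator (α := A)
        have h9 : orderOf g = 9 := by rw [orderOf_eq_card_of_forall_mem_zpowers hg, hA9]
        have h3 : orderOf g ∣ 3 := orderOf_dvd_of_pow_eq_one (Subtype.ext (by
          rw [SubmonoidClass.coe_pow]; exact hA3 g g.2))
        rw [h9] at h3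
        norm_num at h3
      have hAN : A ≤ Subgroup.normalizer (N : Set G) := by
        rintro _ ⟨_, ⟨i, j, rfl⟩, rfl⟩
        rw [map_mul, map_pow, map_pow]
        refine mul_mem (pow_mem ?_ _) (pow_mem ?_ _)
        · refine CfsgLib.A8ThreeLocal.Loc.normalises_of ?_
          rintro _ ⟨n, hn, rfl⟩
          exact ⟨zK * n * zK⁻¹, (inferInstance : Np.Normal).conj_mem n hn zK, rfl⟩
        · refine CfsgLib.A8ThreeLocal.Loc.normalises_of ?_
          rintro _ ⟨n, hn, rfl⟩
          exact ⟨φ n, hφN hn, rfl⟩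
      have hNcard : Nat.card N = Nat.card Np := by rw [hNdef, Subgroup.card_map_of_injective K.subtype_injective]
      have hcop : (Nat.card A).Coprime (Nat.card N) := by
        rw [hA9, show (9 : ℕ) = 3 ^ 2 from rfl, hNcard]
        exact Nat.Coprime.pow_left 2 ((Nat.Prime.coprime_iff_not_dvd Nat.prime_three).2 hN3)
      have hNz : ∀ g ∈ N, g ∈ Subgroup.zpowers L.z → g = 1 := by
        intro g hg hgz
        obtain ⟨k, rfl⟩ := Subgroup.mem_zpowers_iff.1 hgz
        have h3 : orderOf (L.z ^ k) ∣ 3 := orderOf_dvd_of_pow_eq_one (by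
          rw [← zpow_natCast, ← zpow_mul, mul_comm, zpow_mul, zpow_natCast, L.z_pow, one_zpow])
        exact orderOf_eq_one_iff.1 (Nat.eq_one_of_dvd_coprimes ((Nat.Prime.coprime_iff_not_dvd Nat.prime_three).2 hN3)
          h3 (hNcard ▸ Subgroup.orderOf_mk _ hg ▸ orderOf_dvd_natCard _))
      rw [← coprime_generated_by_centralizers hAnc hAN hcop]
      refine iSup₂_le fun d hd => ?_
      rintro g ⟨hgN, hgd⟩
      obtain ⟨⟨_, ⟨i, j, rfl⟩, rfl⟩, hd1⟩ := hd
      have hgc : Commute g (L.ι (zN ^ i.val * rN ^ j.val)) := Subgroup.mem_centralizer_singleton_iff.1 hgd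
      by_cases hj : j = 0
      · subst hj
        have hi : i ≠ 0 := by rintro rfl; exact hd1 (by simp)
        rw [Fin.val_zero, pow_zero, mul_one] at hgc
        have hgz : Commute g L.z := by
          rcases zr_line.1 i hi with e | e <;> rw [e] at hgc
          · exact hgc
          · rw [map_inv] at hgc; simpa using hgc.inv_right
        obtain ⟨m, rfl, hp⟩ := L.mem_cz hgz
        obtain ⟨h1, h2⟩ := (memK _).1 (hNK hgN)
        have hqm := cent_four m.2 (congrArg Prod.snd (L.inj (by rw [map_mul, map_mul]; exact h1.eq) : m * aN = aN * m))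
          (congrArg Prod.snd (L.inj (by rw [map_mul, map_mul]; exact h2.eq) : m * bN = bN * m))
        have hp1 : m.1 = 1 := by
          have h3 : orderOf m.1 ∣ 3 := orderOf_dvd_of_pow_eq_one (by rcases hp with e | e | e <;> rw [e] <;> decide)
          have hpow : m ^ Nat.card N = 1 := L.inj (by
            rw [map_pow, map_one]
            exact congrArg Subtype.val (pow_card_eq_one' (x := (⟨L.ι m, hgN⟩ : N))))
          exact orderOf_eq_one_iff.1 (Nat.eq_one_of_dvd_coprimes
            ((Nat.Prime.coprime_iff_not_dvd Nat.prime_three).2 hN3) h3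
            (hNcard ▸ orderOf_dvd_of_pow_eq_one (congrArg Prod.fst hpow)))
        refine ⟨m, ?_, 1, one_mem _, (mul_one _).symm⟩
        rcases hqm with e | e | e | e
        exacts [Or.inl (Prod.ext hp1 e), Or.inr (Or.inl (Prod.ext hp1 e)), Or.inr (Or.inr (Or.inl (Prod.ext hp1 e))),
          Or.inr (Or.inr (Or.inr (Prod.ext hp1 e)))]
      by_cases hi : i = 0
      · subst hi
        rw [Fin.val_zero, pow_zero, one_mul] at hgc
        refine ⟨1, one_mem _, g, hinX ⟨g, hNK hgN⟩ ?_, by simp⟩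
        rcases zr_line.2 j hj with e | e <;> rw [e] at hgc
        · exact hgc
        · rw [map_inv] at hgc; simpa using hgc.inv_right
      have hone : g = 1 := by
        obtain ⟨h1, h2⟩ := (memK g).1 (hNK hgN)
        have hc : Commute g (L.ι (zN * rN)) ∨ Commute g (L.ι (zN * rN⁻¹)) := by
          rcases zr_diag i j hi hj with (e | e) | (e | e) <;> rw [e] at hgc
          · exact Or.inl hgc
          · rw [map_inv] at hgc; exact Or.inl (by simpa using hgc.inv_right)
          · exact Or.inr hgc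
          · rw [map_inv] at hgc; exact Or.inr (by simpa using hgc.inv_right)
        refine hNz g hgN ?_
        rcases hc with hc | hc
        · exact L.diag_case h1 h2 (e := 1) (one_mul 1) (Or.inl (by simp))
            (by rwa [show hN * 1 * (zN * uN) * (hN * 1)⁻¹ = zN * rN by decide +kernel]) (by decide +kernel)
        · exact L.diag_case h1 h2 (e := kN) (by decide +kernel) (Or.inr (by decide +kernel))
            (by rwa [show hN * kN * (zN * uN) * (hN * kN)⁻¹ = zN * rN⁻¹ by decide +kernel]) (by decide +kernel)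
      rw [hone]; exact one_mem _
    -- the action on the quotient is trivial
    set α := QuotientGroup.map Np Np φ hφN with hα
    have hmk : ∀ g : K, α (g : K ⧸ Np) = ((φ g : K) : K ⧸ Np) := fun g => QuotientGroup.map_mk Np Np φ hφN g
    have hαz : α (QuotientGroup.mk' Np zK) = QuotientGroup.mk' Np zK := by
      rw [QuotientGroup.mk'_apply, hmk, hφz]
    have hαt : α (QuotientGroup.mk' Np tK) = QuotientGroup.mk' Np tK := by
      rw [QuotientGroup.mk'_apply, hmk, hφt]
    have hα3 : ∀ q, α (α (α q)) = q := by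
      intro q
      obtain ⟨g, rfl⟩ := QuotientGroup.mk_surjective q
      rw [hmk, hmk, hmk, hφ3]
    have hscN : SC3 (QuotientGroup.mk' Np zK) := by
      have h1 : Three' N₀ := (Nat.Prime.coprime_iff_not_dvd Nat.prime_three).1 hco.symm
      have h := hsc.quot N₀ h1
      have e : eqv (QuotientGroup.mk' Np zK) = QuotientGroup.mk' N₀ (π zK) := rfl
      refine ⟨by rw [← MulEquiv.orderOf_eq eqv, e, h.ord], fun q hq => ?_⟩
      obtain ⟨k, hk⟩ := Subgroup.mem_zpowers_iff.1 (h.cent (eqv q) (by rw [← e]; exact hq.map eqv.toMonoidHom))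
      exact Subgroup.mem_zpowers_iff.2 ⟨k, eqv.injective (by rw [map_zpow, e, hk])⟩
    have hall : ∀ q, α q = q := by
      rcases hQ' with h | h | h
      · exact s3_fix (hpair Np hscN) (Or.inl h) α hαz hαt
      · exact s3_fix (hpair Np hscN) (Or.inr h) α hαz hαt
      · exact a5_fix (hpair Np hscN) h α hα3 hαz hαt
    intro g hg
    obtain ⟨n, hn, hc⟩ := hfixed Np hφN hN3 ⟨g, hg⟩ (hall _)
    have h1 : ((⟨g, hg⟩ * n : K) : G) ∈ S := ⟨1, one_mem _, _, hinX _ hc, by simp⟩
    have h2 : (n : G) ∈ S := hNS ⟨n, hn, rfl⟩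
    simpa using mul_mem h1 (inv_mem h2)
  rcases tri_of_sc3 _ (K ⧸ VK) (π zK) rfl hsc with ⟨N, hNn, -, hco, hq⟩ | ⟨N, hNn, -, hel, he⟩ | he
  · haveI := hNn
    exact main N hco (by rcases hq with h | h; exacts [Or.inl h, Or.inr (Or.inl h)])
  · haveI := hNn
    refine main N ((Nat.Prime.coprime_iff_not_dvd Nat.prime_three).2 fun h3 => ?_).symm (Or.inr (Or.inr he))
    obtain ⟨x, hx⟩ := exists_prime_orderOf_dvd_card' 3 h3
    have h2 : orderOf x ∣ 2 := orderOf_dvd_of_pow_eq_one (Subtype.ext (by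
      rw [SubmonoidClass.coe_pow]; exact hel _ x.2))
    rw [hx] at h2
    norm_num at h2
  · exfalso
    obtain ⟨e⟩ := he
    have hφV : VK ≤ VK.comap φ := by
      rintro v ⟨m, hm, hmv⟩
      refine ⟨rN * m * rN⁻¹, (hrV m hm).2, ?_⟩
      show L.ι (rN * m * rN⁻¹) = r * (v : G) * r⁻¹
      rw [map_mul, map_mul, map_inv, ← hr]
      exact congrArg (fun w => r * w * r⁻¹) hmv
    have h3 : ¬ 3 ∣ Nat.card VK := fun h => by
      obtain ⟨x, hx⟩ := exists_prime_orderOf_dvd_card' 3 h
      have h2 : orderOf x ∣ 2 := orderOf_dvd_of_pow_eq_one (Subtype.ext (by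
        rw [SubmonoidClass.coe_pow, pow_two]; exact hV2 _ x.2))
      rw [hx] at h2
      norm_num at h2
    set α := QuotientGroup.map VK VK φ hφV with hα
    have hmk : ∀ g : K, α (g : K ⧸ VK) = ((φ g : K) : K ⧸ VK) := fun g => QuotientGroup.map_mk VK VK φ hφV g
    have hα3 : ∀ q, α (α (α q)) = q := by
      intro q
      obtain ⟨g, rfl⟩ := QuotientGroup.mk_surjective q
      rw [hmk, hmk, hmk, hφ3]
    obtain ⟨q, hq, h7⟩ := l27_fix (hpair VK hsc) ⟨e⟩ α hα3
      (by rw [QuotientGroup.mk'_apply, hmk, hφz]) (by rw [QuotientGroup.mk'_apply, hmk, hφt])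
    obtain ⟨g, rfl⟩ := QuotientGroup.mk_surjective q
    obtain ⟨n, hn, hc⟩ := hfixed VK hφV h3 g hq
    have hgn : π (g * n) = (g : K ⧸ VK) := by rw [map_mul, (hVmem n).2 hn, mul_one]; rfl
    obtain ⟨m, hm, -⟩ := L.X_coord (hinX _ hc)
    have h1 : 7 ∣ orderOf ((g * n : K) : G) := by
      rw [Subgroup.orderOf_coe, ← h7, ← hgn]; exact orderOf_map_dvd π _
    rw [← hm, orderOf_injective L.ψ L.ψ_inj] at h1
    have h2 := h1.trans (orderOf_dvd_natCard m)
    rw [Nat.card_prod, Nat.card_perm, Nat.card_perm, Nat.card_fin, Nat.card_fin] at h2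
    revert h2; decide

end Data

end CfsgLib.S8ThreeLocal
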