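import Cfsg.Agent.Lib.S8ThreeLocal.TwoLocal

/-!
The three possible shapes of the centraliser of two commuting involutions.
-/

set_option autoImplicit false
set_option maxRecDepth 8000
set_option synthInstance.maxSize 1024

namespace CfsgLib.S8ThreeLocal

open Equiv Equiv.Perm CfsgLib.A8ThreeLocal CfsgLib.SelfCentThree

universe u

theorem three_cases : ∀ p : Perm (Fin 3), p = 1 ∨ (p = c3 ∨ p = c3⁻¹) ∨ p * c3 * p⁻¹ = c3⁻¹ := by decide

theorem La_z_aux : ∀ m : N35, (m = 1 ∨ m = aN ∨ m = jN ∨ m = kN) → m * m = 1 := by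
  rintro m (rfl | rfl | rfl | rfl) <;> decide +kernel

/-- The order of a two-group of a group is bounded by any two-power dividing it with odd cofactor. -/
theorem two_pow_le {k n : ℕ} (hn : ¬ 2 ∣ n) (h : 2 ^ k ∣ 8 * n) : 2 ^ k ≤ 8 := by
  have hco : Nat.Coprime (2 ^ k) n := Nat.Coprime.pow_left k ((Nat.Prime.coprime_iff_not_dvd Nat.prime_two).2 hn)
  exact Nat.le_of_dvd (by norm_num) (hco.dvd_of_dvd_mul_right h)

variable {G : Type u} [Group G] [Finite G]

namespace Data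

variable (L : Data G)

/-- The thin shape. -/
def Thin : Prop := ∀ Q : Subgroup G, Q ≤ L.La → IsPGroup 2 Q → Nat.card Q ≤ 8

/-- The big shape. -/
def Big : Prop := ∀ R : Subgroup G, R ≤ L.CB → IsPGroup 2 R → ¬ 2 ∣ R.relIndex L.CB → 32 ≤ Nat.card R

/-- The shape of the alternating group of degree five. -/
structure Five where
  /-- the second involution -/
  g : G
  /-- the element of order three on the four-group -/
  c : G
  /-- the correction -/
  e₀ : N35
  /-- the correction is central -/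
  he₀ : e₀ ∈ ZN
  /-- an element of the centraliser -/
  hg : g ∈ L.CB
  /-- an involution -/
  hg2 : g * g = 1
  /-- outside the known part -/
  hgB : g ∉ L.Bp
  /-- in the centraliser of `a` and `j` -/
  hc : c ∈ L.La
  /-- it moves `t` to `g` -/
  hct : c * L.t * c⁻¹ = g
  /-- and `g` onwards -/
  hcg : c * g * c⁻¹ = L.t * g * L.ι e₀
  /-- the centraliser of the three involutions -/
  cover : ∀ x ∈ L.CB, ∃ e ∈ ZN, x = L.ι e ∨ x = L.t * L.ι e ∨ x = g * L.ι e ∨ x = L.t * g * L.ι e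
  /-- elements fixing `t` modulo the centre -/
  fix : ∀ y ∈ L.La, (∃ e ∈ ZN, y * L.t * y⁻¹ = L.t * L.ι e) → y ∈ L.CB

theorem t_La : L.t ∈ L.La := L.mem_La.2
  ⟨Commute.map (by rw [commute_iff_eq]; decide +kernel : Commute tN aN) L.ι,
    Commute.map (by rw [commute_iff_eq]; decide +kernel : Commute tN jN) L.ι⟩

variable {L}

theorem shapes (hK : L.SmallK) : L.Thin ∨ Nonempty L.Five ∨ L.Big := by
  classical
  haveI := Fact.mk Nat.prime_three
  have hzL : L.z ∈ L.La := L.mem_La.2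
    ⟨Commute.map (by rw [commute_iff_eq]; decide +kernel : Commute zN aN) L.ι,
      Commute.map (by rw [commute_iff_eq]; decide +kernel : Commute zN jN) L.ι⟩
  have hZL : L.Zp ≤ L.La := fun e he => (L.Bp_le_CB (L.Zp_le_Bp he)).1
  set ZL := L.Zp.subgroupOf L.La with hZdef
  have hZc : ∀ e : L.La, e ∈ ZL → ∀ g : L.La, g * e = e * g := fun e he g =>
    Subtype.ext (L.comm_Z g.2 (Subgroup.mem_subgroupOf.1 he)).eq
  haveI hZn : ZL.Normal := ⟨fun e he g => by rw [hZc e he g, mul_inv_cancel_right]; exact he⟩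
  have hZ2 : ∀ e : L.La, e ∈ ZL → e * e = 1 := fun e he =>
    Subtype.ext (L.Bp_sq (L.Zp_le_Bp (Subgroup.mem_subgroupOf.1 he)))
  have hZcard : Nat.card ZL = 4 := by
    rw [Nat.card_congr (Subgroup.subgroupOfEquivOfLe hZL).toEquiv, Subgroup.card_map_of_injective L.inj, ZN_card]
  set π := QuotientGroup.mk' ZL with hπ
  have hπmem : ∀ g : L.La, π g = 1 ↔ (g : G) ∈ L.Zp := fun g => QuotientGroup.eq_one_iff g
  have hπeq : ∀ g h : L.La, π g = π h → ∃ e ∈ ZN, (g : G) = h * L.ι e := by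
    intro g h e
    obtain ⟨m, hm, hme⟩ := (hπmem (h⁻¹ * g)).1 (by rw [map_mul, map_inv, e, inv_mul_cancel])
    exact ⟨m, hm, by
      rw [show L.ι m = ((h⁻¹ * g : L.La) : G) from hme, Subgroup.coe_mul, Subgroup.coe_inv, mul_inv_cancel_left]⟩
  let zL : L.La := ⟨L.z, hzL⟩
  let tL : L.La := ⟨L.t, L.t_La⟩
  have hsc : SC3 (π zL) := by
    refine ⟨orderOf_eq_prime (by rw [← map_pow, show zL ^ 3 = 1 from Subtype.ext L.z_pow, map_one]) fun h => ?_,
      fun q hq => ?_⟩
    · have h2 := L.Bp_sq (L.Zp_le_Bp ((hπmem _).1 h))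
      have h3 := L.z_pow
      rw [pow_three, h2, mul_one] at h3
      exact L.z_ne_one h3
    obtain ⟨g, rfl⟩ := QuotientGroup.mk'_surjective ZL q
    set v := zL⁻¹ * (g * zL * g⁻¹) with hv
    have hvV : v ∈ ZL := by
      rw [hZdef, Subgroup.mem_subgroupOf, ← hπmem, hv, map_mul, map_inv, map_mul, map_mul, map_inv, ← hq.eq]
      show (π zL)⁻¹ * (π zL * π g * (π g)⁻¹) = 1
      group
    have h3 : (zL * v) ^ 3 = 1 := by
      rw [hv, mul_inv_cancel_left, conj_pow, show zL ^ 3 = 1 from Subtype.ext L.z_pow]; group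
    have hzv : Commute zL v := hZc v hvV zL
    rw [hzv.mul_pow, show zL ^ 3 = 1 from Subtype.ext L.z_pow, one_mul, pow_three, hZ2 v hvV, mul_one] at h3
    have hgz : Commute (g : G) L.z := by
      have h' : zL = g * zL * g⁻¹ := by rwa [hv, inv_mul_eq_one] at h3
      exact mul_inv_eq_iff_eq_mul.1 (congrArg Subtype.val h'.symm)
    obtain ⟨m, hm, hp⟩ := L.mem_cz hgz
    obtain ⟨h1, h2⟩ := L.mem_La.1 g.2
    rw [← hm] at h1 h2
    have hv' : ((1, m.2) : N35) ∈ ZN := cent_c3a m.2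
      (congrArg Prod.snd (L.inj (by rw [map_mul, map_mul]; exact h2.eq) : m * jN = jN * m))
      (congrArg Prod.snd (L.inj (by rw [map_mul, map_mul]; exact h1.eq) : m * aN = aN * m))
    obtain ⟨k, hk⟩ : ∃ k : ℤ, (m.1, (1 : Perm (Fin 5))) = zN ^ k := by
      rcases hp with e | e | e <;> rw [e]
      exacts [⟨0, rfl⟩, ⟨1, (zpow_one _).symm⟩, ⟨-1, by rw [zpow_neg_one]; exact Prod.ext rfl inv_one.symm⟩]
    have hvL : L.ι ((1, m.2) : N35) ∈ L.La := hZL ⟨_, hv', rfl⟩
    have hg' : g = zL ^ k * ⟨_, hvL⟩ := Subtype.ext (by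
      rw [Subgroup.coe_mul, Subgroup.coe_zpow, ← hm]
      show L.ι m = L.z ^ k * L.ι (1, m.2)
      rw [← map_zpow, ← hk, ← map_mul]
      exact L.ι_eq (Prod.ext (mul_one _).symm (one_mul _).symm))
    refine Subgroup.mem_zpowers_iff.2 ⟨k, ?_⟩
    rw [hg', map_mul, map_zpow, (hπmem ⟨_, hvL⟩).2 ⟨_, hv', rfl⟩, mul_one]
  have hpair : Pair (π zL) (π tL) := by
    refine ⟨hsc, ?_, ?_⟩
    · rw [← map_mul, show tL * tL = 1 from Subtype.ext (L.sq_one zN_spec.2.2.2.2.2.2.2.1), map_one]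
    · rw [← map_inv, ← map_mul, ← map_mul, ← map_inv]
      refine congrArg _ (Subtype.ext ?_)
      show L.t * L.z * L.t⁻¹ = L.z⁻¹
      rw [← map_inv, ← map_inv, ← map_mul, ← map_mul]
      exact L.ι_eq (by decide +kernel)
  -- lifts of conjugates of `t` are involutions
  have lift_invol : ∀ x : L.La, (∃ l : L.La ⧸ ZL, l * π tL * l⁻¹ = π x) → (x : G) * x = 1 := by
    rintro x ⟨l, hl⟩
    obtain ⟨l, rfl⟩ := QuotientGroup.mk'_surjective ZL l
    obtain ⟨e, he, hx⟩ := hπeq x (l * tL * l⁻¹) (by rw [map_mul, map_mul, map_inv]; exact hl.symm)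
    have hc : Commute ((l * tL * l⁻¹ : L.La) : G) (L.ι e) := L.comm_Z (l * tL * l⁻¹).2 ⟨e, he, rfl⟩
    rw [hx, show ((l * tL * l⁻¹ : L.La) : G) * L.ι e * (((l * tL * l⁻¹ : L.La) : G) * L.ι e) =
      ((l * tL * l⁻¹ : L.La) : G) * (L.ι e * ((l * tL * l⁻¹ : L.La) : G)) * L.ι e by group, ← hc.eq]
    calc ((l * tL * l⁻¹ : L.La) : G) * (((l * tL * l⁻¹ : L.La) : G) * L.ι e) * L.ι e
        = (l : G) * (L.t * L.t) * (l : G)⁻¹ * (L.ι e * L.ι e) := by
          simp only [Subgroup.coe_mul, Subgroup.coe_inv, tL]; group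
      _ = 1 := by rw [L.sq_one zN_spec.2.2.2.2.2.2.2.1, L.sq_one (La_z_aux e he)]; group
  -- the action of `b`
  let φ : L.La →* L.La :=
    { toFun := fun g => ⟨L.b * g * L.b, L.b_La g.2⟩
      map_one' := Subtype.ext (by simp [L.b_sq])
      map_mul' := fun g h => Subtype.ext (by
        show L.b * ((g : G) * h) * L.b = L.b * g * L.b * (L.b * h * L.b)
        calc L.b * ((g : G) * h) * L.b = L.b * g * (1 * h) * L.b := by group
          _ = _ := by rw [← L.b_sq]; group) }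
  have hφφ : ∀ g, φ (φ g) = g := fun g => Subtype.ext (by
    show L.b * (L.b * g * L.b) * L.b = g
    calc L.b * (L.b * (g : G) * L.b) * L.b = L.b * L.b * g * (L.b * L.b) := by group
      _ = g := by rw [L.b_sq, one_mul, mul_one])
  have hφsurj : Function.Surjective φ := fun g => ⟨φ g, hφφ g⟩
  have hφZ : ZL ≤ ZL.comap φ := by
    rintro e ⟨m, hm, hme⟩
    refine ⟨bN * m * bN, ?_, ?_⟩
    · rcases hm with rfl | rfl | rfl | rfl <;> (show _ ∨ _) <;> decide +kernel
    · show L.ι (bN * m * bN) = L.b * (e : G) * L.b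
      rw [map_mul, map_mul]
      exact congrArg (fun w => L.b * w * L.b) hme
  set β := QuotientGroup.map ZL ZL φ hφZ with hβ
  have hβmk : ∀ g : L.La, β (π g) = π (φ g) := fun g => QuotientGroup.map_mk ZL ZL φ hφZ g
  have hββ : ∀ q, β (β q) = q := by
    intro q
    obtain ⟨g, rfl⟩ := QuotientGroup.mk'_surjective ZL q
    rw [hβmk, hβmk, hφφ]
  -- a radical has odd order
  have hodd : ∀ (N : Subgroup (L.La ⧸ ZL)) [N.Normal], ¬ 3 ∣ Nat.card N →
      (Nat.card ((L.La ⧸ ZL) ⧸ N) = 3 ∨ Nonempty ((L.La ⧸ ZL) ⧸ N ≃* Perm (Fin 3)) ∨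
        Nonempty ((L.La ⧸ ZL) ⧸ N ≃* alternatingGroup (Fin 5))) → ¬ 2 ∣ Nat.card N := by
    intro N _ h3 hQ h2
    have hinv : ∀ n ∈ N, β n ∈ N := by
      set W := (N.map β).map (QuotientGroup.mk' N) with hW
      haveI : (N.map β).Normal := Subgroup.Normal.map inferInstance β fun q => ⟨β q, hββ q⟩
      haveI : W.Normal := Subgroup.Normal.map inferInstance _ (QuotientGroup.mk'_surjective N)
      have hW1 := core_trivial hQ W (fun h => h3 (h.trans
        ((Subgroup.card_map_dvd _ _).trans (Subgroup.card_map_dvd _ _))))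
      intro n hn
      rw [← QuotientGroup.eq_one_iff, ← Subgroup.mem_bot, ← hW1]
      exact ⟨β n, ⟨n, hn, rfl⟩, rfl⟩
    obtain ⟨⟨w, hwN⟩, hne, hfix⟩ := exists_second_fixed (f := fun n : N => (⟨β n, hinv n n.2⟩ : N))
      (fun n => Subtype.ext (hββ n)) h2 (x₀ := 1) (Subtype.ext (map_one β))
    have hw1 : w ≠ 1 := fun e => hne (Subtype.ext e)
    obtain ⟨g, rfl⟩ := QuotientGroup.mk'_surjective ZL w
    have hg : (g : G)⁻¹ * (L.b * g * L.b) ∈ L.Zp := by
      have h := congrArg Subtype.val hfix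
      change β (π g) = π g at h
      rw [hβmk] at h
      exact (hπmem (g⁻¹ * φ g)).1 (by rw [map_mul, map_inv, h, inv_mul_cancel])
    obtain ⟨m, hm, hmZ⟩ := fix_b hK g.2 hg
    have hm1L : L.ι (m.1, (1 : Perm (Fin 5))) ∈ L.La := L.mem_La.2
      ⟨Commute.map (Prod.ext (by show m.1 * 1 = 1 * m.1; simp) (by show (1 : Perm (Fin 5)) * a5 = a5 * 1; simp)) L.ι,
        Commute.map (Prod.ext (by show m.1 * 1 = 1 * m.1; simp) (by show (1 : Perm (Fin 5)) * swap 1 2 = swap 1 2 * 1; simp)) L.ι⟩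
    set p : L.La := ⟨_, hm1L⟩
    have hgp : π g = π p := by
      have : g = p * ⟨L.ι (1, m.2), hZL ⟨_, hmZ, rfl⟩⟩ := Subtype.ext (by
        show (g : G) = L.ι (m.1, 1) * L.ι (1, m.2)
        rw [hm, ← map_mul]
        exact L.ι_eq (Prod.ext (mul_one _).symm (one_mul _).symm))
      rw [this, map_mul, (hπmem ⟨L.ι (1, m.2), _⟩).2 ⟨_, hmZ, rfl⟩, mul_one]
    rw [hgp] at hwN hw1
    have hz3 : π zL ∉ N := fun h => h3 (hsc.ord ▸ Subgroup.orderOf_mk _ h ▸ orderOf_dvd_natCard _)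
    rcases three_cases m.1 with e | (e | e) | e
    · exact hw1 (by rw [show p = 1 from Subtype.ext (by
        show L.ι (m.1, 1) = 1
        rw [e]; exact map_one L.ι), map_one])
    · exact hz3 (by rwa [show zL = p from Subtype.ext (L.ι_eq (Prod.ext e.symm rfl))])
    · refine hz3 ?_
      rw [show zL = p⁻¹ from Subtype.ext (by
        show L.z = (L.ι (m.1, 1))⁻¹
        rw [← map_inv]; exact L.ι_eq (Prod.ext (by show c3 = m.1⁻¹; rw [e, inv_inv]) inv_one.symm)), map_inv]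
      exact inv_mem hwN
    · refine hz3 ?_
      have hconj : π p * π zL * (π p)⁻¹ = (π zL)⁻¹ := by
        rw [← map_inv, ← map_mul, ← map_mul, ← map_inv]
        refine congrArg _ (Subtype.ext ?_)
        show L.ι (m.1, 1) * L.z * (L.ι (m.1, 1))⁻¹ = L.z⁻¹
        rw [← map_inv, ← map_inv, ← map_mul, ← map_mul]
        exact L.ι_eq (Prod.ext e (by show (1 : Perm (Fin 5)) * 1 * 1⁻¹ = 1⁻¹; simp))
      have hsq : π zL * π zL ∈ N := by
        have h := mul_mem ((inferInstance : N.Normal).conj_mem _ hwN (π zL)) (inv_mem hwN)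
        rwa [show π zL * π p * (π zL)⁻¹ * (π p)⁻¹ = π zL * (π p * π zL * (π p)⁻¹)⁻¹ by group, hconj, inv_inv] at h
      have := pow_mem hsq 2
      rwa [show (π zL * π zL) ^ 2 = (π zL) ^ 3 * π zL by rw [pow_two, pow_three]; group, hsc.pow_three, one_mul] at this
  rcases tri_of_sc3 _ (L.La ⧸ ZL) (π zL) rfl hsc with ⟨N, hN, -, hco, hq⟩ | ⟨N, hN, -, hel, he⟩ | he
  · haveI := hN
    have h3 : ¬ 3 ∣ Nat.card N := (Nat.Prime.coprime_iff_not_dvd Nat.prime_three).1 hco.symm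
    have h2 := hodd N h3 (by rcases hq with h | h; exacts [Or.inl h, Or.inr (Or.inl h)])
    left
    intro Q hQ hQp
    obtain ⟨k, hk⟩ := IsPGroup.iff_card.1 hQp
    have hdvd : Nat.card Q ∣ Nat.card ((L.La ⧸ ZL) ⧸ N) * Nat.card N * 4 := by
      rw [← Subgroup.card_eq_card_quotient_mul_card_subgroup, ← hZcard,
        ← Subgroup.card_eq_card_quotient_mul_card_subgroup]
      exact Subgroup.card_dvd_of_le hQ
    rcases hq with h | ⟨⟨e⟩⟩
    · rw [hk, h] at hdvd
      exact hk ▸ two_pow_le (n := Nat.card N * 3) (by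
        rw [Nat.Prime.dvd_mul Nat.prime_two]; exact not_or.2 ⟨h2, by norm_num⟩)
        (hdvd.trans ⟨2, by ring⟩)
    · rw [hk, Nat.card_congr e.toEquiv, Nat.card_perm, Nat.card_fin, show Nat.factorial 3 = 6 from rfl] at hdvd
      exact hk ▸ two_pow_le (n := Nat.card N * 3) (by
        rw [Nat.Prime.dvd_mul Nat.prime_two]; exact not_or.2 ⟨h2, by norm_num⟩)
        (by rwa [show 8 * (Nat.card N * 3) = 6 * Nat.card N * 4 by ring])
  · haveI := hN
    have h3 : ¬ 3 ∣ Nat.card N := fun h3 => by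
      obtain ⟨x, hx⟩ := exists_prime_orderOf_dvd_card' 3 h3
      have h2 : orderOf x ∣ 2 := orderOf_dvd_of_pow_eq_one (Subtype.ext (by
        rw [SubmonoidClass.coe_pow]; exact hel _ x.2))
      rw [hx] at h2
      norm_num at h2
    have h2 := hodd N h3 (Or.inr (Or.inr he))
    have hbot : N = ⊥ := by
      rw [Subgroup.eq_bot_iff_forall]
      intro x hx
      by_contra hx1
      haveI := Fact.mk Nat.prime_two
      have h := orderOf_dvd_natCard (⟨x, hx⟩ : N)
      rw [Subgroup.orderOf_mk, orderOf_eq_prime (hel x hx) hx1] at h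
      exact h2 h
    subst hbot
    obtain ⟨e⟩ := he
    obtain ⟨p, w, v, c, hp1, hpt, hcomm, hw, hv, -, hct, hcp, hroots, -⟩ :=
      a5_cent hpair ⟨QuotientGroup.quotientBot.symm.trans e⟩
    obtain ⟨cL, rfl⟩ := QuotientGroup.mk'_surjective ZL c
    set gL := cL * tL * cL⁻¹ with hgL
    have hπg : π gL = p := by rw [hgL, map_mul, map_mul, map_inv]; exact hct
    have hg2 : (gL : G) * gL = 1 := lift_invol gL ⟨w, hw.trans hπg.symm⟩
    have hgt : Commute (gL : G) L.t := by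
      have h := lift_invol (gL * tL) ⟨v, by rw [map_mul, hπg]; exact hv⟩
      exact twist_comm (L.sq_one zN_spec.2.2.2.2.2.2.2.1) h hg2
    have hgCB : (gL : G) ∈ L.CB := L.mem_CB.2 ⟨(L.mem_La.1 gL.2).1, (L.mem_La.1 gL.2).2, hgt⟩
    obtain ⟨e₀, he₀, hcg⟩ := hπeq (cL * gL * cL⁻¹) (tL * gL) (by
      rw [map_mul π (cL * gL), map_mul π cL, map_inv, map_mul π tL, hπg]
      exact hcp.trans hcomm)
    have hgB : (gL : G) ∉ L.Bp := by
      rintro ⟨m, hm, hmg⟩
      have hmem : ∀ e ∈ ZN, ∀ x : L.La, (x : G) = L.ι e → π x = 1 := fun e he x hx =>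
        (hπmem x).2 ⟨e, he, hx.symm⟩
      obtain ⟨-, hj, ha, hk⟩ := B35_gens
      rcases B35_list hm with rfl | rfl | rfl | rfl | rfl | rfl | rfl | rfl
      iterate 4 exact hp1 (hπg ▸ hmem _ (by first
        | exact one_mem _
        | exact Or.inr (Or.inl rfl)
        | exact Or.inr (Or.inr (Or.inl rfl))
        | exact Or.inr (Or.inr (Or.inr rfl))) gL hmg.symm)
      all_goals refine hpt ?_
      · rw [← hπg, show gL = tL from Subtype.ext hmg.symm]
      all_goals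
        rw [map_mul] at hmg
        rw [← hπg]
      · rw [show gL = tL * ⟨L.a, hZL ⟨aN, Or.inr (Or.inl rfl), rfl⟩⟩ from Subtype.ext hmg.symm, map_mul,
          (hπmem ⟨L.a, _⟩).2 ⟨aN, Or.inr (Or.inl rfl), rfl⟩, mul_one]
      · rw [show gL = tL * ⟨L.j, hZL ⟨jN, Or.inr (Or.inr (Or.inl rfl)), rfl⟩⟩ from Subtype.ext hmg.symm, map_mul,
          (hπmem ⟨L.j, _⟩).2 ⟨jN, Or.inr (Or.inr (Or.inl rfl)), rfl⟩, mul_one]
      · rw [show gL = tL * ⟨L.k, hZL ⟨kN, Or.inr (Or.inr (Or.inr rfl)), rfl⟩⟩ from Subtype.ext hmg.symm, map_mul,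
          (hπmem ⟨L.k, _⟩).2 ⟨kN, Or.inr (Or.inr (Or.inr rfl)), rfl⟩, mul_one]
    have hlist : ∀ x : L.La, π x * π tL = π tL * π x →
        ∃ e ∈ ZN, (x : G) = L.ι e ∨ (x : G) = L.t * L.ι e ∨ (x : G) = (gL : G) * L.ι e ∨
          (x : G) = L.t * gL * L.ι e := by
      intro x hx
      rcases hroots _ hx with h | h | h | h
      · obtain ⟨e, he, h'⟩ := hπeq x 1 (h.trans (map_one π).symm)
        exact ⟨e, he, Or.inl (by rw [h', Subgroup.coe_one, one_mul])⟩
      · obtain ⟨e, he, h'⟩ := hπeq x tL h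
        exact ⟨e, he, Or.inr (Or.inl h')⟩
      · obtain ⟨e, he, h'⟩ := hπeq x gL (h.trans hπg.symm)
        exact ⟨e, he, Or.inr (Or.inr (Or.inl h'))⟩
      · obtain ⟨e, he, h'⟩ := hπeq x (tL * gL) (by rw [map_mul, hπg, h]; exact hcomm)
        exact ⟨e, he, Or.inr (Or.inr (Or.inr h'))⟩
    refine Or.inr (Or.inl ⟨⟨gL, cL, e₀, he₀, hgCB, hg2, hgB, cL.2, rfl, hcg, fun x hx => ?_, fun y hy h => ?_⟩⟩)
    · obtain ⟨h1, h2, h3⟩ := L.mem_CB.1 hx
      exact hlist ⟨x, L.mem_La.2 ⟨h1, h2⟩⟩ (by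
        rw [← map_mul, ← map_mul]; exact congrArg π (Subtype.ext h3.eq))
    · obtain ⟨e', he', hye⟩ := h
      have hcom : π ⟨y, hy⟩ * π tL = π tL * π ⟨y, hy⟩ := by
        rw [← mul_inv_eq_iff_eq_mul, ← map_inv, ← map_mul, ← map_mul,
          show (⟨y, hy⟩ : L.La) * tL * (⟨y, hy⟩ : L.La)⁻¹ = tL * ⟨L.ι e', hZL ⟨e', he', rfl⟩⟩ from Subtype.ext hye,
          map_mul, (hπmem ⟨L.ι e', _⟩).2 ⟨e', he', rfl⟩, mul_one]
      obtain ⟨e'', he'', hxe⟩ := hlist ⟨y, hy⟩ hcom
      have hι : L.ι e'' ∈ L.CB := L.Bp_le_CB (L.Zp_le_Bp ⟨e'', he'', rfl⟩)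
      have ht : L.t ∈ L.CB := L.Bp_le_CB ⟨tN, B35_gens.1, rfl⟩
      rcases hxe with h' | h' | h' | h' <;> rw [show y = _ from h']
      exacts [hι, mul_mem ht hι, mul_mem hgCB hι, mul_mem (mul_mem ht hgCB) hι]
  · right; right
    intro R hR hRp hRi
    haveI := Fact.mk Nat.prime_two
    obtain ⟨gq, sq, w, v, hgg, hgroot, hst, hs1, hstne, hsg, hsgi, hw, hv⟩ := l27_cent hpair he
    obtain ⟨gL, rfl⟩ := QuotientGroup.mk'_surjective ZL gq
    obtain ⟨sL, rfl⟩ := QuotientGroup.mk'_surjective ZL sq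
    obtain ⟨e, he', hg2⟩ := hπeq (gL * gL) tL (by rw [map_mul]; exact hgg)
    have hgt : Commute (gL : G) L.t := by
      have hgc : Commute (gL : G) (L.ι e) := L.comm_Z gL.2 ⟨e, he', rfl⟩
      have : L.t = (gL : G) * gL * L.ι e := by
        rw [show (gL : G) * gL = L.t * L.ι e from hg2, mul_assoc, L.sq_one (La_z_aux e he'), mul_one]
      rw [this]
      exact ((Commute.refl _).mul_right (Commute.refl _)).mul_right hgc
    have hst' : Commute (sL : G) L.t :=
      twist_comm (L.sq_one zN_spec.2.2.2.2.2.2.2.1) (lift_invol (sL * tL) ⟨v, by rw [map_mul]; exact hv⟩)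
        (lift_invol sL ⟨w, hw⟩)
    have hs2 := lift_invol sL ⟨w, hw⟩
    set C4 := Subgroup.zpowers (π gL) with hC4
    have hg4 : (π gL) ^ 4 = 1 := by
      rw [show (π gL) ^ 4 = (π gL * π gL) * (π gL * π gL) by rw [show 4 = 2 + 2 from rfl, pow_add, pow_two],
        hgg, hpair.inv]
    have hg2ne : π gL * π gL ≠ 1 := by
      rw [hgg]
      intro h
      have h' := hpair.invert
      rw [h, one_mul, inv_one, mul_one] at h'
      have h3 := hsc.pow_three
      rw [pow_three] at h3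
      nth_rw 2 [h'] at h3
      rw [inv_mul_cancel, mul_one] at h3
      exact hsc.ne_one h3
    have hgord : orderOf (π gL) = 4 := orderOf_eq_prime_pow (p := 2) (n := 1)
      (by rw [pow_one, pow_two]; exact hg2ne) (by rw [show 2 ^ (1 + 1) = 4 from rfl]; exact hg4)
    have hCcard : Nat.card C4 = 4 := by rw [hC4, Nat.card_zpowers, hgord]
    have hC4mem : ∀ q ∈ C4, q = 1 ∨ q = π gL ∨ q = π tL ∨ q = (π gL)⁻¹ := by
      intro q hq
      obtain ⟨n, rfl⟩ := Subgroup.mem_zpowers_iff.1 hq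
      rw [← zpow_mod_orderOf, hgord]
      obtain h | h | h | h : n % ((4 : ℕ) : ℤ) = 0 ∨ n % ((4 : ℕ) : ℤ) = 1 ∨ n % ((4 : ℕ) : ℤ) = 2 ∨
          n % ((4 : ℕ) : ℤ) = 3 := by omega
      all_goals rw [h]
      · exact Or.inl (zpow_zero _)
      · exact Or.inr (Or.inl (zpow_one _))
      · refine Or.inr (Or.inr (Or.inl ?_))
        rw [show (2 : ℤ) = ((2 : ℕ) : ℤ) from rfl, zpow_natCast, pow_two, hgg]
      · refine Or.inr (Or.inr (Or.inr (eq_inv_of_mul_eq_one_left ?_)))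
        rw [show (3 : ℤ) = ((3 : ℕ) : ℤ) from rfl, zpow_natCast, ← pow_succ, hg4]
    set K16 := (C4.comap π).map L.La.subtype with hK16
    have hK16CB : K16 ≤ L.CB := by
      rintro _ ⟨x, hx, rfl⟩
      obtain ⟨n, hn⟩ := Subgroup.mem_zpowers_iff.1 hx
      obtain ⟨e', he'', hxe⟩ := hπeq x (gL ^ n) (by rw [map_zpow]; exact hn.symm)
      have ht : L.ι e' ∈ L.CB := L.Bp_le_CB (L.Zp_le_Bp ⟨e', he'', rfl⟩)
      show (x : G) ∈ L.CB
      rw [hxe, Subgroup.coe_zpow]
      exact mul_mem (zpow_mem (L.mem_CB.2 ⟨(L.mem_La.1 gL.2).1, (L.mem_La.1 gL.2).2, hgt⟩) _) ht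
    have hK16card : Nat.card K16 = 16 := by
      rw [hK16, Subgroup.card_map_of_injective L.La.subtype_injective]
      have h := Subgroup.card_eq_card_quotient_mul_card_subgroup (C4.comap π)
      have h' := Subgroup.card_eq_card_quotient_mul_card_subgroup ZL
      have hidx : (C4.comap π).index = C4.index := Subgroup.index_comap_of_surjective C4 (QuotientGroup.mk'_surjective ZL)
      have hm := (C4.comap π).index_mul_card
      have hm' := C4.index_mul_card
      rw [hidx] at hm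
      rw [hZcard] at h'
      rw [hCcard] at hm'
      have hpos := Nat.pos_of_ne_zero C4.index_ne_zero_of_finite
      rw [← hm, ← hm'] at h'
      exact Nat.eq_of_mul_eq_mul_left hpos (by rw [h']; ring)
    have hsK : (sL : G) ∈ L.CB := L.mem_CB.2 ⟨(L.mem_La.1 sL.2).1, (L.mem_La.1 sL.2).2, hst'⟩
    have hsN : (sL : G) ∈ Subgroup.normalizer (K16 : Set G) := by
      refine CfsgLib.A8ThreeLocal.Loc.normalises_of ?_
      rintro _ ⟨x, hx, rfl⟩
      refine ⟨sL * x * sL⁻¹, ?_, rfl⟩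
      show π (sL * x * sL⁻¹) ∈ C4
      have hfix : π sL * π tL * (π sL)⁻¹ = π tL := by rw [hst, mul_inv_cancel_right]
      have hroot : π sL * π gL * (π sL)⁻¹ ∈ C4 := by
        rcases hgroot (π sL * π gL * (π sL)⁻¹) (by
          rw [show π sL * π gL * (π sL)⁻¹ * (π sL * π gL * (π sL)⁻¹) = π sL * (π gL * π gL) * (π sL)⁻¹ by group,
            hgg, hfix]) with h | h <;> rw [h]
        exacts [Subgroup.mem_zpowers _, inv_mem (Subgroup.mem_zpowers _)]
      obtain ⟨n, hn⟩ := Subgroup.mem_zpowers_iff.1 (show π x ∈ C4 from hx)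
      rw [map_mul, map_mul, map_inv, ← hn, ← conj_zpow]
      exact zpow_mem hroot n
    set Q := Subgroup.zpowers (sL : G) ⊔ K16 with hQdef
    have hsord : IsPGroup 2 (Subgroup.zpowers (sL : G)) := fun x => ⟨1, Subtype.ext (by
      obtain ⟨n, hn⟩ := Subgroup.mem_zpowers_iff.1 x.2
      rw [pow_one, SubmonoidClass.coe_pow, ← hn, ← zpow_natCast, ← zpow_mul, mul_comm, zpow_mul, zpow_natCast,
        pow_two, hs2, one_zpow, Subgroup.coe_one])⟩
    have hQp : IsPGroup 2 Q := hsord.to_sup_of_normal_right'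
      (IsPGroup.of_card (n := 4) (by rw [hK16card]; norm_num)) (Subgroup.zpowers_le.2 hsN)
    have hQCB : Q ≤ L.CB := sup_le (Subgroup.zpowers_le.2 hsK) hK16CB
    have hsnot : (sL : G) ∉ K16 := by
      rintro ⟨x, hx, hxs⟩
      rw [show x = sL from Subtype.ext hxs] at hx
      rcases hC4mem _ hx with h | h | h | h
      exacts [hs1 h, hsg h, hstne h, hsgi h]
    obtain ⟨k, hk⟩ := IsPGroup.iff_card.1 hQp
    have h32 : 32 ≤ Nat.card Q := by
      have hlt : Nat.card K16 < Nat.card Q := by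
        refine lt_of_le_of_ne (Nat.le_of_dvd Nat.card_pos (Subgroup.card_dvd_of_le le_sup_right)) fun h => hsnot ?_
        rw [Subgroup.eq_of_le_of_card_ge (le_sup_right : K16 ≤ Q) h.ge]
        exact (le_sup_left : Subgroup.zpowers (sL : G) ≤ Q) (Subgroup.mem_zpowers _)
      rw [hK16card, hk] at hlt
      rw [hk]
      have hk5 : 5 ≤ k := by
        by_contra hk5
        have : 2 ^ k ≤ 2 ^ 4 := Nat.pow_le_pow_right (by norm_num) (by omega)
        omega
      calc 32 = 2 ^ 5 := by norm_num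
        _ ≤ _ := Nat.pow_le_pow_right (by norm_num) hk5
    refine h32.trans (Nat.le_of_dvd Nat.card_pos ?_)
    have hd : Nat.card Q ∣ R.relIndex L.CB * Nat.card R := by
      rw [← Subgroup.relIndex_bot_left R, mul_comm, Subgroup.relIndex_mul_relIndex ⊥ R L.CB bot_le hR,
        Subgroup.relIndex_bot_left]
      exact Subgroup.card_dvd_of_le hQCB
    rw [hk] at hd ⊢
    exact (Nat.Coprime.pow_left k ((Nat.Prime.coprime_iff_not_dvd Nat.prime_two).2 hRi)).dvd_of_dvd_mul_left hd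

end Data

end CfsgLib.S8ThreeLocal
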