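import Cfsg.Agent.Lib.S8ThreeLocal.Basic

/-!
The group centralising an alternating group of degree four: its image in the symmetric group of degree five.
-/

set_option autoImplicit false
set_option maxRecDepth 8000
set_option synthInstance.maxSize 1024

namespace CfsgLib.S8ThreeLocal

open Equiv Equiv.Perm CfsgLib.A8ThreeLocal

/-- The value of a word in three letters. -/
def evalW {M : Type*} [Monoid M] (f : Fin 3 → M) (w : List (Fin 3)) : M := (w.map f).prod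

theorem evalW_mem {M : Type*} [Group M] {H : Subgroup M} {f : Fin 3 → M} (h : ∀ i, f i ∈ H) (w : List (Fin 3)) :
    evalW f w ∈ H := Subgroup.list_prod_mem H (by intro x hx; obtain ⟨i, -, rfl⟩ := List.mem_map.1 hx; exact h i)

/-- Three letters. -/
def let3 (c t q : Perm (Fin 5)) : Fin 3 → Perm (Fin 5) := ![c, t, q]

/-- Being a power of the distinguished three-cycle. -/
def Pow034 (q : Perm (Fin 5)) : Prop := q = 1 ∨ q = c034 ∨ q = c034⁻¹

instance (q : Perm (Fin 5)) : Decidable (Pow034 q) := by unfold Pow034; infer_instance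

/-- Words. -/
def wBadA : List (List (Fin 3)) :=
  [[2], [2, 0, 0, 2, 1], [2, 0, 2, 2, 1, 0, 2], [2, 0, 2, 2, 1, 2], [2, 0, 2, 1], [2, 0, 1, 2],
   [2, 2, 0, 2, 1, 2], [2, 2, 0, 1, 2, 2], [2, 2, 1], [2, 2, 1, 0, 2, 2], [2, 2, 1, 2, 2], [2, 1],
   [2, 1, 0, 2], [2, 1, 2], [2, 1, 2, 0, 2, 2], [2, 1, 2, 2, 0, 2]]

/-- Words. -/
def wJoin : List (List (Fin 3)) :=
  [[0, 0, 2], [0, 0, 2, 0], [0, 2], [0, 2, 0], [0, 2, 0, 0], [0, 2, 1], [0, 1, 2], [0, 1, 2, 0, 0], [2],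
   [2, 0], [2, 0, 0], [2, 2, 1], [2, 1], [2, 1, 0], [2, 1, 2], [1, 0, 2, 0], [1, 2, 0]]

/-- Words. -/
def wBadB : List (List (Fin 3)) :=
  [[2], [2, 0, 2, 0, 0, 2, 1], [2, 0, 2, 0, 2, 1], [2, 0, 2, 0, 2, 1, 0, 2, 0, 2],
   [2, 0, 2, 0, 2, 1, 2, 0, 2], [2, 0, 2, 2, 2, 0, 2], [2, 0, 2, 1, 2, 0, 2, 0, 2], [2, 0, 1, 2, 1, 0, 2],
   [2, 2, 0, 0, 2, 1], [2, 2, 0, 2, 1], [2, 2, 2, 0, 1, 2, 2], [2, 2, 2, 1], [2, 2, 2, 1, 2, 2],
   [2, 2, 1, 2, 2, 2], [2, 1], [2, 1, 2, 0, 1, 2], [2, 1, 2, 1, 0, 2], [2, 1, 2, 1, 2]]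

/-- Words. -/
def wFour : List (List (Fin 3)) :=
  [[0, 0, 2], [0, 0, 2, 0], [0, 0, 2, 0, 0], [0, 2], [0, 2, 0], [0, 2, 0, 0], [0, 2, 0, 2, 0], [0, 2, 2],
   [0, 2, 2, 0], [0, 2, 2, 1], [0, 2, 1], [0, 2, 1, 0], [0, 2, 1, 0, 2, 0, 0], [0, 2, 1, 0, 2, 1, 0],
   [0, 2, 1, 2], [0, 2, 1, 2, 1], [0, 1, 2], [0, 1, 2, 0], [0, 1, 2, 0, 0], [0, 1, 2, 2], [0, 1, 2, 1, 2],
   [2], [2, 0], [2, 0, 0], [2, 0, 0, 2], [2, 0, 2], [2, 0, 2, 1], [2, 0, 1, 2], [2, 0, 1, 2, 1], [2, 2, 0],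
   [2, 2, 0, 0], [2, 2, 0, 1, 2], [2, 2, 2, 0], [2, 2, 1, 0], [2, 2, 1, 2], [2, 1], [2, 1, 0], [2, 1, 0, 2],
   [2, 1, 0, 2, 1], [2, 1, 2, 0], [2, 1, 2, 0, 0], [2, 1, 2, 2], [2, 1, 2, 1, 0], [1, 0, 2, 0],
   [1, 0, 2, 0, 2, 0], [1, 2, 0], [1, 2, 2, 0], [1, 2, 1, 2, 0]]

theorem badA : ∀ q : Perm (Fin 5), q 1 = 1 ∨ q 2 = 2 ∨
    wBadA.any (fun w => decide (evalW (let3 c034 (swap 3 4) q) w * c034 = c034 * evalW (let3 c034 (swap 3 4) q) w ∧
      ¬ Pow034 (evalW (let3 c034 (swap 3 4) q) w))) = true := by decide +kernel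

theorem joinA : ∀ q : Perm (Fin 5), (q 1 = 1 ∧ q 2 = 2) ∨ (q 1 ≠ 1 ∧ q 2 ≠ 2) ∨
    wJoin.any (fun w => decide (evalW (let3 c034 (swap 3 4) q) w = swap 0 1 ∨
      evalW (let3 c034 (swap 3 4) q) w = swap 0 2)) = true := by decide +kernel

theorem badB : ∀ q : Perm (Fin 5), sign q = 1 ∨
    wBadB.any (fun w => decide (evalW (let3 c034 a5 q) w * c034 = c034 * evalW (let3 c034 a5 q) w ∧
      ¬ Pow034 (evalW (let3 c034 a5 q) w))) = true := by decide +kernel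

/-- Being in the symmetric group of degree three twisted by the transposition of the two other points. -/
def InTwist (q : Perm (Fin 5)) : Prop := ∃ i : Fin 3, ∃ e : Fin 2, q = c034 ^ i.val * a5 ^ e.val

instance (q : Perm (Fin 5)) : Decidable (InTwist q) := by unfold InTwist; infer_instance

theorem fourB : ∀ q : Perm (Fin 5), sign q = -1 ∨ InTwist q ∨
    wFour.any (fun w => decide (evalW (let3 c034 a5 q) w = b5)) = true := by decide +kernel

theorem fix_other : ∀ q : Perm (Fin 5), q 1 = 1 → q 2 = 2 → ∃ i : Fin 3, ∃ e : Fin 2,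
    q = c034 ^ i.val * (swap 3 4) ^ e.val := by decide +kernel

theorem cent_c234' : ∀ q : Perm (Fin 5), (q = 1 ∨ q = a5 ∨ q = b5 ∨ q = a5 * b5) → q * c234 = c234 * q → q = 1 := by
  decide +kernel

theorem b5_order : orderOf (c034 * b5) = 5 ∧ orderOf c034 = 3 ∧ c034 ∈ alternatingGroup (Fin 5) ∧
    a5 ∈ alternatingGroup (Fin 5) ∧ b5 ∈ alternatingGroup (Fin 5) := by
  haveI : Fact (Nat.Prime 5) := ⟨by norm_num⟩
  haveI := Fact.mk Nat.prime_three
  exact ⟨orderOf_eq_prime (by decide +kernel) (by decide +kernel), orderOf_eq_prime (by decide) (by decide),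
    Equiv.Perm.mem_alternatingGroup.2 (by decide), Equiv.Perm.mem_alternatingGroup.2 (by decide),
    Equiv.Perm.mem_alternatingGroup.2 (by decide)⟩

/-- A subgroup containing a three-cycle and a four-group in general position contains all even permutations. -/
theorem even_mem {S : Subgroup (Perm (Fin 5))} (h1 : c034 ∈ S) (h2 : a5 ∈ S) (h3 : b5 ∈ S) {q : Perm (Fin 5)}
    (hq : sign q = 1) : q ∈ S := by
  set T := S ⊓ alternatingGroup (Fin 5)
  obtain ⟨o5, o3, e1, e2, e3⟩ := b5_order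
  have hdvd : ∀ {w : Perm (Fin 5)}, w ∈ T → orderOf w ∣ Nat.card T := fun {w} hw =>
    Subgroup.orderOf_mk w hw ▸ orderOf_dvd_natCard _
  have d5 := hdvd (show c034 * b5 ∈ T from mul_mem ⟨h1, e1⟩ ⟨h3, e3⟩)
  have d3 := hdvd (show c034 ∈ T from ⟨h1, e1⟩)
  rw [o5] at d5
  rw [o3] at d3
  have d4 : 4 ∣ Nat.card T := by
    let V : Subgroup (Perm (Fin 5)) :=
      { carrier := {w | w = 1 ∨ w = a5 ∨ w = b5 ∨ w = a5 * b5}
        one_mem' := Or.inl rfl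
        inv_mem' := by rintro w (rfl | rfl | rfl | rfl) <;> simp only [Set.mem_setOf_eq] <;> decide +kernel
        mul_mem' := by
          rintro v w (rfl | rfl | rfl | rfl) (rfl | rfl | rfl | rfl) <;> simp only [Set.mem_setOf_eq] <;> decide +kernel }
    have hV : Nat.card V = 4 := by
      show Nat.card {w : Perm (Fin 5) // w = 1 ∨ w = a5 ∨ w = b5 ∨ w = a5 * b5} = 4
      rw [Nat.card_eq_fintype_card]; decide +kernel
    refine hV ▸ Subgroup.card_dvd_of_le ?_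
    rintro w (rfl | rfl | rfl | rfl)
    exacts [one_mem _, ⟨h2, e2⟩, ⟨h3, e3⟩, mul_mem (show a5 ∈ T from ⟨h2, e2⟩) ⟨h3, e3⟩]
  have h60 : Nat.card (alternatingGroup (Fin 5)) = 60 := by
    rw [nat_card_alternatingGroup, Nat.card_fin]; rfl
  have hT : T = alternatingGroup (Fin 5) := by
    refine Subgroup.eq_of_le_of_card_ge inf_le_right ?_
    rw [h60]
    exact Nat.le_of_dvd Nat.card_pos (Nat.Coprime.mul_dvd_of_dvd_of_dvd (show Nat.Coprime 12 5 by norm_num)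
      (Nat.Coprime.mul_dvd_of_dvd_of_dvd (show Nat.Coprime 4 3 by norm_num) d4 d3) d5)
  exact (hT ▸ Equiv.Perm.mem_alternatingGroup.2 hq : q ∈ T).1

/-- `(1, (0 2))` -/
def hN : N35 := (1, swap 0 2)

theorem hN_spec : hN * hN = 1 ∧ hN * uN * hN = rN ∧ hN * zN * hN = zN ∧ hN * tN * hN = tN := by decide +kernel

universe u

variable {G : Type u} [Group G]

namespace Data

variable (L : Data G)

/-- The element carrying `u` to `z` and `z` to `r`. -/
def g0 : G := L.ι hN * L.σ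

/-- Transport by the distinguished element. -/
abbrev ψ : N35 →* G := (MulAut.conj L.g0).toMonoidHom.comp L.ι

theorem ψ_inj : Function.Injective L.ψ := (MulAut.conj L.g0).injective.comp L.inj

theorem ψ_apply (m : N35) : L.ψ m = L.ι hN * (L.σ * L.ι m * L.σ) * L.ι hN := by
  show L.ι hN * L.σ * L.ι m * (L.ι hN * L.σ)⁻¹ = _
  rw [mul_inv_rev, L.σ_inv, inv_eq_of_mul_eq_one_right (L.sq_one hN_spec.1)]
  group

theorem ψ_u : L.ψ uN = L.z := by
  rw [L.ψ_apply, L.σ_u, ← map_mul, ← map_mul]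
  exact L.ι_eq hN_spec.2.2.1

theorem ψ_z : L.ψ zN = L.ι rN := by
  rw [L.ψ_apply, L.σ_z, ← map_mul, ← map_mul]
  exact L.ι_eq hN_spec.2.1

theorem σ_of_t {x : N35} (h : L.σ * L.t * L.σ = L.ι x) : L.ψ x = L.t := by
  rw [L.ψ_apply, ← h, L.σ_σ, ← map_mul, ← map_mul]
  exact L.ι_eq hN_spec.2.2.2

/-- The centraliser of the alternating group of degree four on four points. -/
def X : Subgroup G :=
  Subgroup.centralizer ({L.a} : Set G) ⊓ Subgroup.centralizer ({L.b} : Set G) ⊓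
    Subgroup.centralizer ({L.ι rN} : Set G)

theorem mem_X {x : G} : x ∈ L.X ↔ Commute x L.a ∧ Commute x L.b ∧ Commute x (L.ι rN) := by
  rw [X, Subgroup.mem_inf, Subgroup.mem_inf, Subgroup.mem_centralizer_singleton_iff,
    Subgroup.mem_centralizer_singleton_iff, Subgroup.mem_centralizer_singleton_iff, and_assoc]
  rfl

theorem ι_mem_X {m : N35} (ha : m * aN = aN * m) (hb : m * bN = bN * m) (hr : m * rN = rN * m) : L.ι m ∈ L.X :=
  L.mem_X.2 ⟨Commute.map ha L.ι, Commute.map hb L.ι, Commute.map hr L.ι⟩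

theorem z_mem_X : L.z ∈ L.X := L.ι_mem_X (by decide +kernel) (by decide +kernel) (by decide +kernel)

theorem t_mem_X : L.t ∈ L.X := L.ι_mem_X (by decide +kernel) (by decide +kernel) (by decide +kernel)

theorem X_coord {x : G} (hx : x ∈ L.X) : ∃ m, L.ψ m = x ∧ (m.1 = 1 ∨ m.1 = c3 ∨ m.1 = c3⁻¹) := by
  have hc : Commute (L.g0⁻¹ * x * L.g0) L.z := by
    have h := (L.mem_X.1 hx).2.2.map (MulAut.conj L.g0⁻¹).toMonoidHom
    simp only [MulEquiv.coe_toMonoidHom, MulAut.conj_apply, inv_inv] at h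
    rwa [← L.ψ_z, show L.g0⁻¹ * L.ψ zN * L.g0 = L.z by
      show L.g0⁻¹ * (L.g0 * L.z * L.g0⁻¹) * L.g0 = L.z
      group] at h
  obtain ⟨m, hm, hp⟩ := L.mem_cz hc
  refine ⟨m, ?_, hp⟩
  show L.g0 * L.ι m * L.g0⁻¹ = x
  rw [hm]; group

theorem X_z {x : G} (hx : x ∈ L.X) (hz : Commute x L.z) : x ∈ Subgroup.zpowers L.z := by
  obtain ⟨m, rfl, hp⟩ := L.mem_cz hz
  obtain ⟨h1, h2, h3⟩ := L.mem_X.1 hx
  have hq : ∀ n, Commute (L.ι m) (L.ι n) → m.2 * n.2 = n.2 * m.2 := fun n hn =>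
    congrArg Prod.snd (L.inj (by rw [map_mul, map_mul]; exact hn.eq) : m * n = n * m)
  have hq1 : m.2 = 1 := cent_c234' _ (cent_four m.2 (hq aN h1) (hq bN h2)) (hq rN h3)
  rcases hp with e | e | e
  · rw [show m = 1 from Prod.ext e hq1, map_one]; exact one_mem _
  · rw [show m = zN from Prod.ext e hq1]; exact Subgroup.mem_zpowers _
  · rw [show m = zN⁻¹ from Prod.ext e (hq1.trans inv_one.symm), map_inv]
    exact inv_mem (Subgroup.mem_zpowers _)

/-- The image in the symmetric group of degree five. -/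
def Q5 : Subgroup (Perm (Fin 5)) := (L.X.comap L.ψ).map (MonoidHom.snd (Perm (Fin 3)) (Perm (Fin 5)))

theorem mem_Q5 {m : N35} (h : L.ψ m ∈ L.X) : m.2 ∈ L.Q5 := ⟨m, h, rfl⟩

theorem ker_Q5 {m : N35} (h : L.ψ m ∈ L.X) (hp : m.1 = 1 ∨ m.1 = c3 ∨ m.1 = c3⁻¹) (h1 : m.2 = 1) : m = 1 := by
  rcases hp with e | e | e
  · exact Prod.ext e h1
  all_goals
    exfalso
    have hr : L.ι rN ∈ L.X := by
      first
        | (rw [show m = zN from Prod.ext e h1, L.ψ_z] at h; exact h)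
        | (rw [show m = zN⁻¹ from Prod.ext e (h1.trans inv_one.symm), map_inv, L.ψ_z, inv_mem_iff] at h; exact h)
    have := congrArg Prod.snd (L.inj (by rw [map_mul, map_mul]; exact (L.mem_X.1 hr).1.eq) : rN * aN = aN * rN)
    revert this
    decide +kernel

theorem c034_mem : c034 ∈ L.Q5 := L.mem_Q5 (m := uN) (by rw [L.ψ_u]; exact L.z_mem_X)

theorem Q5_cent {q : Perm (Fin 5)} (hq : q ∈ L.Q5) (hc : q * c034 = c034 * q) : Pow034 q := by
  obtain ⟨m, hm, rfl⟩ := hq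
  have hx : L.ψ m ∈ L.X := hm
  have hu : Commute (L.ψ m) L.z := by
    rw [← L.ψ_u]
    exact Commute.map (Prod.ext (by show m.1 * 1 = 1 * m.1; simp) hc) L.ψ
  obtain ⟨k, hk⟩ := Subgroup.mem_zpowers_iff.1 (L.X_z hx hu)
  rw [← L.ψ_u, ← map_zpow] at hk
  have e : m = uN ^ k := (L.ψ_inj hk).symm
  have e2 : m.2 = c034 ^ (k % 3) := by
    rw [e]
    show c034 ^ k = _
    conv_lhs => rw [← Int.emod_add_mul_ediv k 3, zpow_add, zpow_mul, show c034 ^ (3 : ℤ) = 1 by decide +kernel,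
      one_zpow, mul_one]
  show Pow034 m.2
  rw [e2]
  obtain h | h | h : k % 3 = 0 ∨ k % 3 = 1 ∨ k % 3 = 2 := by omega
  all_goals rw [h]; unfold Pow034; decide +kernel

/-- The centraliser is the symmetric group of degree three. -/
def SmallX : Prop := ∀ x ∈ L.X, ∃ p : Perm (Fin 3), x = L.ι (p, 1)

theorem small_of {τ : N35} (hτ : L.ψ τ = L.t) (hτ1 : τ.1 = 1)
    (h : ∀ q ∈ L.Q5, ∃ i : Fin 3, ∃ e : Fin 2, q = c034 ^ i.val * τ.2 ^ e.val) : L.SmallX := by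
  intro x hx
  obtain ⟨m, rfl, hp⟩ := L.X_coord hx
  obtain ⟨i, e, hq⟩ := h m.2 (L.mem_Q5 hx)
  set n := uN ^ i.val * τ ^ e.val with hn
  have hn' : L.ψ n = L.ι (zN ^ i.val * tN ^ e.val) := by
    rw [hn, map_mul L.ψ, map_pow L.ψ, map_pow L.ψ, L.ψ_u, hτ, map_mul, map_pow, map_pow]
  have hnX : L.ψ n ∈ L.X := by
    rw [hn, map_mul L.ψ, map_pow L.ψ, map_pow L.ψ, L.ψ_u, hτ]
    exact mul_mem (pow_mem L.z_mem_X _) (pow_mem L.t_mem_X _)
  have hk : m * n⁻¹ = 1 := by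
    refine L.ker_Q5 (by rw [map_mul, map_inv]; exact mul_mem hx (inv_mem hnX)) ?_ ?_
    · show m.1 * n.1⁻¹ = 1 ∨ m.1 * n.1⁻¹ = c3 ∨ m.1 * n.1⁻¹ = c3⁻¹
      rw [show n.1 = 1 by show (1 : Perm (Fin 3)) ^ i.val * τ.1 ^ e.val = 1; simp [hτ1], inv_one, mul_one]
      exact hp
    · show m.2 * n.2⁻¹ = 1
      rw [mul_inv_eq_one]; exact hq
  rw [mul_inv_eq_one] at hk
  refine ⟨c3 ^ i.val * (swap 0 1) ^ e.val, ?_⟩
  rw [hk, hn']
  exact L.ι_eq (Prod.ext rfl (by show (1 : Perm (Fin 5)) ^ i.val * 1 ^ e.val = 1; simp))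

theorem invol_coord {q : Perm (Fin 5)} (hq : q ∈ L.Q5) (h2 : q * q = 1) : L.ψ (1, q) ∈ L.X := by
  obtain ⟨m, hm, rfl⟩ := hq
  obtain ⟨m', hm', hp⟩ := L.X_coord hm
  obtain rfl := L.ψ_inj hm'
  have h1 : m' * m' = 1 := L.ker_Q5 (by rw [map_mul]; exact mul_mem hm hm) (by
    show m'.1 * m'.1 = 1 ∨ m'.1 * m'.1 = c3 ∨ m'.1 * m'.1 = c3⁻¹
    rcases hp with e | e | e <;> rw [e] <;> decide) h2
  have hp1 : m'.1 = 1 := even_three_invol _ (by rcases hp with e | e | e <;> rw [e] <;> decide)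
    (congrArg Prod.fst h1)
  rwa [show (1, (MonoidHom.snd (Perm (Fin 3)) (Perm (Fin 5))) m') = m' from Prod.ext hp1.symm rfl]

/-- **The first case**: small, or a transposition joins the two blocks. -/
theorem options_A (hA : L.σ * L.t * L.σ = L.k) :
    L.SmallX ∨ ∃ x : Fin 5, (x = 1 ∨ x = 2) ∧ L.ψ (1, swap 0 x) ∈ L.X := by
  have ht := L.σ_of_t hA
  have hmem : ∀ q ∈ L.Q5, ∀ i, let3 c034 (swap 3 4) q i ∈ L.Q5 := by
    intro q hq i
    fin_cases i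
    exacts [L.c034_mem, L.mem_Q5 (m := kN) (by rw [ht]; exact L.t_mem_X), hq]
  have hfix : ∀ q ∈ L.Q5, q 1 = 1 ∨ q 2 = 2 := by
    intro q hq
    rcases badA q with h | h | h
    · exact Or.inl h
    · exact Or.inr h
    · obtain ⟨w, -, hw⟩ := List.any_eq_true.1 h
      obtain ⟨h1, h2⟩ := of_decide_eq_true hw
      exact absurd (L.Q5_cent (evalW_mem (hmem q hq) w) h1) h2
  by_cases hall : ∀ q ∈ L.Q5, q 1 = 1 ∧ q 2 = 2
  · exact Or.inl (L.small_of ht rfl fun q hq => fix_other q (hall q hq).1 (hall q hq).2)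
  push Not at hall
  obtain ⟨q, hq, hne⟩ := hall
  right
  rcases joinA q with h | h | h
  · exact absurd h.2 (hne h.1)
  · exact absurd (hfix q hq) (by tauto)
  · obtain ⟨w, -, hw⟩ := List.any_eq_true.1 h
    have hm := evalW_mem (hmem q hq) w
    rcases of_decide_eq_true hw with e | e <;> rw [e] at hm
    · exact ⟨1, Or.inl rfl, L.invol_coord hm (by decide)⟩
    · exact ⟨2, Or.inr rfl, L.invol_coord hm (by decide)⟩

/-- **The second case**: small, or an alternating group of degree five. -/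
theorem options_B (hB : L.σ * L.t * L.σ = L.a) :
    L.SmallX ∨ ((∀ q : Perm (Fin 5), sign q = 1 → L.ψ (1, q) ∈ L.X) ∧
      ∀ x ∈ L.X, ∃ q : Perm (Fin 5), sign q = 1 ∧ x = L.ψ (1, q)) := by
  have ht := L.σ_of_t hB
  have haQ : a5 ∈ L.Q5 := L.mem_Q5 (m := aN) (by rw [ht]; exact L.t_mem_X)
  have hmem : ∀ q ∈ L.Q5, ∀ i, let3 c034 a5 q i ∈ L.Q5 := by
    intro q hq i
    fin_cases i
    exacts [L.c034_mem, haQ, hq]
  have heven : ∀ q ∈ L.Q5, sign q = 1 := by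
    intro q hq
    rcases badB q with h | h
    · exact h
    · obtain ⟨w, -, hw⟩ := List.any_eq_true.1 h
      obtain ⟨h1, h2⟩ := of_decide_eq_true hw
      exact absurd (L.Q5_cent (evalW_mem (hmem q hq) w) h1) h2
  by_cases hall : ∀ q ∈ L.Q5, InTwist q
  · exact Or.inl (L.small_of ht rfl hall)
  push Not at hall
  obtain ⟨q, hq, hne⟩ := hall
  right
  have hbQ : b5 ∈ L.Q5 := by
    rcases fourB q with h | h | h
    · rw [heven q hq] at h; exact absurd h (by decide)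
    · exact absurd h hne
    · obtain ⟨w, -, hw⟩ := List.any_eq_true.1 h
      have hm := evalW_mem (hmem q hq) w
      rwa [of_decide_eq_true hw] at hm
  let S : Subgroup (Perm (Fin 5)) := (L.X.comap L.ψ).comap (MonoidHom.inr (Perm (Fin 3)) (Perm (Fin 5)))
  have hS : ∀ q, sign q = 1 → q ∈ S := fun q => even_mem (S := S)
    (by show L.ψ uN ∈ L.X; rw [L.ψ_u]; exact L.z_mem_X) (L.invol_coord haQ (by decide)) (L.invol_coord hbQ (by decide))
  refine ⟨hS, fun x hx => ?_⟩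
  obtain ⟨m, rfl, hp⟩ := L.X_coord hx
  have hs := heven _ (L.mem_Q5 hx)
  refine ⟨m.2, hs, congrArg L.ψ ?_⟩
  have h1 : m * ((1 : Perm (Fin 3)), m.2)⁻¹ = 1 :=
    L.ker_Q5 (by rw [map_mul, map_inv]; exact mul_mem hx (inv_mem (hS _ hs)))
      (by show m.1 * 1⁻¹ = 1 ∨ m.1 * 1⁻¹ = c3 ∨ m.1 * 1⁻¹ = c3⁻¹; rw [inv_one, mul_one]; exact hp)
      (mul_inv_cancel m.2)
  exact mul_inv_eq_one.1 h1

end Data

end CfsgLib.S8ThreeLocal
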