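import Cfsg.Agent.Lib.S8ThreeLocal.Small
import Cfsg.Agent.Lib.A8ThreeLocal.Setup

/-!
The local data at the prime three for the symmetric group of degree eight, in coordinates.
-/

set_option autoImplicit false
set_option maxRecDepth 8000

namespace CfsgLib.S8ThreeLocal

open Equiv Equiv.Perm CfsgLib.A8ThreeLocal

universe u

/-- The three-local data, in coordinates. -/
structure Data (G : Type u) [Group G] where
  /-- the identification of the normalizer of the subgroup of the distinguished element of order three -/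
  ι : N35 →* G
  /-- it is injective -/
  inj : Function.Injective ι
  /-- it covers that normalizer -/
  cover : ∀ g : G, g * ι zN * g⁻¹ = ι zN ∨ g * ι zN * g⁻¹ = (ι zN)⁻¹ → ∃ m, ι m = g
  /-- the Sylow three-subgroup -/
  D : Subgroup G
  /-- its elements -/
  memD : ∀ g : G, g ∈ D ↔ ∃ i j : Fin 3, g = ι (zN ^ i.val * uN ^ j.val)
  /-- its order -/
  cardD : Nat.card D = 9
  /-- it is a Sylow subgroup -/
  notdvd : ¬ 27 ∣ Nat.card G
  /-- an involution exchanging the two factors of the Sylow subgroup -/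
  σ : G
  /-- it is an involution -/
  σ_sq : σ * σ = 1
  /-- it exchanges the two distinguished elements -/
  σ_z : σ * ι zN * σ = ι uN
  /-- it centralises the involution of the centraliser of the Sylow subgroup -/
  σ_j : σ * ι jN * σ = ι jN
  /-- the two possibilities for the image of the first transposition -/
  σ_t : σ * ι tN * σ = ι kN ∨ σ * ι tN * σ = ι aN
  /-- the diagonal element has centraliser of order thirty-six -/
  card36 : Nat.card (Subgroup.centralizer ({ι (zN * uN)} : Set G)) = 36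

variable {G : Type u} [Group G]

/-- The image of `z`, and the elements commuting with it, in coordinates. -/
theorem exists_ι {z : G} (eL : Subgroup.normalizer (Subgroup.zpowers z : Set G) ≃* N35) (hz1 : z ≠ 1)
    (hz3 : z ^ 3 = 1) : ∃ ι : N35 →* G, Function.Injective ι ∧ ι zN = z ∧
      ∀ g : G, g ∈ Subgroup.normalizer (Subgroup.zpowers z : Set G) → ∃ m, ι m = g := by
  have hzN : z ∈ Subgroup.normalizer (Subgroup.zpowers z : Set G) := mem_normalizer_zpowers (Or.inl (by group))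
  set N := Subgroup.normalizer (Subgroup.zpowers z : Set G) with hN
  set m₀ := eL ⟨z, hzN⟩ with hm₀
  have hsym : ((eL.symm m₀ : N) : G) = z := by rw [hm₀, MulEquiv.symm_apply_apply]
  have h3 : m₀ ^ 3 = 1 := by
    rw [hm₀, ← map_pow, show (⟨z, hzN⟩ : N) ^ 3 = 1 from Subtype.ext hz3, map_one]
  have hnorm : ∀ n : N35, n * m₀ * n⁻¹ = m₀ ∨ n * m₀ * n⁻¹ = m₀⁻¹ := by
    intro n
    have hw := (Subgroup.mem_normalizer_iff.1 (eL.symm n).2 z).1 (Subgroup.mem_zpowers z)
    obtain ⟨k, hk⟩ := Subgroup.mem_zpowers_iff.1 hw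
    rw [← Int.emod_add_mul_ediv k 3, zpow_add, zpow_mul,
      show z ^ (3 : ℤ) = 1 from by rw [show (3 : ℤ) = ((3 : ℕ) : ℤ) from rfl, zpow_natCast, hz3],
      one_zpow, mul_one] at hk
    have hval : ∀ w : N35, ((eL.symm w : N) : G) = ((eL.symm (n * m₀ * n⁻¹) : N) : G) → n * m₀ * n⁻¹ = w :=
      fun w hw' => (eL.symm.injective (Subtype.ext hw')).symm
    have hexp : ((eL.symm (n * m₀ * n⁻¹) : N) : G) = ((eL.symm n : N) : G) * z * ((eL.symm n : N) : G)⁻¹ := by
      rw [map_mul, map_mul, map_inv, Subgroup.coe_mul, Subgroup.coe_mul, Subgroup.coe_inv, hsym]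
    rw [← hexp] at hk
    obtain h | h | h : k % 3 = 0 ∨ k % 3 = 1 ∨ k % 3 = 2 := by omega
    · rw [h, zpow_zero] at hk
      have := hval 1 (by rw [map_one, Subgroup.coe_one, hk])
      exfalso
      rw [conj_eq_one_iff] at this
      exact hz1 (by rw [← hsym, this, map_one, Subgroup.coe_one])
    · rw [h, zpow_one] at hk
      exact Or.inl (hval _ (by rw [hsym, hk]))
    · rw [h] at hk
      refine Or.inr (hval _ ?_)
      rw [map_inv, Subgroup.coe_inv, hsym, ← hk, inv_eq_iff_mul_eq_one, show (2 : ℤ) = ((2 : ℕ) : ℤ) from rfl,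
        zpow_natCast, ← pow_succ', hz3]
  have hq : m₀.2 = 1 := by
    refine center_five _ (congrArg Prod.snd h3) ?_ ?_
    · rcases hnorm (1, c123) with e | e
      · exact Or.inl (congrArg Prod.snd e)
      · exact Or.inr (congrArg Prod.snd e)
    · rcases hnorm (1, c034) with e | e
      · exact Or.inl (congrArg Prod.snd e)
      · exact Or.inr (congrArg Prod.snd e)
  have hp : m₀.1 ≠ 1 := fun e => hz1 (by
    rw [← hsym, show m₀ = 1 from Prod.ext e hq, map_one, Subgroup.coe_one])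
  obtain ⟨n, hn⟩ : ∃ n : N35, n * zN * n⁻¹ = m₀ := by
    rcases order_three_three _ (congrArg Prod.fst h3) hp with e | e
    · exact ⟨1, by rw [one_mul, inv_one, mul_one]; exact Prod.ext e.symm hq.symm⟩
    · exact ⟨tN, by rw [show zN = (c3, 1) from rfl, invert_three]; exact Prod.ext e.symm hq.symm⟩
  refine ⟨(N.subtype.comp eL.symm.toMonoidHom).comp (MulAut.conj n).toMonoidHom,
    (Subtype.val_injective.comp eL.symm.injective).comp (MulAut.conj n).injective, ?_, fun g hg => ?_⟩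
  · show ((eL.symm (n * zN * n⁻¹) : N) : G) = z
    rw [hn, hsym]
  · refine ⟨n⁻¹ * eL ⟨g, hg⟩ * n, ?_⟩
    show ((eL.symm (n * (n⁻¹ * eL ⟨g, hg⟩ * n) * n⁻¹) : N) : G) = g
    rw [show n * (n⁻¹ * eL ⟨g, hg⟩ * n) * n⁻¹ = eL ⟨g, hg⟩ by group, MulEquiv.symm_apply_apply]

theorem count_bound {S : Set N35} (hS : ∀ m ∈ S, m.2 * c034 * m.2⁻¹ = c034 ∨ m.2 * c034 * m.2⁻¹ = c034⁻¹) :
    Nat.card S ≤ 72 := by
  let f : S → Perm (Fin 3) × {q : Perm (Fin 5) // q * c034 * q⁻¹ = c034 ∨ q * c034 * q⁻¹ = c034⁻¹} :=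
    fun m => (m.1.1, ⟨m.1.2, hS m.1 m.2⟩)
  have hf : Function.Injective f := by
    intro m n e
    exact Subtype.ext (Prod.ext (congrArg (fun t => t.1) e) (congrArg (fun t => t.2.1) e))
  have := Nat.card_le_card_of_injective f hf
  rwa [Nat.card_prod, Nat.card_eq_fintype_card (α := {q : Perm (Fin 5) // _}), norm_c034_card, Nat.card_perm,
    Nat.card_fin] at this

variable [Finite G]

/-- The hypotheses give the local data. -/
theorem exists_data {D : Subgroup G} {y z : G} (hyD : y ∈ D) (hzD : z ∈ D) (hcomm : IsMulCommutative D)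
    (hcard : Nat.card D = 9) (hexp : ∀ a ∈ D, a ^ 3 = 1)
    (hND : 72 < Nat.card (Subgroup.normalizer (D : Set G)))
    (h8 : ∀ g ∈ Subgroup.normalizer (D : Set G), g ^ 8 ∈ Subgroup.centralizer (D : Set G))
    (hnd : ¬ 27 ∣ Nat.card G)
    (hycard : Nat.card (Subgroup.centralizer ({y} : Set G)) = 36)
    (hysq : ∀ g ∈ Subgroup.centralizer ({y} : Set G), g ^ 2 ∈ D)
    (hzcard : Nat.card (Subgroup.centralizer ({z} : Set G)) = 360)
    (eL : Subgroup.normalizer (Subgroup.zpowers z : Set G) ≃* N35) : Nonempty (Data G) := by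
  classical
  have htop : Nat.card (Subgroup.centralizer ({(1 : G)} : Set G)) = Nat.card G := by
    rw [show Subgroup.centralizer ({(1 : G)} : Set G) = ⊤ from
      eq_top_iff.2 fun w _ => Subgroup.mem_centralizer_singleton_iff.2 (by simp), Subgroup.card_top]
  have hbig : 360 ≤ Nat.card G := hzcard ▸ Subgroup.card_le_card_group _
  have hz1 : z ≠ 1 := by
    intro e
    subst e
    rw [htop] at hzcard
    have hN : Subgroup.normalizer (Subgroup.zpowers (1 : G) : Set G) = ⊤ :=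
      eq_top_iff.2 fun w _ => mem_normalizer_zpowers (Or.inl (by group))
    have h := Nat.card_congr eL.toEquiv
    rw [Nat.card_prod, Nat.card_perm, Nat.card_perm, Nat.card_fin, Nat.card_fin, hN, Subgroup.card_top, hzcard,
      show Nat.factorial 3 = 6 from rfl, show Nat.factorial 5 = 120 from rfl] at h
    norm_num at h
  obtain ⟨ι₀, hinj₀, hz₀, hcov₀⟩ := exists_ι eL hz1 (hexp z hzD)
  obtain ⟨d, hdD, hd⟩ : ∃ d ∈ D, d ∉ Subgroup.zpowers z := by
    by_contra h
    push Not at h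
    have h1 := Subgroup.card_dvd_of_le (show D ≤ Subgroup.zpowers z from h)
    rw [hcard, Nat.card_zpowers] at h1
    have := Nat.le_of_dvd (orderOf_pos z) h1
    have := orderOf_le_of_pow_eq_one (by norm_num) (hexp z hzD)
    omega
  have hDcomm : ∀ a ∈ D, ∀ b ∈ D, a * b = b * a := fun a ha b hb =>
    congrArg Subtype.val (hcomm.is_comm.comm (⟨a, ha⟩ : D) (⟨b, hb⟩ : D))
  obtain ⟨m, rfl⟩ := hcov₀ d (mem_normalizer_zpowers (Or.inl (by rw [hDcomm d hdD z hzD]; group)))
  have hm3 : m ^ 3 = 1 := hinj₀ (by rw [map_pow, hexp _ hdD, map_one])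
  have hmc : m.1 * c3 = c3 * m.1 := congrArg Prod.fst (hinj₀ (by
    rw [map_mul, map_mul, hz₀]; exact hDcomm _ hdD z hzD) : m * zN = zN * m)
  have hr1 : m.2 ≠ 1 := by
    intro e
    refine hd ?_
    rcases (cent_c3 _ hmc).2 with e' | e' | e'
    · rw [show m = 1 from Prod.ext e' e, map_one]; exact one_mem _
    · rw [show m = zN from Prod.ext e' e, hz₀]; exact Subgroup.mem_zpowers z
    · rw [show m = zN⁻¹ from Prod.ext e' (e.trans inv_one.symm), map_inv, hz₀]
      exact inv_mem (Subgroup.mem_zpowers z)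
  obtain ⟨h, -, hh⟩ := three_conj _ (congrArg Prod.snd hm3) hr1
  set n : N35 := (1, h) with hn
  set ι : N35 →* G := ι₀.comp (MulAut.conj n).toMonoidHom with hι
  have hinj : Function.Injective ι := hinj₀.comp (MulAut.conj n).injective
  have hzι : ι zN = z := by
    rw [← hz₀]
    exact congrArg ι₀ (Prod.ext (by show 1 * c3 * 1⁻¹ = c3; simp) (by show h * 1 * h⁻¹ = 1; simp))
  have hcov : ∀ g : G, g * ι zN * g⁻¹ = ι zN ∨ g * ι zN * g⁻¹ = (ι zN)⁻¹ → ∃ w, ι w = g := by
    intro g hg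
    obtain ⟨w, rfl⟩ := hcov₀ g (mem_normalizer_zpowers (by rwa [hzι] at hg))
    exact ⟨n⁻¹ * w * n, congrArg ι₀ (by show n * (n⁻¹ * w * n) * n⁻¹ = w; group)⟩
  have huD : ι uN ∈ D := by
    obtain ⟨i, hi⟩ : ∃ i : Fin 3, ι (zN ^ i.val * uN) = ι₀ m := by
      have hconj : ∀ i : Fin 3, c3 ^ i.val = m.1 → ι (zN ^ i.val * uN) = ι₀ m := fun i e =>
        congrArg ι₀ (Prod.ext (by show 1 * (c3 ^ i.val * 1) * 1⁻¹ = m.1; simp [e]) (by
          show h * (1 ^ i.val * c034) * h⁻¹ = m.2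
          rw [one_pow, one_mul, mul_inv_eq_iff_eq_mul]; exact hh))
      rcases (cent_c3 _ hmc).2 with e | e | e
      · exact ⟨0, hconj 0 (by rw [e]; rfl)⟩
      · exact ⟨1, hconj 1 (by rw [e]; rfl)⟩
      · exact ⟨2, hconj 2 (by rw [e]; decide)⟩
    rw [map_mul, map_pow, hzι] at hi
    have : ι uN = (z ^ i.val)⁻¹ * ι₀ m := by rw [← hi]; group
    rw [this]
    exact mul_mem (inv_mem (pow_mem hzD _)) hdD
  have hgen : ∀ i j : Fin 3, ι (zN ^ i.val * uN ^ j.val) ∈ D := fun i j => by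
    rw [map_mul, map_pow, map_pow, hzι]
    exact mul_mem (pow_mem hzD _) (pow_mem huD _)
  have hmem : ∀ g : G, g ∈ D ↔ ∃ i j : Fin 3, g = ι (zN ^ i.val * uN ^ j.val) := by
    let f : Fin 3 × Fin 3 → D := fun x => ⟨_, hgen x.1 x.2⟩
    have hf : Function.Bijective f := (Nat.bijective_iff_injective_and_card f).2
      ⟨fun x y e => d_inj x y (hinj (congrArg Subtype.val e)), by
        rw [hcard, Nat.card_prod, Nat.card_fin]⟩
    refine fun g => ⟨fun hg => ?_, ?_⟩
    · obtain ⟨x, hx⟩ := hf.2 ⟨g, hg⟩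
      exact ⟨x.1, x.2, (congrArg Subtype.val hx).symm⟩
    · rintro ⟨i, j, rfl⟩; exact hgen i j
  subst hzι
  set zu := ι (zN * uN) with hzu
  -- normalizing elements of the coordinate group
  have hnormι : ∀ w : N35, (∀ i j : Fin 3, ∃ i' j' : Fin 3, w * (zN ^ i.val * uN ^ j.val) * w⁻¹ =
      zN ^ i'.val * uN ^ j'.val) → ι w ∈ Subgroup.normalizer (D : Set G) := by
    intro w hw
    have hA : ∀ x ∈ D, ι w * x * (ι w)⁻¹ ∈ D := by
      intro x hx
      obtain ⟨i, j, rfl⟩ := (hmem x).1 hx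
      obtain ⟨i', j', e⟩ := hw i j
      exact (hmem _).2 ⟨i', j', by rw [← e, map_mul ι (w * _), map_mul ι w, map_inv]⟩
    have he : D.map (MulAut.conj (ι w)).toMonoidHom = D := Subgroup.eq_of_le_of_card_ge
      (by rintro _ ⟨x, hx, rfl⟩; exact hA x hx) (Subgroup.card_map_of_injective (MulEquiv.injective _)).ge
    rw [Subgroup.mem_normalizer_iff]
    refine fun x => ⟨hA x, fun hx => ?_⟩
    rw [← he] at hx
    obtain ⟨y', hy', hxy⟩ := hx
    exact (mul_left_cancel (mul_right_cancel (hxy : ι w * y' * (ι w)⁻¹ = ι w * x * (ι w)⁻¹))) ▸ hy'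
  have htND : ι tN ∈ Subgroup.normalizer (D : Set G) := hnormι _ fun i j => ⟨-i, j, t_conj i j⟩
  have hkND : ι kN ∈ Subgroup.normalizer (D : Set G) := hnormι _ fun i j => ⟨i, -j, k_conj i j⟩
  -- centralisers of the elements of `D`
  let cd : G → ℕ := fun x => Nat.card (Subgroup.centralizer ({x} : Set G))
  have hdiag : ∀ i j : Fin 3, i ≠ 0 → j ≠ 0 → cd (ι (zN ^ i.val * uN ^ j.val)) = cd zu := by
    intro i j hi hj
    rcases (d_cases i j).2.2.2 hi hj with e | e | e | e <;> simp only [cd, hzu, e, map_mul, map_inv, card_cent_conj,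
      card_cent_inv]
  have hone : cd 1 = Nat.card G := htop
  obtain ⟨g, hgN, hg⟩ : ∃ g ∈ Subgroup.normalizer (D : Set G),
      ¬ (g * ι zN * g⁻¹ = ι zN ∨ g * ι zN * g⁻¹ = (ι zN)⁻¹) := by
    by_contra hcon
    push Not at hcon
    let S := {w : N35 | w.2 * c034 * w.2⁻¹ = c034 ∨ w.2 * c034 * w.2⁻¹ = c034⁻¹}
    have hex : ∀ x : Subgroup.normalizer (D : Set G), ∃ w : S, ι w.1 = x.1 := by
      intro x
      obtain ⟨w, hw⟩ := hcov x.1 (by
        by_cases e : x.1 * ι zN * x.1⁻¹ = ι zN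
        · exact Or.inl e
        · exact Or.inr ((hcon x.1 x.2).resolve_left e))
      have hxu : x.1 * ι uN * x.1⁻¹ ∈ D := (Subgroup.mem_normalizer_iff.1 x.2 _).1 huD
      obtain ⟨i, j, hij⟩ := (hmem _).1 hxu
      rw [← hw, ← map_inv, ← map_mul, ← map_mul] at hij
      have e2 : w.2 * c034 * w.2⁻¹ = (1 : Perm (Fin 5)) ^ i.val * c034 ^ j.val := congrArg Prod.snd (hinj hij)
      refine ⟨⟨w, ?_⟩, hw⟩
      rw [one_pow, one_mul] at e2
      fin_cases j
      · exact absurd e2 (by simp [conj_eq_one_iff]; decide)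
      · exact Or.inl (e2.trans (pow_one _))
      · exact Or.inr (e2.trans (by decide))
    choose F hF using hex
    have h1 := Nat.card_le_card_of_injective F fun x x' e => Subtype.ext (by rw [← hF x, ← hF x', e])
    have := count_bound (S := S) fun _ h => h
    omega
  -- the positions
  obtain ⟨i, j, hij⟩ := (hmem _).1 ((Subgroup.mem_normalizer_iff.1 hgN _).1 hzD)
  have hj : j ≠ 0 := by
    intro e
    by_cases hi : i = 0
    · rw [(d_cases i j).1 hi e, map_one, conj_eq_one_iff] at hij; exact hz1 hij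
    · rcases (d_cases i j).2.1 hi e with e' | e' <;> rw [e'] at hij
      · exact hg (Or.inl hij)
      · rw [map_inv] at hij; exact hg (Or.inr hij)
  obtain ⟨k, l, hy⟩ := (hmem y).1 hyD
  have hcy : cd (ι (zN ^ k.val * uN ^ l.val)) = 36 := by rw [← hy]; exact hycard
  have hcz : ∀ k : Fin 3, k ≠ 0 → cd (ι (zN ^ k.val * uN ^ (0 : Fin 3).val)) = 360 := by
    intro k hk
    rcases (d_cases k 0).2.1 hk rfl with e | e <;> simp only [cd, e, map_inv, card_cent_inv] <;> exact hzcard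
  have hl : l ≠ 0 := by
    intro e
    subst e
    by_cases hk : k = 0
    · subst hk
      rw [(d_cases 0 0).1 rfl rfl, map_one, hone] at hcy; omega
    · rw [hcz k hk] at hcy; omega
  have hcu : ∀ l : Fin 3, l ≠ 0 → cd (ι (zN ^ (0 : Fin 3).val * uN ^ l.val)) = cd (ι uN) := by
    intro l hl
    rcases (d_cases 0 l).2.2.1 rfl hl with e | e <;> simp only [cd, e, map_inv, card_cent_inv]
  have hi : i = 0 := by
    by_contra hi
    have hzu360 : cd zu = 360 := by
      rw [← hdiag i j hi hj, ← hij]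
      exact (card_cent_conj g _).trans hzcard
    have hk : k = 0 := by
      by_contra hk
      rw [hdiag k l hk hl, hzu360] at hcy; omega
    subst hk
    rw [hcu l hl] at hcy
    obtain ⟨i', j', hij'⟩ := (hmem _).1 ((Subgroup.mem_normalizer_iff.1 hgN _).1 huD)
    have hc : cd (ι (zN ^ i'.val * uN ^ j'.val)) = 36 := by
      rw [← hij']
      exact (card_cent_conj g _).trans hcy
    have hi' : i' = 0 := by
      by_contra hi'
      by_cases hj' : j' = 0
      · subst hj'; rw [hcz i' hi'] at hc; omega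
      · rw [hdiag i' j' hi' hj', hzu360] at hc; omega
    have hgu : g * ι uN * g⁻¹ = ι uN ∨ g * ι uN * g⁻¹ = (ι uN)⁻¹ := by
      by_cases hj' : j' = 0
      · rw [(d_cases i' j').1 hi' hj', map_one, hone] at hc; omega
      rcases (d_cases i' j').2.2.1 hi' hj' with e | e <;> rw [e] at hij'
      · exact Or.inl hij'
      · exact Or.inr (by rw [hij', map_inv])
    obtain ⟨g₁, hg₁N, hg₁u, j₁, hj₁, hg₁z⟩ : ∃ g₁ ∈ Subgroup.normalizer (D : Set G), g₁ * ι uN * g₁⁻¹ = ι uN ∧
        ∃ j₁ : Fin 3, j₁ ≠ 0 ∧ g₁ * ι zN * g₁⁻¹ = ι (zN ^ i.val * uN ^ j₁.val) := by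
      rcases hgu with e | e
      · exact ⟨g, hgN, e, j, hj, hij⟩
      · refine ⟨ι kN * g, mul_mem hkND hgN, ?_, -j, neg_ne_zero.2 hj, ?_⟩
        · calc ι kN * g * ι uN * (ι kN * g)⁻¹ = ι kN * (g * ι uN * g⁻¹) * (ι kN)⁻¹ := by group
            _ = ι (kN * uN⁻¹ * kN⁻¹) := by simp [e]
            _ = ι uN := congrArg ι (by decide +kernel)
        · calc ι kN * g * ι zN * (ι kN * g)⁻¹ = ι kN * (g * ι zN * g⁻¹) * (ι kN)⁻¹ := by group
            _ = ι (kN * (zN ^ i.val * uN ^ j.val) * kN⁻¹) := by simp [hij]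
            _ = _ := congrArg ι (k_conj i j)
    obtain ⟨g₂, hg₂N, hg₂u, hg₂z⟩ : ∃ g₂ ∈ Subgroup.normalizer (D : Set G), g₂ * ι uN * g₂⁻¹ = ι uN ∧
        g₂ * ι zN * g₂⁻¹ = ι zN * ι (uN ^ j₁.val) := by
      by_cases h1 : i = 1
      · refine ⟨g₁, hg₁N, hg₁u, ?_⟩
        subst h1
        rw [hg₁z, map_mul, Fin.val_one, pow_one]
      · refine ⟨ι tN * g₁, mul_mem htND hg₁N, ?_, ?_⟩
        · calc ι tN * g₁ * ι uN * (ι tN * g₁)⁻¹ = ι tN * (g₁ * ι uN * g₁⁻¹) * (ι tN)⁻¹ := by group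
            _ = ι (tN * uN * tN⁻¹) := by simp [hg₁u]
            _ = ι uN := congrArg ι (by decide +kernel)
        · calc ι tN * g₁ * ι zN * (ι tN * g₁)⁻¹ = ι tN * (g₁ * ι zN * g₁⁻¹) * (ι tN)⁻¹ := by group
            _ = ι (tN * (zN ^ i.val * uN ^ j₁.val) * tN⁻¹) := by simp [hg₁z]
            _ = ι (zN * uN ^ j₁.val) := congrArg ι (by
                have h2 : -i = 1 := by revert h1 hi; clear * - ; revert i; decide
                rw [t_conj, h2, Fin.val_one, pow_one])
            _ = _ := map_mul _ _ _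
    have e1 := conj_pow_three hg₂z (by rw [map_pow, ← conj_pow, hg₂u]) (hexp _ (by
      rw [map_pow]; exact pow_mem huD _))
    have h8' := h8 g₂ hg₂N
    have e8 : Commute (g₂ ^ 8) (ι zN) := (Subgroup.mem_centralizer_iff.1 h8' _ hzD).symm
    have e3 : Commute (g₂ ^ 3) (ι zN) := mul_inv_eq_iff_eq_mul.1 e1
    have eg : Commute g₂ (ι zN) := by
      rw [show g₂ = (g₂ ^ 3) ^ 3 * (g₂ ^ 8)⁻¹ by group]
      exact (e3.pow_left 3).mul_left e8.inv_left
    rw [eg.eq, mul_inv_cancel_right, left_eq_mul] at hg₂z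
    have e4 : c034 ^ j₁.val = 1 := congrArg Prod.snd (hinj (hg₂z.trans (map_one ι).symm))
    revert e4 hj₁; clear * - ; revert j₁; decide
  subst hi
  obtain ⟨g₁, hg₁N, hg₁⟩ : ∃ g₁ ∈ Subgroup.normalizer (D : Set G), g₁ * ι zN * g₁⁻¹ = ι uN := by
    rcases (d_cases 0 j).2.2.1 rfl hj with e | e
    · exact ⟨g, hgN, by rw [hij, e]⟩
    · refine ⟨ι kN * g, mul_mem hkND hgN, ?_⟩
      calc ι kN * g * ι zN * (ι kN * g)⁻¹ = ι kN * (g * ι zN * g⁻¹) * (ι kN)⁻¹ := by group
        _ = ι (kN * uN⁻¹ * kN⁻¹) := by rw [hij, e, map_mul ι _ kN⁻¹, map_mul ι kN, map_inv ι kN]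
        _ = ι uN := congrArg ι (by decide +kernel)
  have hu360 : cd (ι uN) = 360 := by rw [← hg₁]; exact (card_cent_conj g₁ _).trans hzcard
  have hk : k ≠ 0 := by
    intro e
    subst e
    rw [hcu l hl, hu360] at hcy; omega
  have h36 : cd zu = 36 := (hdiag k l hk hl).symm.trans hcy
  obtain ⟨g₂, hg₂z, hg₂u⟩ : ∃ g₂ : G, g₂ * ι zN * g₂⁻¹ = ι uN ∧ g₂ * ι uN * g₂⁻¹ = ι zN := by
    obtain ⟨i', j', hij'⟩ := (hmem _).1 ((Subgroup.mem_normalizer_iff.1 hg₁N _).1 huD)
    have hc : cd (ι (zN ^ i'.val * uN ^ j'.val)) = 360 := by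
      rw [← hij']
      exact (card_cent_conj g₁ _).trans hu360
    have hj' : j' = 0 := by
      by_contra hj'
      by_cases hi' : i' = 0
      · rcases (d_cases i' j').2.2.1 hi' hj' with e | e <;> rw [e] at hij'
        · have h : ι zN = ι uN := by
            have := hg₁.trans hij'.symm
            exact mul_left_cancel (mul_right_cancel this)
          exact absurd (hinj h) (by decide +kernel)
        · have h : ι zN = ι uN⁻¹ := by
            rw [map_inv] at hij'
            have := hg₁.trans (show ι uN = g₁ * (ι uN)⁻¹ * g₁⁻¹ by rw [← conj_inv, hij', inv_inv])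
            rw [map_inv]
            exact mul_left_cancel (mul_right_cancel this)
          exact absurd (hinj h) (by decide +kernel)
      · rw [hdiag i' j' hi' hj', h36] at hc; omega
    subst hj'
    by_cases hi' : i' = 0
    · rw [(d_cases i' 0).1 hi' rfl, map_one, conj_eq_one_iff] at hij'
      exact absurd (hinj (hij'.trans (map_one ι).symm)) zN_spec.2.2.2.1
    rcases (d_cases i' 0).2.1 hi' rfl with e | e <;> rw [e] at hij'
    · exact ⟨g₁, hg₁, hij'⟩
    · refine ⟨ι tN * g₁, ?_, ?_⟩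
      · calc ι tN * g₁ * ι zN * (ι tN * g₁)⁻¹ = ι tN * (g₁ * ι zN * g₁⁻¹) * (ι tN)⁻¹ := by group
          _ = ι (tN * uN * tN⁻¹) := by simp [hg₁]
          _ = ι uN := congrArg ι (by decide +kernel)
      · calc ι tN * g₁ * ι uN * (ι tN * g₁)⁻¹ = ι tN * (g₁ * ι uN * g₁⁻¹) * (ι tN)⁻¹ := by group
          _ = ι (tN * zN⁻¹ * tN⁻¹) := by simp [hij']
          _ = ι zN := congrArg ι (by decide +kernel)
  -- squares in the centraliser of the diagonal element
  have hsq : ∀ w ∈ Subgroup.centralizer ({zu} : Set G), w ^ 2 ∈ D := by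
    have key : ∀ c ∈ Subgroup.normalizer (D : Set G), ∀ v : G, y = c * v * c⁻¹ →
        ∀ w ∈ Subgroup.centralizer ({v} : Set G), w ^ 2 ∈ D := by
      intro c hc v hv w hw
      have h1 := hysq (c * w * c⁻¹) (Subgroup.mem_centralizer_singleton_iff.2 (by
        rw [hv]
        calc c * w * c⁻¹ * (c * v * c⁻¹) = c * (w * v) * c⁻¹ := by group
          _ = c * (v * w) * c⁻¹ := by rw [Subgroup.mem_centralizer_singleton_iff.1 hw]
          _ = c * v * c⁻¹ * (c * w * c⁻¹) := by group))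
      rw [conj_pow] at h1
      exact (Subgroup.mem_normalizer_iff.1 hc _).2 h1
    intro w hw
    have hw' : w ∈ Subgroup.centralizer ({zu⁻¹} : Set G) := Subgroup.mem_centralizer_singleton_iff.2
      (Commute.inv_right (show Commute w zu from Subgroup.mem_centralizer_singleton_iff.1 hw)).eq
    rcases (d_cases k l).2.2.2 hk hl with e | e | e | e <;> rw [e] at hy
    · exact key 1 (one_mem _) zu (by rw [hy, hzu]; group) w hw
    · exact key 1 (one_mem _) zu⁻¹ (by rw [hy, hzu, map_inv]; group) w hw'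
    · exact key _ htND zu (by rw [hy, hzu, map_mul ι (tN * (zN * uN)), map_mul ι tN, map_inv]) w hw
    · exact key _ htND zu⁻¹ (by rw [hy, hzu, map_mul ι (tN * (zN * uN)⁻¹), map_mul ι tN, map_inv, map_inv]) w hw'
  have hg₂c : Commute g₂ zu := by
    refine mul_inv_eq_iff_eq_mul.1 ?_
    calc g₂ * zu * g₂⁻¹ = (g₂ * ι zN * g₂⁻¹) * (g₂ * ι uN * g₂⁻¹) := by rw [hzu, map_mul]; group
      _ = ι uN * ι zN := by rw [hg₂z, hg₂u]
      _ = zu := by rw [hzu, map_mul, hDcomm _ huD _ hzD]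
  set σ := g₂ ^ 3 with hσ
  have hd2 := hsq g₂ (Subgroup.mem_centralizer_singleton_iff.2 hg₂c.eq)
  have hσ2 : σ * σ = 1 := by
    rw [hσ, ← pow_add, show 3 + 3 = 2 * 3 from rfl, pow_mul, hexp _ hd2]
  have hσi : σ⁻¹ = σ := inv_eq_of_mul_eq_one_right hσ2
  have hσz : σ * ι zN * σ = ι uN := by
    calc σ * ι zN * σ = σ * ι zN * σ⁻¹ := by rw [hσi]
      _ = g₂ * (g₂ ^ 2 * ι zN * (g₂ ^ 2)⁻¹) * g₂⁻¹ := by rw [hσ]; group
      _ = ι uN := by rw [hDcomm _ hd2 _ hzD, mul_inv_cancel_right, hg₂z]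
  have hσu : σ * ι uN * σ = ι zN := by
    rw [← hσz, show σ * (σ * ι zN * σ) * σ = σ * σ * ι zN * (σ * σ) by group, hσ2, one_mul, mul_one]
  have hσj : σ * ι jN * σ = ι jN := by
    set v := σ * ι jN * σ with hv
    have hvv : v * v = 1 := by
      rw [hv, show σ * ι jN * σ * (σ * ι jN * σ) = σ * (ι jN * (σ * σ) * ι jN) * σ by group, hσ2, mul_one,
        ← map_mul, zN_spec.2.2.2.2.2.1, map_one, mul_one, hσ2]
    have hcm : ∀ x : N35, ∀ x' : G, σ * ι x * σ = x' → jN * x = x * jN → Commute v x' := by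
      intro x x' hx e
      have h := (Commute.map (show Commute jN x from e) ι).map (MulAut.conj σ).toMonoidHom
      simp only [MulEquiv.coe_toMonoidHom, MulAut.conj_apply, hσi] at h
      rwa [hx] at h
    have hvz : Commute v (ι zN) := hcm uN _ hσu (by decide +kernel)
    have hvu : Commute v (ι uN) := hcm zN _ hσz (by decide +kernel)
    obtain ⟨w, hw⟩ := hcov v (Or.inl (by rw [hvz.eq, mul_inv_cancel_right]))
    rw [← hw] at hvz hvu hvv ⊢
    rw [← map_mul, ← map_one ι] at hvv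
    have e1 : w.1 * c3 = c3 * w.1 := congrArg Prod.fst (hinj (by rw [map_mul, map_mul]; exact hvz.eq) : w * zN = zN * w)
    have e2 : w.2 * c034 = c034 * w.2 := congrArg Prod.snd (hinj (by rw [map_mul, map_mul]; exact hvu.eq) : w * uN = uN * w)
    have p1 : w.1 = 1 := even_three_invol _ (cent_c3 _ e1).1 (congrArg Prod.fst (hinj hvv))
    obtain ⟨l', e', he⟩ := cent_uN _ e2
    have hq : w = zN ^ (0 : Fin 3).val * uN ^ l'.val * jN ^ e'.val := Prod.ext (by
      show w.1 = 1 * 1 ^ l'.val * 1 ^ e'.val; simp [p1]) (by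
      show w.2 = 1 * c034 ^ l'.val * (swap 1 2) ^ e'.val; rw [one_mul, he])
    rcases cd_invol 0 l' e' (hq ▸ hinj hvv) with e | e
    · exfalso
      rw [show w = 1 from hq.trans e, map_one] at hw
      refine zN_spec.2.2.2.2.2.2.1 (hinj ?_)
      rw [map_one]
      calc ι jN = σ * σ * ι jN * (σ * σ) := by rw [hσ2, one_mul, mul_one]
        _ = σ * v * σ := by rw [hv]; group
        _ = 1 := by rw [← hw, mul_one, hσ2]
    · rw [show w = jN from hq.trans e]
  obtain ⟨p, hp⟩ : ∃ p : Fin 3, (σ * ι tN * σ * ι (uN ^ p.val) = ι kN ∨ σ * ι tN * σ * ι (uN ^ p.val) = ι aN) := by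
    set v := σ * ι tN * σ with hv
    have hvv : v * v = 1 := by
      rw [hv, show σ * ι tN * σ * (σ * ι tN * σ) = σ * (ι tN * (σ * σ) * ι tN) * σ by group, hσ2, mul_one,
        ← map_mul, zN_spec.2.2.2.2.2.2.2.1, map_one, mul_one, hσ2]
    have hc : ∀ x : N35, σ * ι x * σ⁻¹ = σ * ι x * σ := fun x => by rw [hσi]
    have hvz : v * ι zN * v⁻¹ = ι zN := by
      calc v * ι zN * v⁻¹ = σ * (ι tN * (σ * ι zN * σ) * (ι tN)⁻¹) * σ⁻¹ := by
            rw [hv, mul_inv_rev, mul_inv_rev, hσi]; group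
        _ = σ * ι (tN * uN * tN⁻¹) * σ⁻¹ := by rw [hσz, map_mul, map_mul, map_inv]
        _ = ι zN := by rw [show tN * uN * tN⁻¹ = uN by decide +kernel, hσi, hσu]
    have hvu : v * ι uN * v⁻¹ = (ι uN)⁻¹ := by
      calc v * ι uN * v⁻¹ = σ * (ι tN * (σ * ι uN * σ) * (ι tN)⁻¹) * σ⁻¹ := by
            rw [hv, mul_inv_rev, mul_inv_rev, hσi]; group
        _ = σ * ι (tN * zN * tN⁻¹) * σ⁻¹ := by rw [hσu, map_mul, map_mul, map_inv]
        _ = _ := by
          rw [show tN * zN * tN⁻¹ = zN⁻¹ by decide +kernel, map_inv, ← conj_inv, hσi, hσz]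
    obtain ⟨w, hw⟩ := hcov v (Or.inl hvz)
    rw [← hw] at hvz hvu hvv ⊢
    rw [← map_mul, ← map_one ι] at hvv
    rw [← map_inv, ← map_mul, ← map_mul] at hvz hvu
    rw [← map_inv] at hvu
    have e1 : w.1 * c3 * w.1⁻¹ = c3 := congrArg Prod.fst (hinj hvz)
    have e2 : w.2 * c034 * w.2⁻¹ = c034⁻¹ := congrArg Prod.snd (hinj hvu)
    have p1 : w.1 = 1 :=
      even_three_invol _ (cent_c3 _ (mul_inv_eq_iff_eq_mul.1 e1)).1 (congrArg Prod.fst (hinj hvv))
    obtain ⟨p, hp⟩ := norm_uN w.2 e2 (congrArg Prod.snd (hinj hvv))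
    refine ⟨p, ?_⟩
    rw [← map_mul]
    rcases hp with e | e
    · exact Or.inl (congrArg ι (Prod.ext (by show w.1 * 1 ^ p.val = 1; simp [p1]) e))
    · exact Or.inr (congrArg ι (Prod.ext (by show w.1 * 1 ^ p.val = 1; simp [p1]) e))
  obtain ⟨q, hq⟩ : ∃ q : Fin 3, tN * zN ^ q.val = zN⁻¹ ^ q.val * tN ∧ uN ^ (q + q).val = uN ^ p.val := by
    clear * -; revert p; decide +kernel
  set d := ι (zN ^ q.val) with hd'
  have hdσ : σ * d * σ = ι (uN ^ q.val) := by
    rw [hd', map_pow, map_pow, ← hσz]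
    nth_rw 4 [← hσi]
    rw [conj_pow, hσi]
  have hmove : ∀ x : G, d * σ * d⁻¹ * x * (d * σ * d⁻¹) = d * (σ * (d⁻¹ * x * d) * σ) * d⁻¹ := fun x => by group
  have hdd : ∀ x ∈ D, d⁻¹ * x * d = x := fun x hx => by
    rw [mul_assoc, hDcomm x hx d (by rw [hd', map_pow]; exact pow_mem hzD _), inv_mul_cancel_left]
  refine ⟨⟨ι, hinj, hcov, D, hmem, hcard, hnd, d * σ * d⁻¹, ?_, ?_, ?_, ?_, h36⟩⟩
  · rw [show d * σ * d⁻¹ * (d * σ * d⁻¹) = d * (σ * σ) * d⁻¹ by group, hσ2]; group
  · rw [hmove, hdd _ hzD, hσz]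
    rw [hDcomm d (by rw [hd', map_pow]; exact pow_mem hzD _) _ huD, mul_inv_cancel_right]
  · rw [hmove]
    have hc : Commute d (ι jN) := by
      rw [hd', map_pow]
      exact Commute.pow_left (Commute.map (by rw [commute_iff_eq]; decide +kernel : Commute zN jN) ι) _
    rw [show d⁻¹ * ι jN * d = ι jN by rw [mul_assoc, ← hc.eq, inv_mul_cancel_left], hσj, hc.eq, mul_inv_cancel_right]
  · rw [hmove]
    have e1 : d⁻¹ * ι tN * d = ι tN * ι (zN ^ (q + q).val) := by
      rw [hd', ← map_inv, ← map_mul, ← map_mul, ← map_mul]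
      exact congrArg ι (by clear * -; revert q; decide +kernel)
    have e2 : σ * ι (zN ^ (q + q).val) * σ = ι (uN ^ p.val) := by
      rw [map_pow, ← hq.2, map_pow, ← hσz]
      nth_rw 4 [← hσi]
      rw [conj_pow, hσi]
    have e3 : σ * (ι tN * ι (zN ^ (q + q).val)) * σ = σ * ι tN * σ * ι (uN ^ p.val) := by
      rw [← e2, show σ * ι tN * σ * (σ * ι (zN ^ (q + q).val) * σ) =
        σ * (ι tN * (σ * σ) * ι (zN ^ (q + q).val)) * σ by group, hσ2, mul_one]
    rw [e1, e3]
    have hc : ∀ x : N35, (x = kN ∨ x = aN) → d * ι x * d⁻¹ = ι x := by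
      intro x hx
      rw [hd', ← map_inv, ← map_mul, ← map_mul]
      refine congrArg ι ?_
      rcases hx with rfl | rfl <;> (clear * -; revert q; decide +kernel)
    rcases hp with e | e <;> rw [e]
    · exact Or.inl (hc _ (Or.inl rfl))
    · exact Or.inr (hc _ (Or.inr rfl))

end CfsgLib.S8ThreeLocal
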