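import Cfsg.Agent.Lib.S8ThreeLocal.BigShape

/-!
The thin shape is impossible.
-/

set_option autoImplicit false
set_option maxRecDepth 8000
set_option synthInstance.maxSize 1024

namespace CfsgLib.S8ThreeLocal

open Equiv Equiv.Perm CfsgLib.A8ThreeLocal CfsgLib.SelfCentThree

universe u

/-- A subgroup of a two-group below it is properly contained in its normalizer. -/
theorem exists_norm_step {G : Type u} [Group G] [Finite G] {P U : Subgroup G} (hP : IsPGroup 2 P) (hUP : U ≤ P)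
    (hne : U ≠ P) : ∃ g ∈ P, g ∉ U ∧ ∀ x ∈ U, g * x * g⁻¹ ∈ U := by
  haveI := Fact.mk Nat.prime_two
  haveI := hP.isNilpotent
  have hlt : U.subgroupOf P < ⊤ := lt_top_iff_ne_top.2 fun e =>
    hne (le_antisymm hUP (Subgroup.subgroupOf_eq_top.1 e))
  obtain ⟨g, hg, hgU⟩ := SetLike.exists_of_lt (Group.normalizerCondition_of_isNilpotent _ hlt)
  exact ⟨g, g.2, fun h => hgU (Subgroup.mem_subgroupOf.2 h),
    fun x hx => Subgroup.mem_subgroupOf.1 ((Subgroup.mem_normalizer_iff.1 hg ⟨x, hUP hx⟩).1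
      (Subgroup.mem_subgroupOf.2 hx))⟩

/-- An odd power which is a two-element. -/
theorem exists_two_part {G : Type u} [Group G] [Finite G] (y : G) :
    ∃ i : ℕ, IsPGroup 2 (Subgroup.zpowers (y ^ (2 * i + 1))) := by
  haveI := Fact.mk Nat.prime_two
  obtain ⟨e, n, hn, hyn⟩ := Nat.exists_eq_pow_mul_and_not_dvd (orderOf_pos y).ne' 2 (by norm_num)
  refine ⟨n / 2, ?_⟩
  rw [show 2 * (n / 2) + 1 = n by omega]
  intro x
  refine ⟨e, Subtype.ext ?_⟩
  obtain ⟨k, hk⟩ := Subgroup.mem_zpowers_iff.1 x.2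
  rw [SubmonoidClass.coe_pow, ← hk, ← zpow_natCast, ← zpow_mul, mul_comm, zpow_mul, zpow_natCast, ← pow_mul,
    mul_comm n, ← hyn, pow_orderOf_eq_one, one_zpow, Subgroup.coe_one]

theorem six_types : ∀ x ∈ [aN, tN * aN, tN * jN, tN * kN], ∀ y ∈ [aN, tN * aN, tN * jN, tN * kN],
    x * y ∈ [aN, tN * aN, tN * jN, tN * kN] →
      x ∈ [aN, tN * jN, tN * kN] ∧ y ∈ [aN, tN * jN, tN * kN] := by decide +kernel

theorem three_perm : ∀ p : Perm (Fin 3), p = 1 ∨ p = swap 0 1 ∨ (p ^ 3 = 1 ∧ p ≠ 1) ∨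
    ((swap 0 1 * p) ^ 3 = 1 ∧ swap 0 1 * p ≠ 1) := by decide

/-- A two-group of order sixteen in the centraliser of `a` and `t`. -/
def T35 : Subgroup N35 where
  carrier := {m | m.1 2 = 2 ∧ m.2 0 = 0 ∧ m.2 * a5 = a5 * m.2}
  one_mem' := by simp only [Set.mem_setOf_eq]; decide +kernel
  inv_mem' := by
    rintro m ⟨h1, h2, h3⟩
    exact ⟨Equiv.Perm.inv_eq_iff_eq.2 h1.symm, Equiv.Perm.inv_eq_iff_eq.2 h2.symm,
      ((show Commute m.2 a5 from h3).inv_left).eq⟩
  mul_mem' := by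
    rintro m n ⟨h1, h2, h3⟩ ⟨k1, k2, k3⟩
    exact ⟨by rw [Prod.fst_mul, Equiv.Perm.mul_apply, k1, h1], by rw [Prod.snd_mul, Equiv.Perm.mul_apply, k2, h2],
      ((show Commute m.2 a5 from h3).mul_left k3).eq⟩

theorem T35_mem : ∀ m : N35, m ∈ [aN, bN, jN, kN, tN] → m.1 2 = 2 ∧ m.2 0 = 0 ∧ m.2 * a5 = a5 * m.2 := by
  decide +kernel

theorem T35_comm_aux : (∀ p : Perm (Fin 3), p 2 = 2 → p * swap 0 1 = swap 0 1 * p) := by decide

theorem T35_comm {m : N35} (h : m ∈ T35) : m * aN = aN * m ∧ m * tN = tN * m :=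
  ⟨Prod.ext ((mul_one _).trans (one_mul _).symm) h.2.2,
    Prod.ext (T35_comm_aux _ h.1) ((mul_one _).trans (one_mul _).symm)⟩

theorem T35_card : Nat.card T35 = 16 := by
  have h3 : Nat.card {p : Perm (Fin 3) // p 2 = 2} = 2 := by rw [Nat.card_eq_fintype_card]; decide +kernel
  have h5 : Nat.card {q : Perm (Fin 5) // q 0 = 0 ∧ q * a5 = a5 * q} = 8 := by
    rw [Nat.card_eq_fintype_card]; decide +kernel
  have e : T35 ≃ {p : Perm (Fin 3) // p 2 = 2} × {q : Perm (Fin 5) // q 0 = 0 ∧ q * a5 = a5 * q} :=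
    { toFun := fun m => (⟨m.1.1, m.2.1⟩, ⟨m.1.2, m.2.2⟩)
      invFun := fun x => ⟨(x.1.1, x.2.1), x.1.2, x.2.2⟩
      left_inv := fun m => Subtype.ext rfl
      right_inv := fun x => rfl }
  rw [Nat.card_congr e, Nat.card_prod, h3, h5]

namespace Data

variable {G : Type u} [Group G]

/-- The class of `a`. -/
def AT (L : Data G) (x : G) : Prop := ∃ g : G, g * L.a * g⁻¹ = x

variable {L : Data G}

theorem AT.conj {x : G} (h : L.AT x) (g : G) : L.AT (g * x * g⁻¹) := by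
  obtain ⟨n, rfl⟩ := h
  exact ⟨g * n, by group⟩

theorem AT.sigma {x : G} (h : L.AT x) : L.AT (L.σ * x * L.σ) := by
  have := h.conj L.σ
  rwa [L.σ_inv] at this

theorem AT.bconj {x : G} (h : L.AT x) : L.AT (L.b * x * L.b) := by
  have := h.conj L.b
  rwa [L.b_inv] at this

theorem AT_a : L.AT L.a := ⟨1, by group⟩

theorem σ_mul (x y : G) : L.σ * (x * y) * L.σ = (L.σ * x * L.σ) * (L.σ * y * L.σ) := by
  calc L.σ * (x * y) * L.σ = L.σ * x * (L.σ * L.σ) * y * L.σ := by rw [L.σ_sq, mul_one, mul_assoc L.σ x y]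
    _ = _ := by group

theorem σ_mem_of {U : Subgroup G} {x y : G} (hx : L.σ * x * L.σ ∈ U) (hy : L.σ * y * L.σ ∈ U) :
    L.σ * (x * y) * L.σ ∈ U := by rw [σ_mul]; exact mul_mem hx hy

theorem caseA_maps (hA : L.σ * L.t * L.σ = L.k) :
    L.σ * L.k * L.σ = L.t ∧ L.σ * L.a * L.σ = L.t * L.j ∧ L.σ * (L.t * L.j) * L.σ = L.a ∧
      L.σ * (L.t * L.a) * L.σ = L.t * L.a ∧ L.σ * (L.t * L.k) * L.σ = L.t * L.k := by
  have hk : L.σ * L.k * L.σ = L.t := by rw [← hA, L.σ_σ]
  have ha : L.σ * L.a * L.σ = L.t * L.j := by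
    rw [show L.a = L.k * L.j by rw [← map_mul]; exact L.ι_eq zN_spec.2.2.2.2.2.2.2.2.2.1, σ_mul, hk, L.σ_j]
  refine ⟨hk, ha, by rw [← ha, L.σ_σ], ?_, ?_⟩
  · rw [σ_mul, hA, ha, ← map_mul, ← map_mul, ← map_mul]; exact L.ι_eq (by decide +kernel)
  · rw [σ_mul, hA, hk, ← map_mul, ← map_mul]; exact L.ι_eq (by decide +kernel)

theorem caseB_maps (hB : L.σ * L.t * L.σ = L.a) :
    L.σ * L.a * L.σ = L.t ∧ L.σ * L.k * L.σ = L.t * L.j ∧ L.σ * (L.t * L.a) * L.σ = L.t * L.a := by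
  have ha : L.σ * L.a * L.σ = L.t := by rw [← hB, L.σ_σ]
  refine ⟨ha, by rw [L.k_eq, σ_mul, ha, L.σ_j], ?_⟩
  rw [σ_mul, hB, ha, ← map_mul, ← map_mul]; exact L.ι_eq (by decide +kernel)

theorem AT_tj_A (hA : L.σ * L.t * L.σ = L.k) : L.AT (L.t * L.j) ∧ L.AT (L.t * L.k) := by
  have h1 : L.AT (L.t * L.j) := by rw [← (caseA_maps hA).2.1]; exact AT_a.sigma
  refine ⟨h1, ?_⟩
  rw [show L.t * L.k = L.b * (L.t * L.j) * L.b by
    rw [← map_mul, ← map_mul, ← map_mul, ← map_mul]; exact L.ι_eq (by decide +kernel)]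
  exact h1.bconj

variable [Finite G]

theorem not_AT_j (g : G) : ¬ L.AT (g * L.j * g⁻¹) := by
  rintro ⟨n, hn⟩
  refine L.a_ne_j (n⁻¹ * g) ?_
  calc n⁻¹ * g * L.j * (n⁻¹ * g)⁻¹ = n⁻¹ * (g * L.j * g⁻¹) * n := by group
    _ = L.a := by rw [← hn]; group

theorem not_AT_k : ¬ L.AT L.k := by
  have := not_AT_j (L := L) L.b
  rwa [L.b_inv, L.bjb] at this

theorem not_AT_σ : ¬ L.AT L.σ ∧ ¬ L.AT (L.σ * L.j) :=
  ⟨fun ⟨g, hg⟩ => (L.σ_ne_a g).1 hg, fun ⟨g, hg⟩ => (L.σ_ne_a g).2 hg⟩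

theorem b_normB : ∀ x ∈ L.Bp, L.b * x * L.b ∈ L.Bp := by
  rintro _ ⟨m, hm, rfl⟩
  refine ⟨bN * m * bN, ?_, by rw [map_mul, map_mul]⟩
  obtain ⟨-, -, ha, -⟩ := B35_gens
  have hmul : bN * m * bN = m ∨ bN * m * bN = m * aN := by
    rcases B35_list hm with rfl | rfl | rfl | rfl | rfl | rfl | rfl | rfl <;> decide +kernel
  rcases hmul with e | e <;> rw [e]
  exacts [hm, mul_mem hm ha]

/-- In the thin shape a two-element normalising the known part lies in it. -/
theorem thin_two (hT : L.Thin) {y : G} (hy : y ∈ L.La) (hp : IsPGroup 2 (Subgroup.zpowers y))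
    (hn : y ∈ Subgroup.normalizer (L.Bp : Set G)) : y ∈ L.Bp := by
  haveI := Fact.mk Nat.prime_two
  have hBp : IsPGroup 2 L.Bp := IsPGroup.of_card (n := 3) (by rw [L.Bp_card]; norm_num)
  have hsup := hp.to_sup_of_normal_right' hBp (Subgroup.zpowers_le.2 hn)
  have hle : Subgroup.zpowers y ⊔ L.Bp ≤ L.La :=
    sup_le (Subgroup.zpowers_le.2 hy) (L.Bp_le_CB.trans inf_le_left)
  have heq := Subgroup.eq_of_le_of_card_ge (le_sup_right : L.Bp ≤ Subgroup.zpowers y ⊔ L.Bp)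
    (by rw [L.Bp_card]; exact hT _ hle hsup)
  rw [heq]
  exact le_sup_left (a := Subgroup.zpowers y) (b := L.Bp) (Subgroup.mem_zpowers y)

theorem thin_CB (hT : L.Thin) {y : G} (hy : y ∈ L.CB) (hp : IsPGroup 2 (Subgroup.zpowers y)) : y ∈ L.Bp :=
  thin_two hT hy.1 hp (CfsgLib.A8ThreeLocal.Loc.normalises_of fun x hx => by
    rw [(L.comm_Bp hy hx).eq, mul_inv_cancel_right]; exact hx)

theorem σ_normB_A (hA : L.σ * L.t * L.σ = L.k) : ∀ x ∈ L.Bp, L.σ * x * L.σ ∈ L.Bp := by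
  obtain ⟨gt, gj, ga, gk⟩ := B35_gens
  obtain ⟨hk, ha, -, -, -⟩ := caseA_maps hA
  have ht' : L.σ * L.t * L.σ ∈ L.Bp := by rw [hA]; exact ⟨kN, gk, rfl⟩
  have hj' : L.σ * L.j * L.σ ∈ L.Bp := by rw [L.σ_j]; exact ⟨jN, gj, rfl⟩
  have hk' : L.σ * L.k * L.σ ∈ L.Bp := by rw [hk]; exact ⟨tN, gt, rfl⟩
  have ha' : L.σ * L.a * L.σ ∈ L.Bp := by rw [ha]; exact mul_mem ⟨tN, gt, rfl⟩ ⟨jN, gj, rfl⟩
  rintro _ ⟨m, hm, rfl⟩
  rcases B35_list hm with rfl | rfl | rfl | rfl | rfl | rfl | rfl | rfl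
  · rw [map_one, mul_one, L.σ_sq]; exact one_mem _
  · exact ha'
  · exact hj'
  · exact hk'
  · exact ht'
  all_goals rw [map_mul]
  · exact σ_mem_of ht' ha'
  · exact σ_mem_of ht' hj'
  · exact σ_mem_of ht' hk'

/-- The two-group generated by the known part and `σ`. -/
theorem exists_SD (hA : L.σ * L.t * L.σ = L.k) : ∃ S : Subgroup G, IsPGroup 2 S ∧ L.Bp ≤ S ∧ L.σ ∈ S ∧
    ∀ x ∈ S, x ∈ L.Bp ∨ x * L.σ ∈ L.Bp := by
  haveI := Fact.mk Nat.prime_two
  have hB := σ_normB_A hA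
  let C : Subgroup G :=
    { carrier := {g | g ∈ L.Bp ∨ g * L.σ ∈ L.Bp}
      one_mem' := Or.inl (one_mem _)
      mul_mem' := by
        rintro x y (hx | hx) (hy | hy)
        · exact Or.inl (mul_mem hx hy)
        · exact Or.inr (by rw [mul_assoc]; exact mul_mem hx hy)
        · refine Or.inr ?_
          rw [show x * y * L.σ = (x * L.σ) * (L.σ⁻¹ * y * L.σ) by group, L.σ_inv]
          exact mul_mem hx (hB _ hy)
        · refine Or.inl ?_
          rw [show x * y = (x * L.σ) * (L.σ⁻¹ * (y * L.σ) * L.σ⁻¹) by group, L.σ_inv]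
          exact mul_mem hx (hB _ hy)
      inv_mem' := by
        rintro x (hx | hx)
        · exact Or.inl (inv_mem hx)
        · refine Or.inr ?_
          rw [show x⁻¹ * L.σ = L.σ * (x * L.σ)⁻¹ * L.σ by rw [mul_inv_rev, L.σ_inv, ← mul_assoc L.σ, L.σ_sq, one_mul]]
          exact hB _ (inv_mem hx) }
  have hp : IsPGroup 2 (Subgroup.zpowers L.σ) := fun x => ⟨1, Subtype.ext (by
    obtain ⟨n, hn⟩ := Subgroup.mem_zpowers_iff.1 x.2
    rw [pow_one, SubmonoidClass.coe_pow, ← hn, ← zpow_natCast, ← zpow_mul, mul_comm, zpow_mul, zpow_natCast,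
      pow_two, L.σ_sq, one_zpow, Subgroup.coe_one])⟩
  have hBp : IsPGroup 2 L.Bp := IsPGroup.of_card (n := 3) (by rw [L.Bp_card]; norm_num)
  have hn : L.σ ∈ Subgroup.normalizer (L.Bp : Set G) :=
    CfsgLib.A8ThreeLocal.Loc.normalises_of fun x hx => by rw [L.σ_inv]; exact hB x hx
  refine ⟨Subgroup.zpowers L.σ ⊔ L.Bp, hp.to_sup_of_normal_right' hBp (Subgroup.zpowers_le.2 hn), le_sup_right,
    le_sup_left (a := Subgroup.zpowers L.σ) (b := L.Bp) (Subgroup.mem_zpowers _), fun x hx => ?_⟩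
  have hle : Subgroup.zpowers L.σ ⊔ L.Bp ≤ C :=
    sup_le (Subgroup.zpowers_le.2 (Or.inr (by rw [L.σ_sq]; exact one_mem _))) fun y hy => Or.inl hy
  exact hle hx

theorem not_AT_twist (hA : L.σ * L.t * L.σ = L.k) {e : G}
    (he : e = 1 ∨ e = L.j ∨ e = L.t * L.a ∨ e = L.t * L.k) : ¬ L.AT (e * L.σ) := by
  have htt := L.sq_one zN_spec.2.2.2.2.2.2.2.1
  intro hat
  rcases he with rfl | rfl | rfl | rfl
  · exact (not_AT_σ (L := L)).1 (by rwa [one_mul] at hat)
  · exact (not_AT_σ (L := L)).2 (by rwa [← L.σ_comm_j.eq] at hat)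
  · refine (not_AT_σ (L := L)).2 ?_
    have := hat.conj L.t
    rwa [show L.t * (L.t * L.a * L.σ) * L.t⁻¹ = L.σ * L.j by
      have e1 : L.t * (L.t * L.a) = L.a := by rw [← mul_assoc, htt, one_mul]
      have e2 : L.σ * L.t⁻¹ = L.k * L.σ := by
        rw [inv_eq_of_mul_eq_one_right htt, ← hA, mul_assoc _ L.σ L.σ, L.σ_sq, mul_one]
      rw [show L.t * (L.t * L.a * L.σ) * L.t⁻¹ = L.t * (L.t * L.a) * (L.σ * L.t⁻¹) by group, e1, e2,
        ← mul_assoc, show L.a * L.k = L.j by rw [← map_mul]; exact L.ι_eq (by decide +kernel),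
        L.σ_comm_j.eq]] at this
  · refine (not_AT_σ (L := L)).1 ?_
    have := hat.conj L.t
    rwa [show L.t * (L.t * L.k * L.σ) * L.t⁻¹ = L.σ by
      have e2 : L.k * L.σ = L.σ * L.t := by rw [← hA, mul_assoc _ L.σ L.σ, L.σ_sq, mul_one]
      rw [show L.t * (L.t * L.k * L.σ) * L.t⁻¹ = L.t * L.t * (L.k * L.σ) * L.t⁻¹ by group, htt, e2,
        one_mul, mul_inv_cancel_right]] at this

/-- An elementary subgroup of that group with three elements of the class of `a` lies in the known part. -/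
theorem elem_SD (hA : L.σ * L.t * L.σ = L.k) {U : Subgroup G} (hU : ∀ x ∈ U, x ∈ L.Bp ∨ x * L.σ ∈ L.Bp)
    (hel : ∀ x ∈ U, x * x = 1) {x y w : G} (hx : x ∈ U) (hy : y ∈ U) (hw : w ∈ U) (hxy : x ≠ y) (hxw : x ≠ w)
    (hyw : y ≠ w) (ax : L.AT x) (ay : L.AT y) (aw : L.AT w) : U ≤ L.Bp := by
  obtain ⟨hk, ha, htj, hta, htk⟩ := caseA_maps hA
  by_contra hne
  obtain ⟨v, hvU, hvB⟩ := SetLike.not_le_iff_exists.1 hne
  have hvσ := (hU v hvU).resolve_left hvB
  have hfix : ∀ e ∈ L.Bp, L.σ * e * L.σ = e → e = 1 ∨ e = L.j ∨ e = L.t * L.a ∨ e = L.t * L.k := by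
    rintro _ ⟨m, hm, rfl⟩ he
    rcases B35_list hm with rfl | rfl | rfl | rfl | rfl | rfl | rfl | rfl
    · exact Or.inl (map_one _)
    · rw [ha, ← map_mul] at he
      exact absurd (L.inj he) (by decide +kernel)
    · exact Or.inr (Or.inl rfl)
    · rw [hk] at he
      exact absurd (L.inj he) (by decide +kernel)
    · rw [hA] at he
      exact absurd (L.inj he) (by decide +kernel)
    · exact Or.inr (Or.inr (Or.inl (map_mul L.ι _ _)))
    · rw [map_mul, htj, ← map_mul] at he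
      exact absurd (L.inj he) (by decide +kernel)
    · exact Or.inr (Or.inr (Or.inr (map_mul L.ι _ _)))
  have hBc : ∀ e ∈ L.Bp, ∀ f ∈ L.Bp, e * f = f * e := fun e he f hf => (L.comm_Bp (L.Bp_le_CB he) hf).eq
  have hin : ∀ e, L.AT e → e ∈ U → e = L.t * L.a ∨ e = L.t * L.k := by
    intro e hat he
    rcases hU e he with heB | heσ
    · have hev : e * v = v * e := by
        have h1 := hel _ (mul_mem he hvU)
        rw [show e * v = (e * v) * (e * v) * (v⁻¹ * e⁻¹) by group, h1, one_mul,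
          inv_eq_of_mul_eq_one_right (hel e he), inv_eq_of_mul_eq_one_right (hel v hvU)]
      have hσe : L.σ * e * L.σ = e := by
        have h2 : Commute e ((v * L.σ)⁻¹ * v) :=
          ((show Commute e (v * L.σ) from hBc e heB _ hvσ).inv_right).mul_right hev
        rw [show (v * L.σ)⁻¹ * v = L.σ⁻¹ by group, L.σ_inv] at h2
        rw [← h2.eq, mul_assoc, L.σ_sq, mul_one]
      rcases hfix e heB hσe with rfl | rfl | rfl | rfl
      · obtain ⟨g, hg⟩ := hat
        exact absurd (conj_eq_one_iff.1 hg) L.a_ne_one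
      · exact absurd (by simpa using hat) (not_AT_j (L := L) 1)
      · exact Or.inl rfl
      · exact Or.inr rfl
    · exfalso
      have h1 := hel e he
      set f := e * L.σ with hf
      have he' : e = f * L.σ := by rw [hf, mul_assoc, L.σ_sq, mul_one]
      have hσf : L.σ * f * L.σ = f := by
        have hff := L.Bp_sq heσ
        rw [he', show f * L.σ * (f * L.σ) = f * (L.σ * f * L.σ) by group] at h1
        exact mul_left_cancel (h1.trans hff.symm)
      exact not_AT_twist hA (hfix f heσ hσf) (by rwa [← he'])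
  rcases hin x ax hx with rfl | rfl <;> rcases hin y ay hy with rfl | rfl <;>
    rcases hin w aw hw with rfl | rfl <;>
    first | exact hxy rfl | exact hxw rfl | exact hyw rfl

theorem thin_false_A (hA : L.σ * L.t * L.σ = L.k) (hT : L.Thin) : False := by
  classical
  haveI := Fact.mk Nat.prime_two
  obtain ⟨S, hSp, hBS, hσS, hS⟩ := exists_SD hA
  obtain ⟨hk, ha, htj, hta, htk⟩ := caseA_maps hA
  obtain ⟨atj, atk⟩ := AT_tj_A hA
  obtain ⟨gt, gj, ga, gk⟩ := B35_gens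
  have mt : L.t ∈ L.Bp := ⟨tN, gt, rfl⟩
  have mj : L.j ∈ L.Bp := ⟨jN, gj, rfl⟩
  have ma : L.a ∈ L.Bp := ⟨aN, ga, rfl⟩
  have mk : L.k ∈ L.Bp := ⟨kN, gk, rfl⟩
  have hne : L.a ≠ L.t * L.j ∧ L.a ≠ L.t * L.k ∧ L.t * L.j ≠ L.t * L.k := by
    refine ⟨?_, ?_, ?_⟩ <;> simp only [← map_mul] <;> exact fun e => absurd (L.inj e) (by decide +kernel)
  have hstep : ∀ P : Subgroup G, IsPGroup 2 P → S ≤ P → S = P := by
    intro P hP hSP
    by_contra hSne
    obtain ⟨g, hgP, hgS, hgn⟩ := exists_norm_step hP hSP hSne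
    -- the known part is normalised
    have hgB : ∀ x ∈ L.Bp, g * x * g⁻¹ ∈ L.Bp := by
      have h := elem_SD hA (U := L.Bp.map (MulAut.conj g).toMonoidHom)
        (by rintro _ ⟨x, hx, rfl⟩; exact hS _ (hgn x (hBS hx)))
        (by rintro _ ⟨x, hx, rfl⟩; rw [← map_mul, L.Bp_sq hx, map_one])
        ⟨_, ma, rfl⟩ ⟨_, mul_mem mt mj, rfl⟩ ⟨_, mul_mem mt mk, rfl⟩
        (fun e => hne.1 ((MulAut.conj g).injective e)) (fun e => hne.2.1 ((MulAut.conj g).injective e))
        (fun e => hne.2.2 ((MulAut.conj g).injective e)) (AT_a.conj g) (atj.conj g) (atk.conj g)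
      exact fun x hx => h ⟨x, hx, rfl⟩
    let v : Fin 3 → G := ![L.a, L.t * L.j, L.t * L.k]
    have hvinj : Function.Injective v := by
      intro i i' e
      fin_cases i <;> fin_cases i' <;>
        first | rfl | exact absurd e hne.1 | exact absurd e hne.1.symm | exact absurd e hne.2.1 |
          exact absurd e hne.2.1.symm | exact absurd e hne.2.2 | exact absurd e hne.2.2.symm
    have hvAT : ∀ i, L.AT (v i) := by
      intro i
      fin_cases i
      exacts [AT_a, atj, atk]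
    have hvB : ∀ i, v i ∈ L.Bp := by
      intro i
      fin_cases i
      exacts [ma, mul_mem mt mj, mul_mem mt mk]
    have hcand : ∀ e ∈ L.Bp, L.AT e → ∃ m ∈ [aN, tN * aN, tN * jN, tN * kN], e = L.ι m := by
      rintro _ ⟨m, hm, rfl⟩ hat
      refine ⟨m, ?_, rfl⟩
      rcases B35_list hm with rfl | rfl | rfl | rfl | rfl | rfl | rfl | rfl
      · obtain ⟨n, hn⟩ := hat
        rw [map_one] at hn
        exact absurd (conj_eq_one_iff.1 hn) L.a_ne_one
      · simp
      · exact absurd (by simpa using hat) (not_AT_j (L := L) 1)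
      · exact absurd hat not_AT_k
      · refine absurd ?_ (not_AT_k (L := L))
        rw [← hA]
        exact hat.sigma
      all_goals simp
    have hperm : ∀ h : G, (∀ x ∈ L.Bp, h * x * h⁻¹ ∈ L.Bp) → ∃ π : Perm (Fin 3), ∀ i, h * v i * h⁻¹ = v (π i) := by
      intro h hh
      obtain ⟨x, hx, ex⟩ := hcand _ (hh _ (hvB 0)) ((hvAT 0).conj h)
      obtain ⟨y, hy, ey⟩ := hcand _ (hh _ (hvB 1)) ((hvAT 1).conj h)
      obtain ⟨w, hw, ew⟩ := hcand _ (hh _ (hvB 2)) ((hvAT 2).conj h)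
      have hprod : v 0 * v 1 = v 2 := by
        show L.a * (L.t * L.j) = L.t * L.k
        rw [← map_mul, ← map_mul, ← map_mul]; exact L.ι_eq (by decide +kernel)
      have hxyw : x * y = w := L.inj (by rw [map_mul, ← ex, ← ey, ← ew, ← hprod]; group)
      obtain ⟨hx3, hy3⟩ := six_types x hx y hy (hxyw ▸ hw)
      obtain ⟨-, hw3⟩ := six_types x hx w hw (by
        have h2 : x * w = y := by
          have hxx : x * x = 1 := L.inj (by
            rw [map_mul, ← ex, map_one,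
              show h * v 0 * h⁻¹ * (h * v 0 * h⁻¹) = h * (v 0 * v 0) * h⁻¹ by group, L.Bp_sq (hvB 0)]
            group)
          rw [← hxyw, ← mul_assoc, hxx, one_mul]
        rw [h2]; exact hy)
      have hidx : ∀ m ∈ [aN, tN * jN, tN * kN], ∃ i, L.ι m = v i := by
        intro m hm
        simp only [List.mem_cons, List.not_mem_nil, or_false] at hm
        rcases hm with rfl | rfl | rfl
        exacts [⟨0, rfl⟩, ⟨1, map_mul _ _ _⟩, ⟨2, map_mul _ _ _⟩]
      obtain ⟨i0, h0⟩ := hidx x hx3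
      obtain ⟨i1, h1⟩ := hidx y hy3
      obtain ⟨i2, h2⟩ := hidx w hw3
      let f : Fin 3 → Fin 3 := ![i0, i1, i2]
      have hf : ∀ i, h * v i * h⁻¹ = v (f i) := by
        intro i
        fin_cases i
        exacts [ex.trans h0, ey.trans h1, ew.trans h2]
      have hfinj : Function.Injective f := by
        intro i i' e
        have := (hf i).trans ((congrArg v e).trans (hf i').symm)
        exact hvinj (mul_left_cancel (mul_right_cancel this))
      exact ⟨Equiv.ofBijective f (Finite.injective_iff_bijective.1 hfinj), hf⟩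
    have hpow : ∀ (h : G) (π : Perm (Fin 3)), (∀ i, h * v i * h⁻¹ = v (π i)) →
        ∀ (n : ℕ) i, h ^ n * v i * (h ^ n)⁻¹ = v ((π ^ n) i) := by
      intro h π hh n
      induction n with
      | zero => intro i; simp
      | succ n ih =>
        intro i
        rw [pow_succ, pow_succ, show h ^ n * h * v i * (h ^ n * h)⁻¹ = h ^ n * (h * v i * h⁻¹) * (h ^ n)⁻¹ by group,
          hh, ih, Equiv.Perm.mul_apply]
    have hno3 : ∀ (h : G) (π : Perm (Fin 3)), h ∈ P → (∀ i, h * v i * h⁻¹ = v (π i)) → π ^ 3 = 1 → π = 1 := by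
      intro h π hhP hh h3
      obtain ⟨n, hn⟩ := hP ⟨h, hhP⟩
      have hn' : h ^ 2 ^ n = 1 := by simpa using congrArg Subtype.val hn
      have h2 : π ^ 2 ^ n = 1 := Equiv.ext fun i => hvinj (by
        rw [← hpow h π hh, hn', one_mul, inv_one, mul_one]; rfl)
      have := pow_gcd_eq_one.2 ⟨h2, h3⟩
      rwa [Nat.Coprime.pow_left n (show Nat.Coprime 2 3 by norm_num), pow_one] at this
    obtain ⟨π, hπ⟩ := hperm g hgB
    have hσv : ∀ i, L.σ * v i * L.σ⁻¹ = v ((swap 0 1 : Perm (Fin 3)) i) := by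
      intro i
      rw [L.σ_inv]
      fin_cases i
      exacts [ha, htj, htk]
    have hσg : ∀ i, L.σ * g * v i * (L.σ * g)⁻¹ = v (((swap 0 1 : Perm (Fin 3)) * π) i) := by
      intro i
      rw [show L.σ * g * v i * (L.σ * g)⁻¹ = L.σ * (g * v i * g⁻¹) * L.σ⁻¹ by group, hπ, hσv, Equiv.Perm.mul_apply]
    obtain ⟨g', hg'P, hg'S, hg'B, hg'v⟩ : ∃ g' ∈ P, g' ∉ S ∧ (∀ x ∈ L.Bp, g' * x * g'⁻¹ ∈ L.Bp) ∧
        ∀ i, g' * v i * g'⁻¹ = v i := by
      rcases three_perm π with h | h | ⟨h, h1⟩ | ⟨h, h1⟩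
      · exact ⟨g, hgP, hgS, hgB, fun i => by rw [hπ, h]; rfl⟩
      · refine ⟨L.σ * g, mul_mem (hSP hσS) hgP,
          fun e => hgS (by simpa using mul_mem (inv_mem hσS) e), fun x hx => ?_,
          fun i => by rw [hσg, h, swap_mul_self]; rfl⟩
        rw [show L.σ * g * x * (L.σ * g)⁻¹ = L.σ * (g * x * g⁻¹) * L.σ⁻¹ by group, L.σ_inv]
        exact σ_normB_A hA _ (hgB x hx)
      · exact absurd (hno3 g π hgP hπ h) h1
      · exact absurd (hno3 _ _ (mul_mem (hSP hσS) hgP) hσg h) h1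
    have fa : g' * L.a * g'⁻¹ = L.a := hg'v 0
    have ftj : g' * (L.t * L.j) * g'⁻¹ = L.t * L.j := hg'v 1
    have fga : Commute g' L.a := mul_inv_eq_iff_eq_mul.1 fa
    obtain ⟨m, hm, hme⟩ := hg'B _ mj
    have fj : g' * L.j * g'⁻¹ = L.ι m := hme.symm
    have ft : g' * L.t * g'⁻¹ = L.t * L.j * L.ι m := by
      rw [← fj]
      conv_rhs => rw [← ftj]
      rw [show g' * (L.t * L.j) * g'⁻¹ * (g' * L.j * g'⁻¹) = g' * (L.t * (L.j * L.j)) * g'⁻¹ by group, L.j_sq,
        mul_one]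
    have hT0 : ∀ q, (q = L.j ∨ q = L.k) → g' * L.t * g'⁻¹ ≠ q := by
      intro q hq e
      let U := (T35.map L.ι).map (MulAut.conj g').toMonoidHom
      have hU : U ≤ L.La := by
        rintro _ ⟨_, ⟨n, hn, rfl⟩, rfl⟩
        obtain ⟨h1, h2⟩ := T35_comm hn
        have c1 : Commute (g' * L.ι n * g'⁻¹) L.a := by
          have := (show Commute (L.ι n) L.a from Commute.map h1 L.ι).map (MulAut.conj g').toMonoidHom
          simp only [MulEquiv.coe_toMonoidHom, MulAut.conj_apply] at this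
          rwa [fa] at this
        have c2 : Commute (g' * L.ι n * g'⁻¹) q := by
          have := (show Commute (L.ι n) L.t from Commute.map h2 L.ι).map (MulAut.conj g').toMonoidHom
          simp only [MulEquiv.coe_toMonoidHom, MulAut.conj_apply] at this
          rwa [e] at this
        rw [L.mem_La]
        simp only [MulEquiv.coe_toMonoidHom, MulAut.conj_apply]
        refine ⟨c1, ?_⟩
        rcases hq with rfl | rfl
        · exact c2
        · rw [show L.j = L.a * L.k by rw [← map_mul]; exact L.ι_eq (by decide +kernel)]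
          exact c1.mul_right c2
      have hc : Nat.card U = 16 := by
        rw [Subgroup.card_map_of_injective (MulAut.conj g').injective, Subgroup.card_map_of_injective L.inj,
          T35_card]
      have := hT U hU (IsPGroup.of_card (n := 4) (by rw [hc]; norm_num))
      omega
    have hgLa : ∀ h : G, Commute h L.a → h * L.j * h⁻¹ = L.j → h ∈ L.La := fun h h1 h2 =>
      L.mem_La.2 ⟨h1, mul_inv_eq_iff_eq_mul.1 h2⟩
    have hnotAT : ¬ L.AT (L.ι m) := by rw [← fj]; exact not_AT_j g'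
    rcases B35_list hm with rfl | rfl | rfl | rfl | rfl | rfl | rfl | rfl
    · rw [map_one] at fj
      exact L.j_ne_one (conj_eq_one_iff.1 fj)
    · exact hnotAT AT_a
    · -- `j` fixed
      have hcb : g' ∈ L.CB := L.mem_CB.2 ⟨fga, mul_inv_eq_iff_eq_mul.1 fj, mul_inv_eq_iff_eq_mul.1
        (by rw [ft, mul_assoc, L.j_sq, mul_one])⟩
      refine hg'S (hBS (thin_CB hT hcb ?_))
      exact hP.to_le (Subgroup.zpowers_le.2 hg'P)
    · -- `j` to `k`
      set y := L.b * g' with hy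
      have hbk : L.b * L.k * L.b = L.j := by
        rw [← map_mul, ← map_mul]; exact L.ι_eq (by decide +kernel)
      have ya : Commute y L.a :=
        (Commute.map (by rw [commute_iff_eq]; decide +kernel : Commute bN aN) L.ι).mul_left fga
      have yj : y * L.j * y⁻¹ = L.j := by
        rw [hy, show L.b * g' * L.j * (L.b * g')⁻¹ = L.b * (g' * L.j * g'⁻¹) * L.b⁻¹ by group, fj, L.b_inv, hbk]
      have yt : y * L.t * y⁻¹ = L.t * L.a := by
        rw [hy, show L.b * g' * L.t * (L.b * g')⁻¹ = L.b * (g' * L.t * g'⁻¹) * L.b⁻¹ by group, ft, L.b_inv,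
          ← map_mul, ← map_mul, ← map_mul, ← map_mul, ← map_mul]
        exact L.ι_eq (by decide +kernel)
      have yB : y ∈ Subgroup.normalizer (L.Bp : Set G) :=
        CfsgLib.A8ThreeLocal.Loc.normalises_of fun x hx => by
          rw [hy, show L.b * g' * x * (L.b * g')⁻¹ = L.b * (g' * x * g'⁻¹) * L.b⁻¹ by group, L.b_inv]
          exact b_normB _ (hg'B x hx)
      obtain ⟨i, hi⟩ := exists_two_part y
      have hodd : ∀ i : ℕ, y ^ (2 * i + 1) * L.t * (y ^ (2 * i + 1))⁻¹ = L.t * L.a := by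
        intro i
        induction i with
        | zero => rw [pow_one, yt]
        | succ i ih =>
          rw [show 2 * (i + 1) + 1 = 2 + (2 * i + 1) by ring, pow_add, pow_two]
          rw [show y * y * y ^ (2 * i + 1) * L.t * (y * y * y ^ (2 * i + 1))⁻¹ =
            y * (y * (y ^ (2 * i + 1) * L.t * (y ^ (2 * i + 1))⁻¹) * y⁻¹) * y⁻¹ by group, ih,
            conj_mul_eq yt (show y * L.a * y⁻¹ = L.a by rw [ya.eq, mul_inv_cancel_right]), mul_assoc L.t, L.a_sq,
            mul_one, yt]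
      have hyL : y ^ (2 * i + 1) ∈ L.La := pow_mem (hgLa y ya yj) _
      have hyB := thin_two hT hyL hi (pow_mem yB _)
      have := hodd i
      rw [(L.comm_Bp (L.Bp_le_CB hyB) mt).eq, mul_inv_cancel_right] at this
      exact L.a_ne_one (left_eq_mul.1 this)
    · -- `j` to `t`
      exact hT0 L.j (Or.inl rfl) (by rw [ft, ← map_mul, ← map_mul]; exact L.ι_eq (by decide +kernel))
    · -- `j` to `ta`
      exact hT0 L.k (Or.inr rfl) (by rw [ft, ← map_mul, ← map_mul]; exact L.ι_eq (by decide +kernel))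
    · exact hnotAT (by rw [map_mul]; exact atj)
    · exact hnotAT (by rw [map_mul]; exact atk)
  -- `T35` inside a conjugate of `S`
  obtain ⟨P, hSP⟩ := hSp.exists_le_sylow
  have hTp : IsPGroup 2 (T35.map L.ι) := IsPGroup.of_card (n := 4)
    (by rw [Subgroup.card_map_of_injective L.inj, T35_card]; norm_num)
  obtain ⟨Q, hTQ⟩ := hTp.exists_le_sylow
  obtain ⟨h, hh⟩ := MulAction.exists_smul_eq G Q P
  have hmap : ∀ m ∈ T35, h * L.ι m * h⁻¹ ∈ L.Bp ∨ h * L.ι m * h⁻¹ * L.σ ∈ L.Bp := by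
    intro m hm
    refine hS _ ?_
    rw [hstep P P.isPGroup' hSP, ← hh, Sylow.coe_subgroup_smul]
    exact Subgroup.smul_mem_pointwise_smul _ (MulAut.conj h) _ (hTQ ⟨m, hm, rfl⟩)
  have tm : ∀ m : N35, m ∈ [aN, bN, jN, kN, tN] → m ∈ T35 := T35_mem
  have ta' : aN ∈ T35 := tm _ (by simp)
  have tb' : bN ∈ T35 := tm _ (by simp)
  have hB35 : B35 ≤ T35 := by
    intro m hm
    rcases B35_list hm with rfl | rfl | rfl | rfl | rfl | rfl | rfl | rfl
    exacts [one_mem _, ta', tm _ (by simp), tm _ (by simp), tm _ (by simp), mul_mem (tm _ (by simp)) ta',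
      mul_mem (tm _ (by simp)) (tm _ (by simp)), mul_mem (tm _ (by simp)) (tm _ (by simp))]
  have hVT : VN ≤ T35 := by
    rintro m (rfl | rfl | rfl | rfl)
    exacts [one_mem _, ta', tb', mul_mem ta' tb']
  have h1 := elem_SD hA (U := L.Bp.map (MulAut.conj h).toMonoidHom)
    (by rintro _ ⟨_, ⟨m, hm, rfl⟩, rfl⟩; exact hmap m (hB35 hm))
    (by rintro _ ⟨x, hx, rfl⟩; rw [← map_mul, L.Bp_sq hx, map_one])
    ⟨_, ma, rfl⟩ ⟨_, mul_mem mt mj, rfl⟩ ⟨_, mul_mem mt mk, rfl⟩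
    (fun e => hne.1 ((MulAut.conj h).injective e)) (fun e => hne.2.1 ((MulAut.conj h).injective e))
    (fun e => hne.2.2 ((MulAut.conj h).injective e)) (AT_a.conj h) (atj.conj h) (atk.conj h)
  have mb : L.b ∈ L.V := ⟨bN, Or.inr (Or.inr (Or.inl rfl)), rfl⟩
  have mab : L.a * L.b ∈ L.V := ⟨aN * bN, Or.inr (Or.inr (Or.inr rfl)), map_mul _ _ _⟩
  have hne' : L.a ≠ L.b ∧ L.a ≠ L.a * L.b ∧ L.b ≠ L.a * L.b := by
    refine ⟨?_, ?_, ?_⟩ <;> (try simp only [← map_mul]) <;> exact fun e => absurd (L.inj e) (by decide +kernel)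
  have h2 := elem_SD hA (U := L.V.map (MulAut.conj h).toMonoidHom)
    (by rintro _ ⟨_, ⟨m, hm, rfl⟩, rfl⟩; exact hmap m (hVT hm))
    (by rintro _ ⟨_, ⟨m, hm, rfl⟩, rfl⟩; rw [← map_mul, ← map_mul, VN_sq m hm, map_one, map_one])
    ⟨_, ⟨aN, Or.inr (Or.inl rfl), rfl⟩, rfl⟩ ⟨_, mb, rfl⟩ ⟨_, mab, rfl⟩
    (fun e => hne'.1 ((MulAut.conj h).injective e)) (fun e => hne'.2.1 ((MulAut.conj h).injective e))
    (fun e => hne'.2.2 ((MulAut.conj h).injective e)) (AT_a.conj h)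
    (AT.conj (conj_a_V (Or.inl rfl)) h) (AT.conj (conj_a_V (Or.inr rfl)) h)
  have heq := Subgroup.eq_of_le_of_card_ge h1
    (Subgroup.card_map_of_injective (f := (MulAut.conj h).toMonoidHom) (MulAut.conj h).injective).ge
  have hbB := h2 ⟨_, mb, rfl⟩
  rw [← heq] at hbB
  obtain ⟨e, he, hee⟩ := hbB
  obtain ⟨m, hm, rfl⟩ := he
  have := L.inj ((MulAut.conj h).injective hee)
  subst this
  exact absurd (B35_list hm) (by decide +kernel)

theorem thin_false_B (hB : L.σ * L.t * L.σ = L.a) (hK : L.SmallK) (hT : L.Thin) : False := by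
  obtain ⟨ha, -, hta⟩ := caseB_maps hB
  set b' := L.σ * L.b * L.σ with hb'
  have cab : Commute L.a L.b := Commute.map (by rw [commute_iff_eq]; decide +kernel : Commute aN bN) L.ι
  have ctb : Commute L.t L.b := Commute.map (by rw [commute_iff_eq]; decide +kernel : Commute tN bN) L.ι
  have cat : Commute L.a L.t := Commute.map (by rw [commute_iff_eq]; decide +kernel : Commute aN tN) L.ι
  have ctk : Commute L.t L.k := Commute.map (by rw [commute_iff_eq]; decide +kernel : Commute tN kN) L.ι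
  have htt : L.t * L.t = 1 := L.sq_one zN_spec.2.2.2.2.2.2.2.1
  have hkk : L.k * L.k = 1 := L.sq_one (by decide +kernel)
  have conjσ : ∀ x y : G, Commute x y → Commute (L.σ * x * L.σ) (L.σ * y * L.σ) := fun x y h => by
    rw [commute_iff_eq, ← σ_mul, ← σ_mul, h.eq]
  have ctb' : Commute L.t b' := by have := conjσ _ _ cab; rwa [ha] at this
  have cab' : Commute L.a b' := by have := conjσ _ _ ctb; rwa [hB] at this
  have b'2 : b' * b' = 1 := by rw [hb', ← σ_mul, L.b_sq, mul_one, L.σ_sq]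
  have hjbj : L.j * L.b * L.j = L.a * L.b := by
    rw [← map_mul, ← map_mul, ← map_mul]; exact L.ι_eq (by decide +kernel)
  have hjb'j : L.j * b' * L.j = L.t * b' := by
    conv_lhs => rw [show L.j = L.σ * L.j * L.σ from L.σ_j.symm]
    rw [hb', ← σ_mul, ← σ_mul, hjbj, σ_mul, ha]
  set w := L.b * b' with hw
  have caw : Commute L.a w := cab.mul_right cab'
  have ctw : Commute L.t w := ctb.mul_right ctb'
  have hjwj : L.j * w * L.j = L.a * L.t * w := by
    rw [hw, show L.j * (L.b * b') * L.j = L.j * L.b * (1 * b') * L.j by group, ← L.j_sq,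
      show L.j * L.b * (L.j * L.j * b') * L.j = (L.j * L.b * L.j) * (L.j * b' * L.j) by group, hjbj, hjb'j,
      show L.a * L.b * (L.t * b') = L.a * (L.b * L.t) * b' by group, ← ctb.eq]
    group
  have hbw : L.b * w * L.b = w⁻¹ := by
    rw [hw, mul_inv_rev, inv_eq_of_mul_eq_one_right b'2, L.b_inv, ← mul_assoc L.b L.b b', L.b_sq, one_mul]
  have hji : L.j⁻¹ = L.j := inv_eq_of_mul_eq_one_right L.j_sq
  have hpowj : ∀ n : ℕ, L.j * w ^ n * L.j = (L.a * L.t) ^ n * w ^ n := by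
    intro n
    have h := (conj_pow (a := L.j) (b := w) (i := n)).symm
    rw [hji, hjwj, (caw.mul_left ctw).mul_pow] at h
    exact h
  have hbpow : ∀ n : ℕ, L.b * w ^ n * L.b = (w ^ n)⁻¹ := by
    intro n
    have h := (conj_pow (a := L.b) (b := w) (i := n)).symm
    rwa [L.b_inv, hbw, inv_pow] at h
  obtain ⟨l, hl⟩ := exists_two_part w
  set m := 2 * l + 1 with hm
  set b'' := L.b * w ^ m with hb''
  have hb''eq : b'' = (w ^ l)⁻¹ * b' * w ^ l := by
    have e : L.b * w ^ l = (w ^ l)⁻¹ * L.b := by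
      rw [← hbpow l, mul_assoc _ L.b L.b, L.b_sq, mul_one]
    rw [hb'', hm, show 2 * l + 1 = l + (1 + l) by ring, pow_add, pow_add, pow_one, ← mul_assoc, e,
      show (w ^ l)⁻¹ * L.b * (w * w ^ l) = (w ^ l)⁻¹ * (L.b * w) * w ^ l by group, hw, ← mul_assoc L.b L.b,
      L.b_sq, one_mul]
  have hb''2 : b'' * b'' = 1 := by
    rw [hb'', show L.b * w ^ m * (L.b * w ^ m) = (L.b * w ^ m * L.b) * w ^ m by group, hbpow, inv_mul_cancel]
  have cab'' : Commute L.a b'' := cab.mul_right (caw.pow_right m)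
  have ctb'' : Commute L.t b'' := ctb.mul_right (ctw.pow_right m)
  have hat2 : L.a * L.t * (L.a * L.t) = 1 := by
    rw [← map_mul]; exact L.sq_one (show aN * tN * (aN * tN) = 1 by decide +kernel)
  have hatm : (L.a * L.t) ^ m = L.a * L.t := by
    rw [hm, pow_succ, pow_mul, pow_two, hat2, one_pow, one_mul]
  have hjb''j : L.j * b'' * L.j = L.t * b'' := by
    rw [hb'', show L.j * (L.b * w ^ m) * L.j = (L.j * L.b * L.j) * (L.j⁻¹ * w ^ m * L.j) by group, hji, hjbj,
      hpowj, hatm, show L.a * L.b * (L.a * L.t * w ^ m) = L.a * (L.b * L.a) * (L.t * w ^ m) by group,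
      ← cab.eq, ← mul_assoc L.a L.a L.b, L.a_sq, one_mul, ← mul_assoc L.b, ← ctb.eq]
    group
  have hkb''k : L.k * b'' * L.k = L.t * b'' := by
    rw [L.k_eq, show L.a * L.j * b'' * (L.a * L.j) = L.a * L.j * (b'' * L.a) * L.j by group, ← cab''.eq,
      show L.a * L.j * (L.a * b'') * L.j = L.a * (L.j * L.a) * (b'' * L.j) by group,
      show L.j * L.a = L.a * L.j by rw [← map_mul, ← map_mul]; exact L.ι_eq (by decide +kernel),
      ← mul_assoc L.a L.a, L.a_sq, one_mul, ← mul_assoc, hjb''j]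
  set β := (w ^ m) ^ 2 with hβ
  have hβB : β ∈ L.Bp := by
    refine thin_CB hT (L.mem_CB.2 ⟨((caw.pow_right m).pow_right 2).symm, ?_,
      ((ctw.pow_right m).pow_right 2).symm⟩) (hl.to_le (Subgroup.zpowers_le.2 (pow_mem (Subgroup.mem_zpowers _) 2)))
    have e := hpowj (m * 2)
    rw [mul_comm m 2, pow_mul (L.a * L.t), pow_two, hat2, one_pow, one_mul, mul_comm 2 m, pow_mul w, ← hβ] at e
    exact (mul_inv_eq_iff_eq_mul.1 (show L.j * β * L.j⁻¹ = β by rw [hji, e])).symm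
  have hβb : Commute β L.b := by
    have e := hbpow (m * 2)
    rw [pow_mul, ← hβ, inv_eq_of_mul_eq_one_right (L.Bp_sq hβB)] at e
    exact (mul_inv_eq_iff_eq_mul.1 (show L.b * β * L.b⁻¹ = β by rw [L.b_inv, e])).symm
  have hbb'' : b'' * L.b * b'' = L.b * β := by
    rw [hb'', hβ, pow_two, show L.b * w ^ m * L.b * (L.b * w ^ m) = L.b * w ^ m * (L.b * L.b) * w ^ m by group,
      L.b_sq]
    group
  have hb''i : b''⁻¹ = b'' := inv_eq_of_mul_eq_one_right hb''2
  have hsmall : ∀ n : N35, b'' = L.ι n → False := by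
    intro n hn
    rw [hn, ← map_mul, ← map_mul, ← map_mul] at hjb''j
    have h := congrArg Prod.fst (L.inj hjb''j)
    simp only [jN, tN, Prod.fst_mul, one_mul, mul_one] at h
    exact absurd (mul_eq_right.1 h.symm) (by decide)
  have hAT'' : L.AT b'' := by
    obtain ⟨n, hn⟩ := conj_a_V (L := L) (y := L.b) (Or.inl rfl)
    refine ⟨(w ^ l)⁻¹ * L.σ * n, ?_⟩
    rw [hb''eq, hb', show (w ^ l)⁻¹ * L.σ * n * L.a * ((w ^ l)⁻¹ * L.σ * n)⁻¹ =
      (w ^ l)⁻¹ * (L.σ * (n * L.a * n⁻¹) * L.σ⁻¹) * w ^ l by group, hn, L.σ_inv]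
  rcases L.Bp_comm_b hβB hβb with h | h | h | h
  · -- fixing `b`
    rw [h, mul_one] at hbb''
    obtain ⟨n, hn, -⟩ := hK b'' cab''.symm (mul_inv_eq_iff_eq_mul.1 (by rw [hb''i, hbb'']))
    exact hsmall n hn
  · -- moving `b` to `ba`
    rw [h] at hbb''
    have hc : Commute (b'' * L.j) L.b := by
      refine mul_inv_eq_iff_eq_mul.1 ?_
      rw [mul_inv_rev, hb''i, hji, show b'' * L.j * L.b * (L.j * b'') = b'' * (L.j * L.b * L.j) * b'' by group,
        hjbj, show b'' * (L.a * L.b) * b'' = (b'' * L.a) * L.b * b'' by group, ← cab''.eq,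
        show L.a * b'' * L.b * b'' = L.a * (b'' * L.b * b'') by group, hbb'', ← cab.eq, ← mul_assoc, L.a_sq,
        one_mul]
    obtain ⟨n, hn, -⟩ := hK (b'' * L.j) (cab''.symm.mul_left
      (Commute.map (by rw [commute_iff_eq]; decide +kernel : Commute jN aN) L.ι)) hc
    exact hsmall (n * jN) (by rw [map_mul, ← hn, mul_assoc, L.j_sq, mul_one])
  · -- moving `b` to `tb`, involutory
    rw [h] at hbb''
    obtain ⟨i, g, hx⟩ := x_conj hK (μ := b'') ctb''.symm cab''.symm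
      (by rw [hb''i, hbb'', ctb.eq]) (Or.inr (by rw [hkb''k, ctb''.eq]))
    rw [hb''2, mul_one, ← map_mul, inv_mul_cancel, map_one, inv_one, mul_one, hb''i] at hx
    have h2 : g * L.j * g⁻¹ * (g * L.j * g⁻¹) = 1 := by
      rw [show g * L.j * g⁻¹ * (g * L.j * g⁻¹) = g * (L.j * L.j) * g⁻¹ by group, L.j_sq]; group
    rw [hx] at h2
    refine (L.ne_one zN_spec.2.2.2.2.2.2.2.2.1) ?_
    rw [show b'' * L.k * L.t ^ i.val * (b'' * L.k * L.t ^ i.val) =
      b'' * L.k * (L.t ^ i.val * b'') * (L.k * L.t ^ i.val) by group, (ctb''.pow_left i.val).eq,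
      show b'' * L.k * (b'' * L.t ^ i.val) * (L.k * L.t ^ i.val) =
        b'' * (L.k * b'') * (L.t ^ i.val * L.k) * L.t ^ i.val by group, (ctk.pow_left i.val).eq,
      show b'' * (L.k * b'') * (L.k * L.t ^ i.val) * L.t ^ i.val =
        b'' * (L.k * b'' * L.k) * (L.t ^ i.val * L.t ^ i.val) by group, hkb''k, ← pow_add, ← two_mul, pow_mul,
      pow_two, htt, one_pow, mul_one, ctb''.eq, ← mul_assoc, hb''2, one_mul] at h2
    exact h2
  · -- moving `b` to `tab`
    rw [h] at hbb''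
    have hkbk : L.k * L.b * L.k = L.a * L.b := by
      rw [← map_mul, ← map_mul, ← map_mul]; exact L.ι_eq (by decide +kernel)
    have cak : Commute L.k L.a := Commute.map (by rw [commute_iff_eq]; decide +kernel : Commute kN aN) L.ι
    have hμb : b'' * L.k * L.b * (b'' * L.k)⁻¹ = L.t * L.b := by
      rw [mul_inv_rev, hb''i, inv_eq_of_mul_eq_one_right hkk,
        show b'' * L.k * L.b * (L.k * b'') = b'' * (L.k * L.b * L.k) * b'' by group, hkbk,
        show b'' * (L.a * L.b) * b'' = (b'' * L.a) * L.b * b'' by group, ← cab''.eq,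
        show L.a * b'' * L.b * b'' = L.a * (b'' * L.b * b'') by group, hbb'', ← map_mul, ← map_mul, ← map_mul,
        ← map_mul]
      exact L.ι_eq (by decide +kernel)
    have hμ2 : b'' * L.k * (b'' * L.k) = L.t := by
      rw [show b'' * L.k * (b'' * L.k) = b'' * (L.k * b'' * L.k) by group, hkb''k, ctb''.eq, ← mul_assoc, hb''2,
        one_mul]
    have hμt : Commute (b'' * L.k) L.t := ctb''.symm.mul_left ctk.symm
    obtain ⟨i, g, hx⟩ := x_conj hK (μ := b'' * L.k) hμt (cab''.symm.mul_left cak) hμb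
      (Or.inr (by
        rw [← mul_assoc L.k b'' L.k, hkb''k, ctb''.eq, mul_assoc b'' L.t L.k, ctk.eq, ← mul_assoc b'' L.k L.t]))
    rw [hμ2, show (L.ι rN⁻¹ * L.t * L.ι rN)⁻¹ = L.t by
      rw [← map_mul, ← map_mul, ← map_inv]; exact L.ι_eq (by decide +kernel)] at hx
    have hx' : g * L.j * g⁻¹ = L.k * (b'' * L.t ^ (i.val + 1)) * L.k⁻¹ := by
      rw [hx, mul_inv_rev, hb''i, inv_eq_of_mul_eq_one_right hkk,
        show L.k * b'' * L.t * L.k * L.t ^ i.val = L.k * b'' * (L.t * (L.k * L.t ^ i.val)) by group,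
        ← (ctk.pow_left i.val).eq, ← mul_assoc L.t, ← pow_succ']
      group
    have hy : L.AT (b'' * L.t ^ (i.val + 1)) := by
      fin_cases i
      · obtain ⟨n, hn⟩ := conj_a_V (L := L) (y := L.a * L.b) (Or.inr rfl)
        refine ⟨(w ^ l)⁻¹ * L.σ * n, ?_⟩
        simp only [zero_add, pow_one]
        rw [show (w ^ l)⁻¹ * L.σ * n * L.a * ((w ^ l)⁻¹ * L.σ * n)⁻¹ =
          (w ^ l)⁻¹ * (L.σ * (n * L.a * n⁻¹) * L.σ⁻¹) * w ^ l by group, hn, L.σ_inv, σ_mul, ha, ← hb', hb''eq,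
          ctb'.eq, mul_assoc _ (w ^ l) L.t, ← (ctw.pow_right l).eq]
        group
      · show L.AT (b'' * L.t ^ (1 + 1))
        rw [pow_succ, pow_one, htt, mul_one]
        exact hAT''
    exact not_AT_j g (hx' ▸ hy.conj L.k)

theorem thin_false (hK : L.SmallK) (hT : L.Thin) : False :=
  L.σ_t.elim (fun h => thin_false_A h hT) (fun h => thin_false_B h hK hT)

end Data

end CfsgLib.S8ThreeLocal
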