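import Cfsg.Agent.Lib.S8ThreeLocal.Key
import Cfsg.Agent.Lib.SelfCentThree.Parts

/-!
The centraliser of two commuting involutions, when the centraliser of the four-group is small.
-/

set_option autoImplicit false
set_option maxRecDepth 8000
set_option synthInstance.maxSize 1024

namespace CfsgLib.S8ThreeLocal

open Equiv Equiv.Perm CfsgLib.A8ThreeLocal CfsgLib.SelfCentThree

universe u

/-- The four-group generated by the two transpositions of the second factor. -/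
def ZN : Subgroup N35 where
  carrier := {m | m = 1 ∨ m = aN ∨ m = jN ∨ m = kN}
  one_mem' := Or.inl rfl
  inv_mem' := by rintro m (rfl | rfl | rfl | rfl) <;> simp only [Set.mem_setOf_eq] <;> decide +kernel
  mul_mem' := by
    rintro m n (rfl | rfl | rfl | rfl) (rfl | rfl | rfl | rfl) <;> simp only [Set.mem_setOf_eq] <;> decide +kernel

/-- The elementary group of order eight generated by the three transpositions. -/
def B35 : Subgroup N35 where
  carrier := {m | (m.1 = 1 ∨ m.1 = swap 0 1) ∧ ((1, m.2) : N35) ∈ ZN}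
  one_mem' := ⟨Or.inl rfl, one_mem ZN⟩
  inv_mem' := by
    rintro m ⟨h1, h2⟩
    refine ⟨?_, ?_⟩
    · show m.1⁻¹ = 1 ∨ m.1⁻¹ = swap 0 1
      rcases h1 with e | e <;> rw [e] <;> simp
    · show ((1, m.2⁻¹) : N35) ∈ ZN
      simpa using inv_mem h2
  mul_mem' := by
    rintro m n ⟨h1, h2⟩ ⟨k1, k2⟩
    refine ⟨?_, ?_⟩
    · show m.1 * n.1 = 1 ∨ m.1 * n.1 = swap 0 1
      rcases h1 with e | e <;> rcases k1 with e' | e' <;> rw [e, e'] <;> simp
    · show ((1, m.2 * n.2) : N35) ∈ ZN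
      simpa using mul_mem h2 k2

theorem ZN_mem_iff {m : N35} : m ∈ ZN ↔ m = 1 ∨ m = aN ∨ m = jN ∨ m = kN := Iff.rfl

theorem B35_list {m : N35} (h : m ∈ B35) : m = 1 ∨ m = aN ∨ m = jN ∨ m = kN ∨ m = tN ∨ m = tN * aN ∨
    m = tN * jN ∨ m = tN * kN := by
  obtain ⟨p, q⟩ := m
  obtain ⟨h1, h2⟩ := h
  have h1' : p = 1 ∨ p = swap 0 1 := h1
  have h2' : q = 1 ∨ q = a5 ∨ q = swap 1 2 ∨ q = swap 3 4 := by
    rcases h2 with e | e | e | e
    exacts [Or.inl (congrArg Prod.snd e), Or.inr (Or.inl (congrArg Prod.snd e)),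
      Or.inr (Or.inr (Or.inl (congrArg Prod.snd e))), Or.inr (Or.inr (Or.inr (congrArg Prod.snd e)))]
  rcases h1' with rfl | rfl <;> rcases h2' with rfl | rfl | rfl | rfl <;> decide +kernel

theorem B35_gens : tN ∈ B35 ∧ jN ∈ B35 ∧ aN ∈ B35 ∧ kN ∈ B35 := by
  refine ⟨⟨Or.inr rfl, Or.inl rfl⟩, ⟨Or.inl rfl, Or.inr (Or.inr (Or.inl rfl))⟩, ⟨Or.inl rfl, Or.inr (Or.inl rfl)⟩,
    ⟨Or.inl rfl, Or.inr (Or.inr (Or.inr rfl))⟩⟩

theorem B35_card : Nat.card B35 = 8 := by
  let e : B35 ≃ ({1, aN, jN, kN, tN, tN * aN, tN * jN, tN * kN} : Finset N35) :=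
    Equiv.subtypeEquivRight fun m => by
      simp only [Finset.mem_insert, Finset.mem_singleton]
      refine ⟨B35_list, ?_⟩
      obtain ⟨ht, hj, ha, hk⟩ := B35_gens
      rintro (rfl | rfl | rfl | rfl | rfl | rfl | rfl | rfl)
      exacts [one_mem _, ha, hj, hk, ht, mul_mem ht ha, mul_mem ht hj, mul_mem ht hk]
  rw [Nat.card_congr e, Nat.card_eq_fintype_card, Fintype.card_coe]
  decide +kernel

theorem ZN_card : Nat.card ZN = 4 := by
  let e : ZN ≃ ({1, aN, jN, kN} : Finset N35) := Equiv.subtypeEquivRight fun m => by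
    simp only [Finset.mem_insert, Finset.mem_singleton]; exact ZN_mem_iff
  rw [Nat.card_congr e, Nat.card_eq_fintype_card, Fintype.card_coe]
  decide +kernel

theorem B35_b_comm : ∀ m : N35, (m = 1 ∨ m = aN ∨ m = jN ∨ m = kN ∨ m = tN ∨ m = tN * aN ∨ m = tN * jN ∨
    m = tN * kN) → m * bN = bN * m → m = 1 ∨ m = aN ∨ m = tN ∨ m = tN * aN := by
  rintro m (rfl | rfl | rfl | rfl | rfl | rfl | rfl | rfl) <;> decide +kernel

theorem cent_ja : ∀ q : Perm (Fin 5), q * swap 1 2 = swap 1 2 * q → q * a5 = a5 * q → (q * b5 = b5 * q ∨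
    q * b5 = a5 * b5 * q) → ((1, q) : N35) = 1 ∨ ((1, q) : N35) = aN ∨ ((1, q) : N35) = jN ∨ ((1, q) : N35) = kN := by
  decide +kernel

theorem cent_c3a : ∀ q : Perm (Fin 5), q * swap 1 2 = swap 1 2 * q → q * a5 = a5 * q →
    ((1, q) : N35) = 1 ∨ ((1, q) : N35) = aN ∨ ((1, q) : N35) = jN ∨ ((1, q) : N35) = kN := by
  decide +kernel

theorem VN_v_fix : ∀ v : N35, (v = 1 ∨ v = aN ∨ v = bN ∨ v = aN * bN) → ∀ i l : Fin 2,
    rN * (v * tN ^ i.val) * rN⁻¹ = v * tN ^ l.val → v = 1 := by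
  rintro v (rfl | rfl | rfl | rfl) <;> decide +kernel

theorem s3_invol : ∀ p : Perm (Fin 3), p * swap 0 1 = swap 0 1 * p → p = 1 ∨ p = swap 0 1 := by decide

/-- An involutory map of a finite set of even size with a fixed point has another one. -/
theorem exists_second_fixed {β : Type*} [Finite β] {f : β → β} (hf : ∀ x, f (f x) = x) (heven : 2 ∣ Nat.card β)
    {x₀ : β} (hx₀ : f x₀ = x₀) : ∃ x, x ≠ x₀ ∧ f x = x := by
  classical
  haveI := Fintype.ofFinite β
  haveI := Fact.mk Nat.prime_two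
  let σ : Equiv.Perm β := ⟨f, f, hf, hf⟩
  have hσ : σ ^ (2 ^ 1) = 1 := by
    rw [pow_one, pow_two]; ext x; simp only [Equiv.Perm.mul_apply, Equiv.Perm.one_apply]; exact hf x
  obtain ⟨b, hb, hne⟩ := Equiv.Perm.exists_fixed_point_of_prime' (p := 2) (n := 1) (α := β)
    (by rwa [← Nat.card_eq_fintype_card]) hσ (a := x₀) hx₀
  exact ⟨b, hne, hb⟩

/-- The intersection of a Sylow subgroup with a normalised subgroup is a Sylow subgroup of it. -/
theorem sylow_inf_normal {G : Type u} [Group G] [Finite G] {p : ℕ} [Fact p.Prime] (Q : Sylow p G) (C : Subgroup G)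
    [C.Normal] : ¬ p ∣ ((Q : Subgroup G) ⊓ C).relIndex C := by
  obtain ⟨T⟩ : Nonempty (Sylow p C) := inferInstance
  obtain ⟨Q', hQ'⟩ := (T.2.map C.subtype).exists_le_sylow
  obtain ⟨g, hg⟩ := MulAction.exists_smul_eq G Q' Q
  set T' := ((T : Subgroup C).map C.subtype).map (MulAut.conj g).toMonoidHom with hT'
  have hle : T' ≤ (Q : Subgroup G) ⊓ C := by
    rintro _ ⟨t, ht, rfl⟩
    refine ⟨?_, ‹C.Normal›.conj_mem _ (Subgroup.map_subtype_le _ ht) g⟩
    rw [← hg, Sylow.coe_subgroup_smul]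
    exact ⟨t, hQ' ht, rfl⟩
  intro hd
  refine T.not_dvd_index (hd.trans ((Subgroup.relIndex_dvd_of_le_left C hle).trans (dvd_of_eq ?_)))
  have h1 : Nat.card T' = Nat.card (T : Subgroup C) := by
    rw [hT', Subgroup.card_map_of_injective (MulAut.conj g).injective, Subgroup.card_map_of_injective C.subtype_injective]
  have h2 := (T'.subgroupOf C).index_mul_card
  rw [Nat.card_congr (Subgroup.subgroupOfEquivOfLe (hle.trans inf_le_right)).toEquiv, h1,
    ← (T : Subgroup C).index_mul_card] at h2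
  exact Nat.eq_of_mul_eq_mul_right Nat.card_pos h2

variable {G : Type u} [Group G]

namespace Data

variable (L : Data G)

/-- The elementary group of order eight in the centraliser of the Sylow subgroup. -/
abbrev Bp : Subgroup G := B35.map L.ι

/-- The four-group generated by the transpositions. -/
abbrev Zp : Subgroup G := ZN.map L.ι

/-- The centraliser of `a` and `j`. -/
def La : Subgroup G := Subgroup.centralizer ({L.a} : Set G) ⊓ Subgroup.centralizer ({L.j} : Set G)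

/-- The centraliser of the elementary group of order eight. -/
def CB : Subgroup G := L.La ⊓ Subgroup.centralizer ({L.t} : Set G)

theorem mem_La {g : G} : g ∈ L.La ↔ Commute g L.a ∧ Commute g L.j := by
  rw [La, Subgroup.mem_inf, Subgroup.mem_centralizer_singleton_iff, Subgroup.mem_centralizer_singleton_iff]
  rfl

theorem mem_CB {g : G} : g ∈ L.CB ↔ Commute g L.a ∧ Commute g L.j ∧ Commute g L.t := by
  rw [CB, Subgroup.mem_inf, L.mem_La, Subgroup.mem_centralizer_singleton_iff, and_assoc]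
  rfl

theorem comm_Z {g : G} (hg : g ∈ L.La) {e : G} (he : e ∈ L.Zp) : Commute g e := by
  obtain ⟨h1, h2⟩ := L.mem_La.1 hg
  obtain ⟨m, hm, rfl⟩ := he
  rcases hm with rfl | rfl | rfl | rfl
  · rw [map_one]; exact Commute.one_right g
  · exact h1
  · exact h2
  · rw [show kN = aN * jN by decide +kernel, map_mul]; exact h1.mul_right h2

theorem comm_Bp {g : G} (hg : g ∈ L.CB) {e : G} (he : e ∈ L.Bp) : Commute g e := by
  obtain ⟨h1, h2, h3⟩ := L.mem_CB.1 hg
  have hk : Commute g L.k := by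
    show Commute g (L.ι kN)
    rw [show kN = aN * jN by decide +kernel, map_mul]; exact h1.mul_right h2
  obtain ⟨m, hm, rfl⟩ := he
  rcases B35_list hm with rfl | rfl | rfl | rfl | rfl | rfl | rfl | rfl
  · rw [map_one]; exact Commute.one_right g
  · exact h1
  · exact h2
  · exact hk
  · exact h3
  · rw [map_mul]; exact h3.mul_right h1
  · rw [map_mul]; exact h3.mul_right h2
  · rw [map_mul]; exact h3.mul_right hk

theorem Bp_le_CB : L.Bp ≤ L.CB := by
  rintro _ ⟨m, hm, rfl⟩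
  have hc : ∀ n : N35, m * n = n * m → Commute (L.ι m) (L.ι n) := fun n h => Commute.map h L.ι
  refine L.mem_CB.2 ⟨hc aN ?_, hc jN ?_, hc tN ?_⟩ <;>
    rcases B35_list hm with rfl | rfl | rfl | rfl | rfl | rfl | rfl | rfl <;> decide +kernel

theorem Bp_sq {e : G} (he : e ∈ L.Bp) : e * e = 1 := by
  obtain ⟨m, hm, rfl⟩ := he
  refine L.sq_one ?_
  rcases B35_list hm with rfl | rfl | rfl | rfl | rfl | rfl | rfl | rfl <;> decide +kernel

theorem Zp_le_Bp : L.Zp ≤ L.Bp := by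
  rintro _ ⟨m, hm, rfl⟩
  obtain ⟨-, hj, ha, hk⟩ := B35_gens
  refine ⟨m, ?_, rfl⟩
  rcases hm with rfl | rfl | rfl | rfl
  exacts [one_mem _, ha, hj, hk]

theorem b_sq : L.b * L.b = 1 := L.sq_one (by decide +kernel)

theorem b_inv : L.b⁻¹ = L.b := inv_eq_of_mul_eq_one_right L.b_sq

theorem bab : L.b * L.a * L.b = L.a := by rw [← map_mul, ← map_mul]; exact L.ι_eq (by decide +kernel)

theorem bjb : L.b * L.j * L.b = L.k := by rw [← map_mul, ← map_mul]; exact L.ι_eq (by decide +kernel)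

theorem btb : L.b * L.t * L.b = L.t := by rw [← map_mul, ← map_mul]; exact L.ι_eq (by decide +kernel)

theorem k_eq : L.k = L.a * L.j := by rw [← map_mul]; exact L.ι_eq (by decide +kernel)

theorem b_La {g : G} (hg : g ∈ L.La) : L.b * g * L.b ∈ L.La := by
  obtain ⟨h1, h2⟩ := L.mem_La.1 hg
  have h3 : Commute g L.k := by rw [L.k_eq]; exact h1.mul_right h2
  have hc : ∀ {x y : G}, Commute g x → L.b * x * L.b = y → Commute (L.b * g * L.b) y := by
    intro x y h e
    have := h.map (MulAut.conj L.b).toMonoidHom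
    simp only [MulEquiv.coe_toMonoidHom, MulAut.conj_apply, L.b_inv] at this
    rwa [e] at this
  refine L.mem_La.2 ⟨hc h1 L.bab, hc h3 ?_⟩
  rw [← L.bjb, show L.b * (L.b * L.j * L.b) * L.b = L.b * L.b * L.j * (L.b * L.b) by group, L.b_sq, one_mul, mul_one]

theorem b_CB {g : G} (hg : g ∈ L.CB) : L.b * g * L.b ∈ L.CB := by
  obtain ⟨h1, h2, h3⟩ := L.mem_CB.1 hg
  have h := L.mem_La.1 (L.b_La (L.mem_La.2 ⟨h1, h2⟩))
  refine L.mem_CB.2 ⟨h.1, h.2, ?_⟩
  have := h3.map (MulAut.conj L.b).toMonoidHom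
  simp only [MulEquiv.coe_toMonoidHom, MulAut.conj_apply, L.b_inv] at this
  rwa [L.btb] at this

theorem Bp_card [Finite G] : Nat.card L.Bp = 8 := by rw [Subgroup.card_map_of_injective L.inj, B35_card]

/-- An element of the elementary group of order eight commuting with `b`. -/
theorem Bp_comm_b {e : G} (he : e ∈ L.Bp) (h : Commute e L.b) :
    e = 1 ∨ e = L.a ∨ e = L.t ∨ e = L.t * L.a := by
  obtain ⟨m, hm, rfl⟩ := he
  rcases B35_b_comm m (B35_list hm) (L.inj (by rw [map_mul, map_mul]; exact h.eq)) with rfl | rfl | rfl | rfl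
  · exact Or.inl (map_one _)
  · exact Or.inr (Or.inl rfl)
  · exact Or.inr (Or.inr (Or.inl rfl))
  · exact Or.inr (Or.inr (Or.inr (map_mul _ _ _)))

/-- A twisted involution commutes. -/
theorem twist_comm {c y : G} (hy : y * y = 1) (h : c * y * (c * y) = 1) (hc : c * c = 1) : Commute c y := by
  calc c * y = c * y * (c * y * (c * y))⁻¹ := by rw [h, inv_one, mul_one]
    _ = y⁻¹ * c⁻¹ := by group
    _ = y * c := by rw [inv_eq_of_mul_eq_one_right hy, inv_eq_of_mul_eq_one_right hc]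

variable [Finite G]

/-- The centraliser of the four-group is small. -/
def SmallK : Prop := ∀ g : G, Commute g L.a → Commute g L.b →
  ∃ m : N35, g = L.ι m ∧ ((1, m.2) : N35) ∈ VN

theorem smallK_of (h : L.SmallX) : L.SmallK := by
  intro g ha hb
  obtain ⟨m, hm, x, hx, rfl⟩ := L.decomp ha hb
  obtain ⟨p, rfl⟩ := h x hx
  refine ⟨m * (p, 1), (map_mul _ _ _).symm, ?_⟩
  have e : ((1, (m * ((p, 1) : N35)).2) : N35) = m := by
    refine Prod.ext ?_ (mul_one _)
    rcases hm with rfl | rfl | rfl | rfl <;> rfl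
  rw [e]; exact hm

variable {L}

/-- Elements of `La` fixed by `b` modulo `Zp`. -/
theorem fix_b (hK : L.SmallK) {g : G} (hg : g ∈ L.La) (h : g⁻¹ * (L.b * g * L.b) ∈ L.Zp) :
    ∃ m : N35, g = L.ι m ∧ ((1, m.2) : N35) ∈ ZN := by
  obtain ⟨h1, h2⟩ := L.mem_La.1 hg
  set c := g⁻¹ * (L.b * g * L.b) with hc
  have hcb : c * L.b = g⁻¹ * L.b * g := by
    rw [hc]; calc g⁻¹ * (L.b * g * L.b) * L.b = g⁻¹ * L.b * g * (L.b * L.b) := by group
      _ = _ := by rw [L.b_sq, mul_one]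
  have hcc : c * L.b * (c * L.b) = 1 := by
    rw [hcb, show g⁻¹ * L.b * g * (g⁻¹ * L.b * g) = g⁻¹ * (L.b * L.b) * g by group, L.b_sq]; group
  have hcomm := twist_comm L.b_sq hcc (L.Bp_sq (L.Zp_le_Bp h))
  have hfin : ∀ m : N35, Commute (L.ι m) L.a → Commute (L.ι m) L.j →
      (Commute (L.ι m) L.b ∨ L.ι m * L.b * (L.ι m)⁻¹ = L.a * L.b) → ((1, m.2) : N35) ∈ ZN := by
    intro m ha hj hb
    refine cent_ja m.2 (congrArg Prod.snd (L.inj (by rw [map_mul, map_mul]; exact hj.eq) : m * jN = jN * m))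
      (congrArg Prod.snd (L.inj (by rw [map_mul, map_mul]; exact ha.eq) : m * aN = aN * m)) ?_
    rcases hb with hb | hb
    · exact Or.inl (congrArg Prod.snd (L.inj (by rw [map_mul, map_mul]; exact hb.eq) : m * bN = bN * m))
    · right
      rw [mul_inv_eq_iff_eq_mul] at hb
      exact congrArg Prod.snd (L.inj (by rw [map_mul, map_mul L.ι (aN * bN), map_mul L.ι aN]; exact hb) :
        m * bN = aN * bN * m)
  rcases L.Bp_comm_b (L.Zp_le_Bp h) hcomm with e | e | e | e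
  · rw [e, one_mul] at hcb
    have hgb : Commute g L.b := by
      calc g * L.b = g * (g⁻¹ * L.b * g) := by rw [← hcb]
        _ = L.b * g := by group
    obtain ⟨m, rfl, -⟩ := hK g h1 hgb
    exact ⟨m, rfl, hfin m h1 h2 (Or.inl hgb)⟩
  · rw [e] at hcb
    have hjb : L.j * (L.a * L.b) * L.j = L.b := by
      rw [← map_mul, ← map_mul, ← map_mul]; exact L.ι_eq (by decide +kernel)
    have hgb : Commute (g * L.j) L.b := by
      have e' : (g * L.j)⁻¹ * L.b * (g * L.j) = L.b := by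
        calc (g * L.j)⁻¹ * L.b * (g * L.j) = L.j⁻¹ * (g⁻¹ * L.b * g) * L.j := by group
          _ = L.b := by rw [← hcb, inv_eq_of_mul_eq_one_right L.j_sq, hjb]
      calc g * L.j * L.b = g * L.j * ((g * L.j)⁻¹ * L.b * (g * L.j)) := by rw [e']
        _ = L.b * (g * L.j) := by group
    obtain ⟨m, hm, -⟩ := hK _ (h1.mul_left (Commute.map (by rw [commute_iff_eq]; decide +kernel : Commute jN aN) L.ι)) hgb
    have hg' : g = L.ι (m * jN) := by rw [map_mul, ← hm, mul_assoc, L.j_sq, mul_one]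
    refine ⟨m * jN, hg', hfin _ (hg' ▸ h1) (hg' ▸ h2) (Or.inr ?_)⟩
    rw [← hg']
    calc g * L.b * g⁻¹ = g * L.j * (L.j⁻¹ * L.b * L.j) * (g * L.j)⁻¹ := by group
      _ = g * L.j * (L.a * L.b) * (g * L.j)⁻¹ := by
        rw [inv_eq_of_mul_eq_one_right L.j_sq, ← map_mul, ← map_mul, ← map_mul]
        rw [show jN * bN * jN = aN * bN by decide +kernel]
      _ = L.a * L.b := by
        have hga : Commute (g * L.j) L.a :=
          h1.mul_left (Commute.map (by rw [commute_iff_eq]; decide +kernel : Commute jN aN) L.ι)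
        rw [(hga.mul_right hgb).eq, mul_inv_cancel_right]
  all_goals
    exfalso
    obtain ⟨m, hm, hm'⟩ := h
    rw [e] at hm'
  · have := L.inj hm'
    rcases hm with rfl | rfl | rfl | rfl <;> revert this <;> decide +kernel
  · rw [← map_mul] at hm'
    have := L.inj hm'
    rcases hm with rfl | rfl | rfl | rfl <;> revert this <;> decide +kernel

/-- An element of `CB` in coordinates lies in the elementary group. -/
theorem coord_CB {m : N35} (hm : L.ι m ∈ L.CB) (h : ((1, m.2) : N35) ∈ ZN) : L.ι m ∈ L.Bp := by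
  obtain ⟨-, -, h3⟩ := L.mem_CB.1 hm
  refine ⟨m, ⟨s3_invol _ ?_, h⟩, rfl⟩
  exact congrArg Prod.fst (L.inj (by rw [map_mul, map_mul]; exact h3.eq) : m * tN = tN * m)

/-- The transfer of a transvection to a conjugate of `k`. -/
theorem x_conj (hK : L.SmallK) {μ : G} (hμt : Commute μ L.t) (hμa : Commute μ L.a)
    (hμb : μ * L.b * μ⁻¹ = L.t * L.b) (hk : L.k * μ * L.k = μ ∨ L.k * μ * L.k = μ * L.t) :
    ∃ i : Fin 2, ∃ g : G,
      g * L.j * g⁻¹ = μ⁻¹ * (L.ι rN⁻¹ * (μ * μ) * L.ι rN)⁻¹ * L.k * L.t ^ i.val := by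
  set r := L.ι rN with hr
  set f := r * μ * r⁻¹ with hf
  set f' := r⁻¹ * μ * r with hf'
  have conj3 : ∀ x : G, ∀ m n : N35, rN * m * rN⁻¹ = n → x * L.ι m * x⁻¹ = L.ι m → (r * x * r⁻¹) * L.ι n * (r * x * r⁻¹)⁻¹ = L.ι n := by
    intro x m n e hx
    rw [← e, map_mul, map_mul, map_inv, ← hr]
    calc r * x * r⁻¹ * (r * L.ι m * r⁻¹) * (r * x * r⁻¹)⁻¹ = r * (x * L.ι m * x⁻¹) * r⁻¹ := by group
      _ = _ := by rw [hx]
  have hrt : Commute r L.t := Commute.map (by rw [commute_iff_eq]; decide +kernel : Commute rN tN) L.ι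
  have hft : Commute f L.t := (hrt.mul_left hμt).mul_left hrt.inv_left
  have hf't : Commute f' L.t := (hrt.inv_left.mul_left hμt).mul_left hrt
  have hμa' : μ * L.a * μ⁻¹ = L.a := by rw [hμa.eq, mul_inv_cancel_right]
  have hμab : μ * (L.a * L.b) * μ⁻¹ = L.a * (L.t * L.b) := conj_mul_eq hμa' hμb
  have rconj : ∀ m n : N35, rN * m * rN⁻¹ = n → r * L.ι m * r⁻¹ = L.ι n := fun m n e => by
    rw [← e, map_mul, map_mul, map_inv]
  have rconj' : ∀ m n : N35, rN⁻¹ * m * rN = n → r⁻¹ * L.ι m * r = L.ι n := fun m n e => by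
    rw [← e, map_mul, map_mul, map_inv]
  have e1 : f * L.b * f⁻¹ = L.b := by
    rw [hf, show L.b = r * L.a * r⁻¹ from (rconj aN bN (by decide +kernel)).symm]
    calc r * μ * r⁻¹ * (r * L.a * r⁻¹) * (r * μ * r⁻¹)⁻¹ = r * (μ * L.a * μ⁻¹) * r⁻¹ := by group
      _ = _ := by rw [hμa']
  have e2 : f * L.a * f⁻¹ = L.t * L.a := by
    rw [hf]
    calc r * μ * r⁻¹ * L.a * (r * μ * r⁻¹)⁻¹ = r * μ * r⁻¹ * (r * L.ι (aN * bN) * r⁻¹) * (r * μ * r⁻¹)⁻¹ := by
          rw [rconj (aN * bN) aN (by decide +kernel)]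
      _ = r * (μ * L.ι (aN * bN) * μ⁻¹) * r⁻¹ := by group
      _ = _ := by
        rw [map_mul, hμab, ← map_mul L.ι tN bN, ← map_mul L.ι aN, ← map_mul L.ι tN aN]
        exact rconj (aN * (tN * bN)) (tN * aN) (by decide +kernel)
  have e3 : f' * L.a * f'⁻¹ = L.t * L.a := by
    rw [hf']
    calc r⁻¹ * μ * r * L.a * (r⁻¹ * μ * r)⁻¹ = r⁻¹ * μ * r * (r⁻¹ * L.b * r) * (r⁻¹ * μ * r)⁻¹ := by
          rw [rconj' bN aN (by decide +kernel)]
      _ = r⁻¹ * (μ * L.b * μ⁻¹) * r := by group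
      _ = _ := by
        rw [hμb, ← map_mul L.ι tN bN, ← map_mul L.ι tN aN]
        exact rconj' (tN * bN) (tN * aN) (by decide +kernel)
  have e4 : f' * L.b * f'⁻¹ = L.t * L.b := by
    have e : f' * L.ι (aN * bN) * f'⁻¹ = L.ι (aN * bN) := by
      rw [hf', ← rconj' aN (aN * bN) (by decide +kernel)]
      calc r⁻¹ * μ * r * (r⁻¹ * L.a * r) * (r⁻¹ * μ * r)⁻¹ = r⁻¹ * (μ * L.a * μ⁻¹) * r := by group
        _ = _ := by rw [hμa']
    rw [show L.b = L.a * L.ι (aN * bN) by rw [← map_mul]; exact L.ι_eq (by decide +kernel), conj_mul_eq e3 e, mul_assoc]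
  set P := μ * f * f' with hP
  have hPt : Commute P L.t := (hμt.mul_left hft).mul_left hf't
  have htt : L.t * L.t = 1 := L.sq_one zN_spec.2.2.2.2.2.2.2.1
  have hfix : ∀ x : G, Commute x L.t → ∀ y : G, x * y * x⁻¹ = L.t * y → x * (L.t * y) * x⁻¹ = y := by
    intro x hx y e
    rw [conj_mul_eq (show x * L.t * x⁻¹ = L.t by rw [hx.eq, mul_inv_cancel_right]) e, ← mul_assoc, htt, one_mul]
  have hP1 : ∀ y y' y'' : G, f' * y * f'⁻¹ = y' → f * y' * f⁻¹ = y'' → μ * y'' * μ⁻¹ = y → Commute P y := by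
    intro y y' y'' h1 h2 h3
    refine mul_inv_eq_iff_eq_mul.1 ?_
    rw [hP, show μ * f * f' * y * (μ * f * f')⁻¹ = μ * (f * (f' * y * f'⁻¹) * f⁻¹) * μ⁻¹ by group, h1, h2, h3]
  have hPa : Commute P L.a := hP1 _ _ _ e3 (hfix f hft _ e2) hμa'
  have hPb : Commute P L.b := hP1 _ _ (L.t * L.b) e4
    (by rw [conj_mul_eq (show f * L.t * f⁻¹ = L.t by rw [hft.eq, mul_inv_cancel_right]) e1]) (hfix μ hμt _ hμb)
  obtain ⟨m, hm, hmV⟩ := hK P hPa hPb
  have hm1 : m.1 = 1 ∨ m.1 = swap 0 1 := by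
    rw [hm] at hPt
    exact s3_invol _ (congrArg Prod.fst (L.inj (by rw [map_mul, map_mul]; exact hPt.eq) : m * tN = tN * m))
  obtain ⟨i, hi⟩ : ∃ i : Fin 2, m = ((1, m.2) : N35) * tN ^ i.val := by
    rcases hm1 with e | e
    · exact ⟨0, by refine Prod.ext ?_ ?_ <;> simp [e]⟩
    · exact ⟨1, by refine Prod.ext ?_ ?_ <;> simp [e, tN]⟩
  have hconjV : ∀ v ∈ VN, ∃ l : Fin 2, μ⁻¹ * L.ι v * μ = L.ι v * L.t ^ l.val := by
    have hi' : ∀ y : G, μ * y * μ⁻¹ = L.t * y → μ⁻¹ * y * μ = L.t * y := by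
      intro y e
      calc μ⁻¹ * y * μ = μ⁻¹ * (μ * (L.t * y) * μ⁻¹) * μ := by rw [hfix μ hμt _ e]
        _ = _ := by group
    rintro v (rfl | rfl | rfl | rfl)
    · exact ⟨0, by simp⟩
    · exact ⟨0, by rw [mul_assoc, ← hμa.eq]; simp⟩
    · exact ⟨1, by rw [hi' _ hμb, Fin.val_one, pow_one, ← map_mul, ← map_mul]; exact L.ι_eq (by decide +kernel)⟩
    · refine ⟨1, ?_⟩
      rw [hi' _ (by rw [map_mul, hμab, ← map_mul, ← map_mul, ← map_mul, ← map_mul]; exact L.ι_eq (by decide +kernel)),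
        Fin.val_one, pow_one, ← map_mul, ← map_mul]
      exact L.ι_eq (by decide +kernel)
  have hPeq : P = L.ι ((1, m.2) : N35) * L.t ^ i.val := by rw [hm, ← map_pow, ← map_mul, ← hi]
  obtain ⟨l, hl⟩ := hconjV _ hmV
  have hrot : r * P * r⁻¹ = μ⁻¹ * P * μ := by
    have h3 : r ^ 3 = 1 := by rw [hr, ← map_pow, show rN ^ 3 = 1 by decide +kernel, map_one]
    have e : r * f * r⁻¹ = f' := by
      rw [hf, hf']
      calc r * (r * μ * r⁻¹) * r⁻¹ = r⁻¹ * (r ^ 3) * μ * (r ^ 3)⁻¹ * r := by rw [pow_three]; group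
        _ = _ := by rw [h3]; group
    calc r * P * r⁻¹ = f * (r * f * r⁻¹) * (r * f' * r⁻¹) := by rw [hP, hf]; group
      _ = f * f' * μ := by rw [e, hf']; group
      _ = _ := by rw [hP]; group
  have hv1 : ((1, m.2) : N35) = 1 := by
    rw [hPeq] at hrot
    have e : μ⁻¹ * (L.ι ((1, m.2) : N35) * L.t ^ i.val) * μ = L.ι ((1, m.2) : N35) * L.t ^ (l + i).val := by
      calc μ⁻¹ * (L.ι ((1, m.2) : N35) * L.t ^ i.val) * μ
          = μ⁻¹ * L.ι ((1, m.2) : N35) * μ * (μ⁻¹ * L.t ^ i.val * μ) := by group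
        _ = L.ι ((1, m.2) : N35) * L.t ^ l.val * L.t ^ i.val := by
          rw [hl, mul_assoc μ⁻¹, ← (hμt.pow_right _).eq, inv_mul_cancel_left]
        _ = _ := by
          rw [mul_assoc, ← pow_add]
          congr 1
          fin_cases l <;> fin_cases i <;> simp [pow_two, htt]
    rw [e, ← map_pow, ← map_pow, ← map_mul, ← map_mul, hr, ← map_inv, ← map_mul, ← map_mul] at hrot
    exact VN_v_fix _ hmV i (l + i) (L.inj hrot)
  rw [hv1, map_one, one_mul] at hPeq
  have hff : f * f' = μ⁻¹ * L.t ^ i.val := by rw [← hPeq, hP]; group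
  have hkk : L.k * L.k = 1 := L.sq_one (by decide +kernel)
  have hki : L.k⁻¹ = L.k := inv_eq_of_mul_eq_one_right hkk
  have hkr : L.k * r = r⁻¹ * L.k := by
    rw [hr, ← map_inv, ← map_mul, ← map_mul]; exact L.ι_eq (by decide +kernel)
  have hkr' : r⁻¹ * L.k = L.k * r := hkr.symm
  obtain ⟨e, he⟩ : ∃ e : Fin 2, L.k * μ * L.k = μ * L.t ^ e.val := by
    rcases hk with h | h
    · exact ⟨0, by simpa using h⟩
    · exact ⟨1, by simpa using h⟩
  have hkf : L.k * f * L.k = f' * L.t ^ e.val := by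
    calc L.k * f * L.k = L.k * r * μ * (r⁻¹ * L.k) := by rw [hf]; group
      _ = r⁻¹ * L.k * μ * (L.k * r) := by rw [hkr, hkr']
      _ = r⁻¹ * (L.k * μ * L.k) * r := by group
      _ = f' * L.t ^ e.val := by
        rw [he, hf', mul_assoc, mul_assoc μ, ← (hrt.pow_right _).eq]; group
  have htp : ∀ n : ℕ, (L.t ^ n)⁻¹ = L.t ^ n := fun n => inv_eq_of_mul_eq_one_right (by
    rw [← (Commute.refl L.t).mul_pow, htt, one_pow])
  obtain ⟨g₀, hg₀⟩ : ∃ g₀ : G, g₀ * L.j * g₀⁻¹ = L.k :=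
    ⟨L.ι ((1, swap 1 3 * swap 2 4) : N35), by rw [← map_inv, ← map_mul, ← map_mul]; exact L.ι_eq (by decide +kernel)⟩
  have hx : f * L.k * f⁻¹ = μ⁻¹ * (r⁻¹ * (μ * μ) * r)⁻¹ * L.k * L.t ^ (i + e).val := by
    have hck : Commute L.k L.t := Commute.map (by rw [commute_iff_eq]; decide +kernel : Commute kN tN) L.ι
    have e0 : L.k * f⁻¹ * L.k = L.t ^ e.val * f'⁻¹ := by
      rw [← htp e.val, ← mul_inv_rev, ← hkf, mul_inv_rev (L.k * f), mul_inv_rev L.k, hki]
      group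
    have hfsq : f' * f' = r⁻¹ * (μ * μ) * r := by rw [hf']; group
    have hcf : Commute f'⁻¹ L.t := hf't.inv_left
    calc f * L.k * f⁻¹ = f * (L.k * f⁻¹ * L.k) * L.k := by
          rw [show f * (L.k * f⁻¹ * L.k) * L.k = f * L.k * f⁻¹ * (L.k * L.k) by group, hkk, mul_one]
      _ = (f * f') * (f'⁻¹ * L.t ^ e.val * f'⁻¹) * L.k := by rw [e0]; group
      _ = μ⁻¹ * L.t ^ i.val * (L.t ^ e.val * (f' * f')⁻¹) * L.k := by
          rw [hff, (hcf.pow_right _).eq]; group
      _ = μ⁻¹ * (f' * f')⁻¹ * L.k * (L.t ^ i.val * L.t ^ e.val) := by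
          have h1 : Commute (L.t ^ i.val * L.t ^ e.val) ((f' * f')⁻¹ * L.k) := by
            rw [← pow_add]
            exact ((hf't.mul_left hf't).inv_left.mul_left hck).symm.pow_left _
          calc μ⁻¹ * L.t ^ i.val * (L.t ^ e.val * (f' * f')⁻¹) * L.k
              = μ⁻¹ * ((L.t ^ i.val * L.t ^ e.val) * ((f' * f')⁻¹ * L.k)) := by group
            _ = μ⁻¹ * (((f' * f')⁻¹ * L.k) * (L.t ^ i.val * L.t ^ e.val)) := by rw [h1.eq]
            _ = _ := by group
      _ = _ := by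
          rw [hfsq, ← pow_add]
          congr 1
          fin_cases i <;> fin_cases e <;> simp [pow_two, htt]
  refine ⟨i + e, f * g₀, ?_⟩
  rw [map_inv, ← hx, ← hg₀]
  group

end Data

end CfsgLib.S8ThreeLocal
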